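import Cfsg.Agent.H198.TriSpec

/-!
# Rigidity of the special root elements (helper126, market tasks 230 and 232 of helper198)

* `rigid` : a semisimilarity which centralises (modulo the centre) all Siegel elements of rational special pairs is a
  scalar times a field automorphism, times `1` or `κ`;
* `core_p` : `O_r` of the fixed points of `Ψ(fG σ) ρ` is trivial, if it has no nontrivial fixed points of `ρ`;
* `chase`, `stab_chase`, `sg_mem_AutD`, `omul_x0`, `omul_single`: tools.
-/

set_option autoImplicit false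

namespace Cfsg.Agent.H126.TriRigid

open Module QuadraticMap Cfsg.Agent.LieClassical.OrthCore Cfsg.Agent.LieClassical.OrthTrans
  Cfsg.Agent.LieClassical.OrthSimple Cfsg.Agent.ClassicalGeometry.OrthAut1
  Cfsg.Agent.ClassicalGeometry.OrthSemi Cfsg.Agent.H198.Classes
  Cfsg.Agent.LieClassical.QuadForms Cfsg.Agent.H198.ClassesPlus
  Cfsg.Agent.ClassicalGeometry.TrialityOct Cfsg.Agent.ClassicalGeometry.Triality
  Cfsg.Agent.ClassicalGeometry.TrialitySpaces Cfsg.Agent.H198.TriBase Cfsg.Agent.H198.TriAut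
  Cfsg.Agent.H206.Balance Cfsg.Agent.H198.BalVar Cfsg.Agent.H198.TriDia Cfsg.Agent.H198.TriSpec

universe u

variable {F : Type u} [Field F]

/-- unit vectors -/
abbrev eU (F : Type u) [Field F] (i : Fin 4) : V8 F := Pi.single (.inl i) 1
/-- unit vectors -/
abbrev eW (F : Type u) [Field F] (i : Fin 4) : V8 F := Pi.single (.inr i) 1

/-- the root map -/
def rA (u w z : V8 F) : V8 F := polar (plusForm 4 F) u z • w - polar (plusForm 4 F) w z • u

/-- the special vector `e1 - e2 + u1 + v1` -/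
def x0 (F : Type u) [Field F] : V8 F := Sum.elim ![1, 1, 0, 0] ![-1, 1, 0, 0]
/-- the special vector `u2 - v3` -/
def w0 (F : Type u) [Field F] : V8 F := Sum.elim ![0, 0, 1, 0] ![0, 0, 0, -1]

theorem sp_x0 : Sp (x0 F) (w0 F) := by
  refine ⟨?_, ?_, ?_, ?_⟩ <;> apply ext8 <;>
    simp [omul_l0, omul_l1, omul_l2, omul_l3, omul_r0, omul_r1, omul_r2, omul_r3, x0, w0]

theorem sp_single {i j : Fin 4} (hi : i ≠ 0) (hj : j ≠ 0) (hij : i ≠ j) : Sp (eU F i) (eW F j) := by
  revert hi hj hij
  fin_cases i <;> fin_cases j <;> intro hi hj hij <;>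
    first
    | exact absurd rfl hi
    | exact absurd rfl hj
    | exact absurd rfl hij
    | (refine ⟨?_, ?_, ?_, ?_⟩ <;> apply ext8 <;>
        simp [omul_l0, omul_l1, omul_l2, omul_l3, omul_r0, omul_r1, omul_r2, omul_r3])

theorem polar_eU (i : Fin 4) (z : V8 F) : polar (plusForm 4 F) (eU F i) z = z (.inr i) := by
  rw [polar8]
  fin_cases i <;> simp

theorem polar_eW (i : Fin 4) (z : V8 F) : polar (plusForm 4 F) (eW F i) z = z (.inl i) := by
  rw [polar8]
  fin_cases i <;> simp

theorem rat_single (k : Fin 4 ⊕ Fin 4) : Rat (Pi.single k 1 : V8 F) := by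
  intro τ
  funext i
  rw [fG_apply]
  by_cases h : i = k
  · subst h; simp
  · simp [h]

theorem rat_x0 : Rat (x0 F) := by
  intro τ
  apply ext8 <;> rw [fG_apply] <;> simp [x0]

theorem rat_w0 : Rat (w0 F) := by
  intro τ
  apply ext8 <;> rw [fG_apply] <;> simp [w0]

theorem rA_single (i j : Fin 4) (z : V8 F) : rA (eU F i) (eW F j) z = z (.inr i) • eW F j - z (.inl j) • eU F i := by
  rw [rA, polar_eU, polar_eW]

theorem rA_x0 (z : V8 F) : rA (x0 F) (w0 F) z = (z (.inr 0) - z (.inl 0) + z (.inr 1) + z (.inl 1)) • w0 F -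
    (z (.inr 2) - z (.inl 3)) • x0 F := by
  rw [rA, polar8, polar8]
  simp only [x0, w0, Sum.elim_inl, Sum.elim_inr, Matrix.cons_val_zero, Matrix.cons_val_one, Matrix.cons_val]
  congr 2 <;> ring

theorem oconj_eU (i : Fin 4) (hi : i ≠ 0) : oconj (eU F i) = - eU F i := by
  fin_cases i
  · exact absurd rfl hi
  all_goals apply ext8 <;> simp [oconj_l0, oconj_l1, oconj_l2, oconj_l3, oconj_r0, oconj_r1, oconj_r2, oconj_r3]

theorem oconj_eW (i : Fin 4) (hi : i ≠ 0) : oconj (eW F i) = - eW F i := by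
  fin_cases i
  · exact absurd rfl hi
  all_goals apply ext8 <;> simp [oconj_l0, oconj_l1, oconj_l2, oconj_l3, oconj_r0, oconj_r1, oconj_r2, oconj_r3]

theorem oconj_eU0 : oconj (eU F 0) = eW F 0 := by
  apply ext8 <;> simp [oconj_l0, oconj_l1, oconj_l2, oconj_l3, oconj_r0, oconj_r1, oconj_r2, oconj_r3]

theorem oconj_eW0 : oconj (eW F 0) = eU F 0 := by
  apply ext8 <;> simp [oconj_l0, oconj_l1, oconj_l2, oconj_l3, oconj_r0, oconj_r1, oconj_r2, oconj_r3]

/-- A linear map commuting with the special root maps. -/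
theorem chase {L : V8 F →ₗ[F] V8 F} {c : F} (hn : ∀ z, plusForm 4 F (L z) = c * plusForm 4 F z)
    (hA : ∀ u w : V8 F, Sp u w → Rat u → Rat w → ∀ z, rA u w (L z) = L (rA u w z)) :
    ∃ a : F, (∀ z, L z = a • z) ∨ (∀ z, L z = a • oconj z) := by
  have h1 : ∀ i j : Fin 4, i ≠ 0 → j ≠ 0 → i ≠ j → ∀ z, (L z) (.inr i) • eW F j - (L z) (.inl j) • eU F i =
      L (z (.inr i) • eW F j - z (.inl j) • eU F i) := by
    intro i j hi hj hij z
    rw [← rA_single, ← rA_single]
    exact hA _ _ (sp_single hi hj hij) (rat_single _) (rat_single _) z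
  have h2 : ∀ z, rA (x0 F) (w0 F) (L z) = L (rA (x0 F) (w0 F) z) := hA _ _ sp_x0 rat_x0 rat_w0
  -- images of the `eW j`
  have hW : ∀ i j k : Fin 4, i ≠ 0 → j ≠ 0 → k ≠ 0 → i ≠ j → k ≠ j → i ≠ k →
      L (eW F j) = (L (eW F i)) (.inr i) • eW F j := by
    intro i j k hi hj hk hij hkj hik
    have e1 := h1 i j hi hj hij (eW F i)
    have e2 := h1 k j hk hj hkj (eW F k)
    simp only [Pi.single_eq_same, one_smul, Pi.single_apply, reduceCtorEq, if_false, zero_smul, sub_zero] at e1 e2
    have e3 := congrFun (e1.trans e2.symm) (.inl i)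
    simp [hik] at e3
    rw [← e1, e3, zero_smul, sub_zero]
  have hU : ∀ i j k : Fin 4, i ≠ 0 → j ≠ 0 → k ≠ 0 → i ≠ j → k ≠ i → j ≠ k →
      L (eU F i) = (L (eU F j)) (.inl j) • eU F i := by
    intro i j k hi hj hk hij hki hjk
    have e1 := h1 i j hi hj hij (eU F j)
    have e2 := h1 i k hi hk hki.symm (eU F k)
    simp only [Pi.single_eq_same, one_smul, Pi.single_apply, reduceCtorEq, if_false, zero_smul, zero_sub, map_neg]
      at e1 e2
    have e3 := congrFun (e1.trans e2.symm) (.inr j)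
    simp [hjk] at e3
    rw [e3, zero_smul, zero_sub, neg_inj] at e1
    exact e1.symm
  have hW2 := hW 1 2 3 (by decide) (by decide) (by decide) (by decide) (by decide) (by decide)
  have hW3 := hW 1 3 2 (by decide) (by decide) (by decide) (by decide) (by decide) (by decide)
  have hW1 := hW 2 1 3 (by decide) (by decide) (by decide) (by decide) (by decide) (by decide)
  have hU2 := hU 2 1 3 (by decide) (by decide) (by decide) (by decide) (by decide) (by decide)
  have hU3 := hU 3 1 2 (by decide) (by decide) (by decide) (by decide) (by decide) (by decide)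
  have hU1 := hU 1 2 3 (by decide) (by decide) (by decide) (by decide) (by decide) (by decide)
  set a := (L (eW F 1)) (.inr 1) with ha
  set b := (L (eU F 1)) (.inl 1) with hb
  rw [hW2] at hW1
  rw [hU2] at hU1
  simp only [Pi.smul_apply, Pi.single_eq_same, smul_eq_mul, mul_one] at hW1 hU1
  -- the coordinates of the images of `e1`, `e2`
  have hz : ∀ z : V8 F, (∀ i : Fin 4, i ≠ 0 → z (.inl i) = 0 ∧ z (.inr i) = 0) → ∀ i : Fin 4, i ≠ 0 →
      (L z) (.inl i) = 0 ∧ (L z) (.inr i) = 0 := by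
    intro z hz
    have key : ∀ i j : Fin 4, i ≠ 0 → j ≠ 0 → i ≠ j → (L z) (.inr i) = 0 ∧ (L z) (.inl j) = 0 := by
      intro i j hi hj hij
      have e1 := h1 i j hi hj hij z
      rw [(hz i hi).2, (hz j hj).1, zero_smul, zero_smul, sub_zero, map_zero] at e1
      have e2 := congrFun e1 (.inr j)
      have e3 := congrFun e1 (.inl i)
      simp at e2 e3
      exact ⟨e2, e3⟩
    intro i hi
    fin_cases i
    · exact absurd rfl hi
    · exact ⟨(key 2 1 (by decide) (by decide) (by decide)).2, (key 1 2 (by decide) (by decide) (by decide)).1⟩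
    · exact ⟨(key 1 2 (by decide) (by decide) (by decide)).2, (key 2 1 (by decide) (by decide) (by decide)).1⟩
    · exact ⟨(key 1 3 (by decide) (by decide) (by decide)).2, (key 3 1 (by decide) (by decide) (by decide)).1⟩
  have z1 := hz (eU F 0) (by intro i hi; simp [hi])
  have z2 := hz (eW F 0) (by intro i hi; simp [hi])
  set p := (L (eU F 0)) (.inl 0) with hp
  set q := (L (eU F 0)) (.inr 0) with hq
  set r := (L (eW F 0)) (.inl 0) with hr
  set s := (L (eW F 0)) (.inr 0) with hs
  have hL1 : L (eU F 0) = p • eU F 0 + q • eW F 0 := by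
    apply ext8 <;> simp [z1, hp, hq]
  have hL2 : L (eW F 0) = r • eU F 0 + s • eW F 0 := by
    apply ext8 <;> simp [z2, hr, hs]
  have hx0 : x0 F = eU F 0 - eW F 0 + eU F 1 + eW F 1 := by
    apply ext8 <;> simp [x0]
  have hw0 : w0 F = eU F 2 - eW F 3 := by
    apply ext8 <;> simp [w0]
  -- the relations
  have r1 := h2 (eU F 1)
  have r2 := h2 (eU F 3)
  have r3 := h2 (eU F 0)
  have r4 := h2 (eW F 0)
  have hLw : L (w0 F) = b • eU F 2 - a • eW F 3 := by rw [hw0, map_sub, hU2, hW3]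
  have hLx : L (x0 F) = (p - r) • eU F 0 + (q - s) • eW F 0 + b • eU F 1 + a • eW F 1 := by
    rw [hx0, map_add, map_add, map_sub, hL1, hL2, hU1, hW1]
    module
  rw [rA_x0, rA_x0, map_sub, map_smul, map_smul, hLw, hLx] at r1 r2 r3 r4
  rw [hU1] at r1
  rw [hU3] at r2
  have a1 := congrFun r1 (.inr 3)
  have a2 := congrFun r2 (.inl 0)
  have a3 := congrFun r3 (.inl 2)
  have a4 := congrFun r4 (.inl 2)
  simp [x0, w0] at a1 a2 a3 a4
  rw [(z1 1 (by decide)).1, (z1 1 (by decide)).2, ← hp, ← hq, add_zero, add_zero] at a3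
  rw [(z2 1 (by decide)).1, (z2 1 (by decide)).2, ← hr, ← hs, add_zero, add_zero] at a4
  have hpq : p * q = 0 := by
    have := hn (eU F 0)
    rw [norm8, norm8, hL1] at this
    simpa using this
  have e1 : r = q := by linear_combination a2 - a3
  have e2 : s = p := by linear_combination a4 + a2
  rcases mul_eq_zero.1 hpq with h0 | h0
  · refine ⟨-b, Or.inr fun z => ?_⟩
    have h3 : L = (-b) • (kap F : V8 F →ₗ[F] V8 F) := by
      apply (Pi.basisFun F (Fin 4 ⊕ Fin 4)).ext
      intro k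
      rw [Pi.basisFun_apply, LinearMap.smul_apply]
      change L _ = (-b) • oconj _
      rw [h0] at e2 a2
      rw [e1, zero_sub] at a2
      have hq' : q = -b := by rw [a2, neg_neg]
      have o1 := oconj_eU (F := F)
      have o2 := oconj_eW (F := F)
      have o3 := oconj_eU0 (F := F)
      have o4 := oconj_eW0 (F := F)
      rcases k with k | k <;> fin_cases k
      · change L (eU F 0) = (-b) • oconj (eU F 0)
        rw [o3, hL1, h0, hq', zero_smul, zero_add]
      · change L (eU F 1) = (-b) • oconj (eU F 1)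
        rw [o1 1 (by decide), hU1, smul_neg, neg_smul, neg_neg]
      · change L (eU F 2) = (-b) • oconj (eU F 2)
        rw [o1 2 (by decide), hU2, smul_neg, neg_smul, neg_neg]
      · change L (eU F 3) = (-b) • oconj (eU F 3)
        rw [o1 3 (by decide), hU3, smul_neg, neg_smul, neg_neg]
      · change L (eW F 0) = (-b) • oconj (eW F 0)
        rw [o4, hL2, e2, e1, hq', zero_smul, add_zero]
      · change L (eW F 1) = (-b) • oconj (eW F 1)
        rw [o2 1 (by decide), hW1, smul_neg, neg_smul, neg_neg, a1]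
      · change L (eW F 2) = (-b) • oconj (eW F 2)
        rw [o2 2 (by decide), hW2, smul_neg, neg_smul, neg_neg, a1]
      · change L (eW F 3) = (-b) • oconj (eW F 3)
        rw [o2 3 (by decide), hW3, smul_neg, neg_smul, neg_neg, a1]
    exact LinearMap.congr_fun h3 z
  · refine ⟨b, Or.inl fun z => ?_⟩
    have h3 : L = b • (LinearMap.id : V8 F →ₗ[F] V8 F) := by
      apply (Pi.basisFun F (Fin 4 ⊕ Fin 4)).ext
      intro k
      rw [Pi.basisFun_apply, LinearMap.smul_apply, LinearMap.id_apply]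
      rw [e1, h0, sub_zero] at a2
      rcases k with k | k <;> fin_cases k
      · change L (eU F 0) = b • eU F 0
        rw [hL1, h0, zero_smul, add_zero, a2]
      · exact hU1
      · exact hU2
      · exact hU3
      · change L (eW F 0) = b • eW F 0
        rw [hL2, e1, h0, zero_smul, zero_add, e2, a2]
      · change L (eW F 1) = b • eW F 1
        rw [hW1, a1]
      · change L (eW F 2) = b • eW F 2
        rw [hW2, a1]
      · change L (eW F 3) = b • eW F 3
        rw [hW3, a1]
    exact LinearMap.congr_fun h3 z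

/-- `sg` in terms of the root map -/
theorem sg_rA {u w : V8 F} (h : Sp u w) (z : V8 F) : (sg h : V8 F ≃ₗ[F] V8 F) z = z + rA u w z := sg_apply h z

theorem rA_rA {u w : V8 F} (h : Sp u w) (z : V8 F) : rA u w (rA u w z) = 0 := by
  have h1 := polar_of_sp h
  have h2 : polar (plusForm 4 F) w u = 0 := by rw [polar_comm]; exact h1
  have h3 : polar (plusForm 4 F) u u = 0 := by rw [polar_self, norm_of_sq h.uu, smul_zero]
  have h4 : polar (plusForm 4 F) w w = 0 := by rw [polar_self, norm_of_sq h.ww, smul_zero]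
  rw [rA, rA, polar_sub_right, polar_sub_right, polar_smul_right, polar_smul_right, polar_smul_right,
    polar_smul_right, h1, h2, h3, h4]
  simp

theorem rA_add (u w y z : V8 F) : rA u w (y + z) = rA u w y + rA u w z := by
  rw [rA, rA, rA, polar_add_right, polar_add_right]
  module

theorem rA_smul (u w z : V8 F) (c : F) : rA u w (c • z) = c • rA u w z := by
  rw [rA, rA, polar_smul_right, polar_smul_right]
  module

theorem rigid_lin (hG : Good (plusForm 4 F)) {N : G8 F} {c : F} (hN : IsSS (plusForm 4 F) (RingEquiv.refl F) c N.1)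
    (h : ∀ (u w : V8 F) (hs : Sp u w), Rat u → Rat w → Psi (plusForm 4 F) N ((sg hs : ↥(E (plusForm 4 F))) : P8 F) =
      ((sg hs : ↥(E (plusForm 4 F))) : P8 F)) :
    ∃ c : Fˣ, N = scal (plusForm 4 F) c ∨ N = scal (plusForm 4 F) c * kapG F := by
  let L : V8 F →ₗ[F] V8 F :=
    { toFun := N.1
      map_add' := hN.add
      map_smul' := hN.smul }
  have hL : ∀ z, L z = N.1 z := fun _ => rfl
  have hA : ∀ u w : V8 F, Sp u w → Rat u → Rat w → ∀ z, rA u w (L z) = L (rA u w z) := by
    intro u w hs hu hw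
    have h1 := h u w hs hu hw
    rw [Psi_mk] at h1
    obtain ⟨d, hd, hd'⟩ := sign_of_mk_eq hG h1
    have h2 : ∀ z, L z + rA u w (L z) = d • (L z + L (rA u w z)) := by
      intro z
      have h3 := hd' (N.1 z)
      rw [coe_conjE, conjLin_apply', sg_rA, sg_rA, hN.add] at h3
      exact h3
    have h5 : d = 1 → ∀ z, rA u w (L z) = L (rA u w z) := by
      intro h4 z
      have h5 := h2 z
      rw [h4, one_smul] at h5
      exact add_left_cancel h5
    rcases mul_self_eq_one_iff.1 hd with h4 | h4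
    · exact h5 h4
    · by_cases h22 : (2 : F) = 0
      · apply h5
        rw [h4]
        linear_combination -h22
      · intro z
        have k1 := h2 (rA u w z)
        have k2 := congrArg (rA u w) (h2 z)
        rw [rA_rA hs, map_zero, add_zero] at k1
        rw [rA_add, rA_rA hs, rA_smul, rA_add, add_zero] at k2
        rw [h4] at k1 k2
        have k3 : (2 : F) • (rA u w (L z) - L (rA u w z)) = 0 := by
          have k4 : (2 : F) • rA u w (L z) + rA u w (L (rA u w z)) = 0 := by
            rw [two_smul]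
            nth_rw 1 [k2]
            module
          have k5 : (2 : F) • L (rA u w z) + rA u w (L (rA u w z)) = 0 := by
            rw [two_smul, add_assoc, k1]
            module
          rw [smul_sub, sub_eq_zero]
          exact add_right_cancel (k4.trans k5.symm)
        rcases smul_eq_zero.1 k3 with h6 | h6
        · exact absurd h6 h22
        · exact sub_eq_zero.1 h6
  obtain ⟨a, ha⟩ := chase (c := c) (fun z => hN.form z) hA
  have ha0 : a ≠ 0 := by
    rintro rfl
    have h5 : L (one8 F) = 0 := by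
      rcases ha with ha | ha <;> rw [ha, zero_smul]
    have h6 : N.1 (one8 F) = N.1 0 := by rw [hN.map_zero]; exact h5
    have h7 := norm_one8 (F := F)
    rw [N.1.injective h6, QuadraticMap.map_zero] at h7
    exact zero_ne_one h7
  refine ⟨Units.mk0 a ha0, ?_⟩
  rcases ha with ha | ha
  · left
    apply Subtype.ext
    ext1 z
    exact ha z
  · right
    apply Subtype.ext
    ext1 z
    exact ha z

theorem rigid (hG : Good (plusForm 4 F)) {N : G8 F}
    (h : ∀ (u w : V8 F) (hs : Sp u w), Rat u → Rat w → Psi (plusForm 4 F) N ((sg hs : ↥(E (plusForm 4 F))) : P8 F) =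
      ((sg hs : ↥(E (plusForm 4 F))) : P8 F)) :
    ∃ (c : Fˣ) (τ : F ≃+* F), N = scal (plusForm 4 F) c * fG τ ∨ N = scal (plusForm 4 F) c * fG τ * kapG F := by
  obtain ⟨σ, c, hN⟩ := N.2
  have hf : IsSS (plusForm 4 F) σ 1 (fG σ).1 := isSS_fP σ
  have h1 : ∃ c' : F, IsSS (plusForm 4 F) (RingEquiv.refl F) c' (N * (fG σ)⁻¹).1 := by
    have h2 := hN.mul hf.inv
    have h3 : σ.symm.trans σ = RingEquiv.refl F := by ext x; simp
    rw [h3] at h2
    exact ⟨_, h2⟩
  obtain ⟨c', hc'⟩ := h1
  have hfix : ∀ (u w : V8 F) (hs : Sp u w), Rat u → Rat w →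
      conjE (plusForm 4 F) (fG σ) (sg hs) = sg hs := by
    intro u w hs hu hw
    apply Subtype.ext
    apply LinearEquiv.ext
    intro z
    obtain ⟨z, rfl⟩ := (fG σ).1.surjective z
    have p1 := hf.polar u z
    have p2 := hf.polar w z
    rw [hu, one_mul] at p1
    rw [hw, one_mul] at p2
    rw [coe_conjE, conjLin_apply', sg_rA, sg_rA, hf.add, rA, rA, hf.sub, hf.smul, hf.smul, hu, hw, p1, p2]
  obtain ⟨d, hd⟩ := rigid_lin hG hc' (by
    intro u w hs hu hw
    have h4 := h u w hs hu hw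
    have h5 : Psi (plusForm 4 F) (fG σ)⁻¹ ((sg hs : ↥(E (plusForm 4 F))) : P8 F) =
        ((sg hs : ↥(E (plusForm 4 F))) : P8 F) := by
      have h6 : Psi (plusForm 4 F) (fG σ) ((sg hs : ↥(E (plusForm 4 F))) : P8 F) =
        ((sg hs : ↥(E (plusForm 4 F))) : P8 F) := by rw [Psi_mk, hfix u w hs hu hw]
      rw [map_inv]
      nth_rw 1 [← h6]
      rw [MulAut.inv_apply_self]
    rw [map_mul, MulAut.mul_apply, h5, h4])
  have hk : kapG F * fG σ = fG σ * kapG F := by
    have := aut_kap (tri_fG σ)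
    calc kapG F * fG σ = kapG F * fG σ * kapG F * kapG F := by rw [mul_assoc _ (kapG F), kapG_mul_kapG, mul_one]
      _ = _ := by rw [this]
  refine ⟨d, σ, ?_⟩
  rcases hd with hd | hd
  · left
    rw [← hd, inv_mul_cancel_right]
  · right
    rw [mul_assoc, ← hk, ← mul_assoc, ← hd, inv_mul_cancel_right]

/-! ### The special root elements are octonion automorphisms -/

theorem omul_x0 (x y : V8 F) : omul (x + rA (x0 F) (w0 F) x) (y + rA (x0 F) (w0 F) y) =
    omul x y + rA (x0 F) (w0 F) (omul x y) := by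
  simp only [rA_x0]
  apply ext8 <;>
  simp only [omul_l0, omul_l1, omul_l2, omul_l3, omul_r0, omul_r1, omul_r2, omul_r3,
    Pi.add_apply, Pi.sub_apply, Pi.smul_apply, smul_eq_mul, x0, w0, Sum.elim_inl, Sum.elim_inr,
    Matrix.cons_val_zero, Matrix.cons_val_one, Matrix.cons_val] <;>
  ring

theorem omul_single {i j : Fin 4} (hi : i ≠ 0) (hj : j ≠ 0) (hij : i ≠ j) (x y : V8 F) :
    omul (x + rA (eU F i) (eW F j) x) (y + rA (eU F i) (eW F j) y) =
    omul x y + rA (eU F i) (eW F j) (omul x y) := by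
  simp only [rA_single]
  revert hi hj hij
  fin_cases i <;> fin_cases j <;> intro hi hj hij <;>
    first
    | exact absurd rfl hi
    | exact absurd rfl hj
    | exact absurd rfl hij
    | (apply ext8 <;>
        simp [omul_l0, omul_l1, omul_l2, omul_l3, omul_r0, omul_r1, omul_r2, omul_r3] <;> ring)

theorem polar_O {g : V8 F ≃ₗ[F] V8 F} (hO : g ∈ O (plusForm 4 F)) (x y : V8 F) :
    polar (plusForm 4 F) (g x) (g y) = polar (plusForm 4 F) x y := by
  have h : ∀ v, plusForm 4 F (g v) = plusForm 4 F v := hO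
  rw [QuadraticMap.polar, QuadraticMap.polar, ← map_add, h, h, h]

theorem oconj_comm {g : V8 F ≃ₗ[F] V8 F} (hO : g ∈ O (plusForm 4 F)) (h1 : g (one8 F) = one8 F) (z : V8 F) :
    g (oconj z) = oconj (g z) := by
  rw [oconj_eq, oconj_eq, map_sub, map_smul, h1]
  have := polar_O hO z (one8 F)
  rw [h1] at this
  rw [this]

theorem rA_one {u w : V8 F} (h : Sp u w) : rA u w (one8 F) = 0 := by
  have e : ∀ u : V8 F, omul u u = 0 → polar (plusForm 4 F) u (one8 F) = 0 := by
    intro u hu
    have := tr_of_sq hu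
    rw [polar8]
    simp [one8, this]
  rw [rA, e u h.uu, e w h.ww, zero_smul, zero_smul, sub_zero]

theorem sg_mem_AutD {u w : V8 F} (hs : Sp u w) (hu : Rat u) (hw : Rat w)
    (hm : ∀ x y, omul (x + rA u w x) (y + rA u w y) = omul x y + rA u w (omul x y)) (σ : F ≃+* F) :
    (sg hs : V8 F ≃ₗ[F] V8 F) ∈ AutD (fG σ) := by
  refine ⟨(sg hs).2, fun a b => ?_⟩
  have h1 : (sg hs : V8 F ≃ₗ[F] V8 F) (one8 F) = one8 F := by rw [sg_rA, rA_one hs, add_zero]
  have hf : IsSS (plusForm 4 F) σ 1 (fG σ).1 := isSS_fP σ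
  have h2 : ∀ z, (sg hs : V8 F ≃ₗ[F] V8 F) ((fG σ).1 z) = (fG σ).1 ((sg hs : V8 F ≃ₗ[F] V8 F) z) := by
    intro z
    have p1 := hf.polar u z
    have p2 := hf.polar w z
    rw [hu, one_mul] at p1
    rw [hw, one_mul] at p2
    rw [sg_rA, sg_rA, hf.add, rA, rA, hf.sub, hf.smul, hf.smul, hu, hw, p1, p2]
  have h3 : ∀ z, (sg hs : V8 F ≃ₗ[F] V8 F) ((fG σ)⁻¹.1 z) = (fG σ)⁻¹.1 ((sg hs : V8 F ≃ₗ[F] V8 F) z) := by
    intro z
    have apply_inv : ∀ x : V8 F, (fG σ).1 ((fG σ)⁻¹.1 x) = x := fun x => (fG σ).1.apply_symm_apply x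
    apply (fG σ).1.injective
    rw [← h2, apply_inv, apply_inv]
  have h4 : ∀ x y, (sg hs : V8 F ≃ₗ[F] V8 F) (omul x y) = omul ((sg hs : V8 F ≃ₗ[F] V8 F) x) ((sg hs : V8 F ≃ₗ[F] V8 F) y) := by
    intro x y
    rw [sg_rA, sg_rA, sg_rA, hm]
  rw [dia, dia, h4, h3, h2, oconj_comm (E_le_O (sg hs).2) h1, oconj_comm (E_le_O (sg hs).2) h1]

/-- A subspace stable under the special root maps, not in `F·1`, contains `1^⊥`. -/
theorem stab_chase {W : Submodule F (V8 F)} (h1 : ∀ z ∈ W, rA (x0 F) (w0 F) z ∈ W)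
    (h2 : ∀ i j : Fin 4, i ≠ 0 → j ≠ 0 → i ≠ j → ∀ z ∈ W, rA (eU F i) (eW F j) z ∈ W)
    {z : V8 F} (hz : z ∈ W) (hz1 : z ≠ z (.inl 0) • one8 F) :
    (∀ i : Fin 4, i ≠ 0 → eU F i ∈ W ∧ eW F i ∈ W) ∧ eU F 0 - eW F 0 ∈ W := by
  have third : ∀ i j : Fin 4, i ≠ 0 → j ≠ 0 → i ≠ j → ∃ k : Fin 4, k ≠ 0 ∧ k ≠ i ∧ k ≠ j := by decide
  have second : ∀ i : Fin 4, i ≠ 0 → ∃ j : Fin 4, j ≠ 0 ∧ i ≠ j := by decide
  -- a vector with nonzero `inr` coordinate
  have stepW : ∀ z ∈ W, ∀ i : Fin 4, i ≠ 0 → z (.inr i) ≠ 0 → ∀ j : Fin 4, j ≠ 0 → eW F j ∈ W := by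
    intro z hz i hi hzi
    have a1 : ∀ j k : Fin 4, j ≠ 0 → k ≠ 0 → i ≠ j → k ≠ i → k ≠ j → eW F k ∈ W := by
      intro j k hj hk hij hki hkj
      have b1 := h2 i j hi hj hij z hz
      have b2 := h2 j k hj hk hkj.symm _ b1
      rw [rA_single, rA_single] at b2
      have b3 : z (.inr i) • eW F k ∈ W := by
        convert b2 using 1
        simp [hki]
      exact (W.smul_mem_iff hzi).1 b3
    have a2 : ∀ k : Fin 4, k ≠ 0 → k ≠ i → eW F k ∈ W := by
      intro k hk hki
      obtain ⟨j, hj, hji, hjk⟩ := third i k hi hk hki.symm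
      exact a1 j k hj hk hji.symm hki hjk.symm
    intro j hj
    by_cases hji : j = i
    · subst hji
      obtain ⟨k, hk, hjk⟩ := second j hj
      have b1 := h2 k j hk hj hjk.symm _ (a2 k hk hjk.symm)
      rw [rA_single] at b1
      simpa using b1
    · exact a2 j hj hji
  have stepU : ∀ z ∈ W, ∀ i : Fin 4, i ≠ 0 → z (.inl i) ≠ 0 → ∀ j : Fin 4, j ≠ 0 → eU F j ∈ W := by
    intro z hz i hi hzi
    have a1 : ∀ j k : Fin 4, j ≠ 0 → k ≠ 0 → i ≠ j → k ≠ i → k ≠ j → eU F k ∈ W := by
      intro j k hj hk hij hki hkj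
      have b1 := h2 j i hj hi hij.symm z hz
      have b2 := h2 k j hk hj hkj _ b1
      rw [rA_single, rA_single] at b2
      have b3 : z (.inl i) • eU F k ∈ W := by
        convert b2 using 1
        simp [hki]
      exact (W.smul_mem_iff hzi).1 b3
    have a2 : ∀ k : Fin 4, k ≠ 0 → k ≠ i → eU F k ∈ W := by
      intro k hk hki
      obtain ⟨j, hj, hji, hjk⟩ := third i k hi hk hki.symm
      exact a1 j k hj hk hji.symm hki hjk.symm
    intro j hj
    by_cases hji : j = i
    · subst hji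
      obtain ⟨k, hk, hjk⟩ := second j hj
      have b1 := h2 j k hj hk hjk _ (a2 k hk hjk.symm)
      rw [rA_single] at b1
      simpa using b1
    · exact a2 j hj hji
  -- if `w0` is in `W`
  have hw : w0 F ∈ W → (∀ i : Fin 4, i ≠ 0 → eU F i ∈ W ∧ eW F i ∈ W) ∧ eU F 0 - eW F 0 ∈ W := by
    intro hw
    have hU := stepU _ hw 2 (by decide) (by simp [w0])
    have hW := stepW _ hw 3 (by decide) (by simp [w0])
    refine ⟨fun i hi => ⟨hU i hi, hW i hi⟩, ?_⟩
    have b1 := h1 _ (hU 3 (by decide))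
    rw [rA_x0] at b1
    have b2 : x0 F ∈ W := by simpa using b1
    have b3 := W.sub_mem (W.sub_mem b2 (hU 1 (by decide))) (hW 1 (by decide))
    convert b3 using 1
    apply ext8 <;> simp [x0]
  have hw' : ∀ z ∈ W, z (.inr 2) - z (.inl 3) = 0 → z (.inr 0) - z (.inl 0) + z (.inr 1) + z (.inl 1) ≠ 0 →
      w0 F ∈ W := by
    intro z hz e1 e2
    have b1 := h1 z hz
    rw [rA_x0, e1, zero_smul, sub_zero] at b1
    exact (W.smul_mem_iff e2).1 b1
  by_cases c1 : ∃ i : Fin 4, i ≠ 0 ∧ z (.inr i) ≠ 0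
  · obtain ⟨i, hi, hzi⟩ := c1
    exact hw (hw' _ (stepW z hz i hi hzi 1 (by decide)) (by simp) (by simp))
  by_cases c2 : ∃ i : Fin 4, i ≠ 0 ∧ z (.inl i) ≠ 0
  · obtain ⟨i, hi, hzi⟩ := c2
    exact hw (hw' _ (stepU z hz i hi hzi 1 (by decide)) (by simp) (by simp))
  push Not at c1 c2
  apply hw
  apply hw' z hz
  · rw [c1 2 (by decide), c2 3 (by decide), sub_zero]
  · rw [c1 1 (by decide), c2 1 (by decide), add_zero, add_zero]
    intro h0
    apply hz1
    have := sub_eq_zero.1 h0
    apply ext8 <;> simp [one8, c1, c2, this]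

theorem core_p_gen [Finite F] (hG : Good (plusForm 4 F)) {σ : F ≃+* F}
    {r : ℕ} [Fact r.Prime] [CharP F r] (M : Subgroup (P8 F)) (hM : M ≤ Fx (xt hG (fG σ)))
    (hn : ∀ c ∈ Fx (xt hG (fG σ)), ∀ a ∈ M, c * a * c⁻¹ ∈ M) (hp : IsPGroup r M)
    (hρ : ∀ a ∈ M, rho hG a = a → a = 1) : M = ⊥ := by
  have hτ := tri_fG σ
  set R : Subgroup ↥(AutD (fG σ)) := M.comap (mkD (fG σ)) with hR
  have hRp : IsPGroup r R := hp.comap_of_injective _ (mkD_injective hG _)
  -- the reduction
  suffices key : ∀ g : ↥(AutD (fG σ)), g ∈ R → mkD (fG σ) g = 1 by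
    rw [eq_bot_iff]
    intro a ha
    obtain ⟨g, hg⟩ := (mkD_range hG hτ).symm ▸ hM ha
    rw [Subgroup.mem_bot, ← hg]
    apply key
    rw [hR, Subgroup.mem_comap, hg]
    exact ha
  -- the fixed space
  let W : Submodule F (V8 F) :=
    { carrier := {v | ∀ g : ↥(AutD (fG σ)), g ∈ R → g.1 v = v}
      add_mem' := by
        intro a b ha hb g hg
        rw [map_add, ha g hg, hb g hg]
      zero_mem' := by
        intro g hg
        rw [map_zero]
      smul_mem' := by
        intro c a ha g hg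
        rw [map_smul, ha g hg] }
  have hWmem : ∀ v, v ∈ W ↔ ∀ g : ↥(AutD (fG σ)), g ∈ R → g.1 v = v := fun _ => Iff.rfl
  have hWst : ∀ k : ↥(AutD (fG σ)), ∀ v ∈ W, k.1 v ∈ W := by
    intro k v hv g hg
    have h1 : k⁻¹ * g * k ∈ R := by
      rw [hR, Subgroup.mem_comap] at hg ⊢
      have h2 := hn (mkD (fG σ) k⁻¹) (by rw [← mkD_range hG hτ]; exact ⟨_, rfl⟩) _ hg
      rw [← map_mul, ← map_inv, ← map_mul, inv_inv] at h2
      exact h2
    have h2 := hv _ h1
    have h3 : k.1 ((k⁻¹ * g * k).1 v) = g.1 (k.1 v) := by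
      have : k * (k⁻¹ * g * k) = g * k := by group
      exact congrArg (fun z : ↥(AutD (fG σ)) => z.1 v) this
    rw [← h3, h2]
  have hW1 : ∀ u w : V8 F, ∀ hs : Sp u w, Rat u → Rat w →
      (∀ x y, omul (x + rA u w x) (y + rA u w y) = omul x y + rA u w (omul x y)) →
      ∀ z ∈ W, rA u w z ∈ W := by
    intro u w hs hu hw hm z hz
    have h1 := hWst ⟨_, sg_mem_AutD hs hu hw hm σ⟩ z hz
    have h2 := W.sub_mem h1 hz
    change (sg hs : V8 F ≃ₗ[F] V8 F) z - z ∈ W at h2
    rwa [sg_rA, add_sub_cancel_left] at h2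
  have hWx := hW1 _ _ sp_x0 rat_x0 rat_w0 omul_x0
  have hWs : ∀ i j : Fin 4, i ≠ 0 → j ≠ 0 → i ≠ j → ∀ z ∈ W, rA (eU F i) (eW F j) z ∈ W :=
    fun i j hi hj hij => hW1 _ _ (sp_single hi hj hij) (rat_single _) (rat_single _) (omul_single hi hj hij)
  by_cases hc : ∃ z ∈ W, z ≠ z (.inl 0) • one8 F
  · obtain ⟨z, hz, hz1⟩ := hc
    obtain ⟨hUW, h0⟩ := stab_chase hWx hWs hz hz1
    intro g hg
    have hO : g.1 ∈ O (plusForm 4 F) := E_le_O g.2.1
    have hQ : ∀ v, plusForm 4 F (g.1 v) = plusForm 4 F v := hO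
    have fU : ∀ i : Fin 4, i ≠ 0 → g.1 (eU F i) = eU F i := fun i hi => (hUW i hi).1 g hg
    have fW : ∀ i : Fin 4, i ≠ 0 → g.1 (eW F i) = eW F i := fun i hi => (hUW i hi).2 g hg
    have f0 := h0 g hg
    rw [map_sub] at f0
    set y := g.1 (eU F 0) with hy
    have y1 : ∀ i : Fin 4, i ≠ 0 → y (.inr i) = 0 := by
      intro i hi
      have := polar_O hO (eU F i) (eU F 0)
      rw [fU i hi, polar_eU, polar_eU] at this
      simpa using this
    have y2 : ∀ i : Fin 4, i ≠ 0 → y (.inl i) = 0 := by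
      intro i hi
      have := polar_O hO (eW F i) (eU F 0)
      rw [fW i hi, polar_eW, polar_eW] at this
      rw [← hy] at this
      rw [this]
      simp [hi]
    have y3 : y (.inr 0) - y (.inl 0) = -1 := by
      have := polar_O hO (eU F 0 - eW F 0) (eU F 0)
      rw [map_sub, f0, polar_sub_left, polar_sub_left, polar_eU, polar_eW, polar_eU, polar_eW] at this
      simpa using this
    have y4 : y (.inl 0) * y (.inr 0) = 0 := by
      have := hQ (eU F 0)
      rw [← hy, norm8, norm8, y1 1 (by decide), y1 2 (by decide), y1 3 (by decide)] at this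
      simpa using this
    have hWy : g.1 (eW F 0) = y - eU F 0 + eW F 0 := by
      have e := sub_sub_cancel y (g.1 (eW F 0))
      rw [f0] at e
      rw [← e]
      abel
    rcases mul_eq_zero.1 y4 with h5 | h5
    · exfalso
      have hyy : y = -eW F 0 := by
        rw [h5, sub_zero] at y3
        apply ext8 <;> simp [y1, y2, y3, h5]
      have hg1 : g.1.toLinearMap = -(kap F : V8 F →ₗ[F] V8 F) := by
        apply (Pi.basisFun F (Fin 4 ⊕ Fin 4)).ext
        intro k
        rw [Pi.basisFun_apply]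
        change g.1 (Pi.single k 1) = - oconj (Pi.single k 1)
        have o1 : ∀ i : Fin 4, i ≠ 0 → oconj (eU F i) = - eU F i := oconj_eU
        have o2 : ∀ i : Fin 4, i ≠ 0 → oconj (eW F i) = - eW F i := oconj_eW
        rcases k with k | k
        · by_cases hk : k = 0
          · subst hk
            change y = - oconj (eU F 0)
            rw [hyy, oconj_eU0]
          · change g.1 (eU F k) = - oconj (eU F k)
            rw [o1 k hk, neg_neg, fU k hk]
        · by_cases hk : k = 0
          · subst hk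
            change g.1 (eW F 0) = - oconj (eW F 0)
            rw [hWy, hyy, oconj_eW0]
            abel
          · change g.1 (eW F k) = - oconj (eW F k)
            rw [o2 k hk, neg_neg, fW k hk]
      have hg2 : gamO (plusForm 4 F) ⟨g.1, hO⟩ = scal _ (-1) * kapG F := by
        apply Subtype.ext
        ext1 z
        change g.1 z = ((-1 : Fˣ) : F) • oconj z
        rw [Units.val_neg, Units.val_one, neg_one_smul]
        exact LinearMap.congr_fun hg1 z
      have hg3 := kappa_of_E hG (neutral_plus 4 F) g.2.1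
      have hg4 : kp F (gamO (plusForm 4 F) ⟨g.1, hO⟩) = 1 := hg3
      rw [hg2, map_mul, kp_scal, kp_kapG, one_mul] at hg4
      exact absurd hg4 (by decide)
    · have hyy : y = eU F 0 := by
        rw [h5, zero_sub, neg_inj] at y3
        apply ext8 <;> simp [y1, y2, y3, h5]
      have : g = 1 := by
        apply Subtype.ext
        apply LinearEquiv.toLinearMap_injective
        apply (Pi.basisFun F (Fin 4 ⊕ Fin 4)).ext
        intro k
        rw [Pi.basisFun_apply]
        change g.1 (Pi.single k 1) = Pi.single k 1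
        rcases k with k | k
        · by_cases hk : k = 0
          · subst hk
            exact hyy
          · exact fU k hk
        · by_cases hk : k = 0
          · subst hk
            rw [hWy, hyy, sub_self, zero_add]
          · exact fW k hk
      rw [this, map_one]
  · push Not at hc
    -- `1` is fixed
    have h1W : one8 F ∈ W := by
      have hfp : (0 : V8 F) ∈ MulAction.fixedPoints R (V8 F) := fun g => map_zero g.1.1
      have hcard : r ∣ Nat.card (V8 F) := by
        have := Fintype.ofFinite F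
        obtain ⟨n, -, hn⟩ := FiniteField.card F r
        rw [Nat.card_fun, Nat.card_eq_fintype_card (α := F), hn]
        exact dvd_pow (dvd_pow_self r n.ne_zero) (by simp)
      obtain ⟨v, hv, hv0⟩ := hRp.exists_fixed_point_of_prime_dvd_card_of_fixed_point (V8 F) hcard hfp
      have hvW : v ∈ W := fun g hg => hv ⟨g, hg⟩
      have h3 := hc v hvW
      have h4 : v (.inl 0) ≠ 0 := by
        intro h5
        rw [h5, zero_smul] at h3
        exact hv0 h3.symm
      rw [h3] at hvW
      exact (W.smul_mem_iff h4).1 hvW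
    intro g hg
    have hO : g.1 ∈ O (plusForm 4 F) := E_le_O g.2.1
    have g1 : g.1 (one8 F) = one8 F := h1W g hg
    have gc := oconj_comm hO g1
    have gs : ∀ z, g.1 ((fG σ).1 z) = (fG σ).1 (g.1 z) := by
      intro z
      have h2 := g.2.2 (one8 F) (oconj z)
      have e1 : (fG σ)⁻¹.1 (one8 F) = one8 F := aut_one hτ.inv
      rw [dia, dia, g1, oconj_one8, e1, one_omul, one_omul, gc, oconj_oconj, oconj_oconj] at h2
      exact h2
    have gs' : ∀ z, g.1 ((fG σ)⁻¹.1 z) = (fG σ)⁻¹.1 (g.1 z) := by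
      intro z
      have apply_inv : ∀ x : V8 F, (fG σ).1 ((fG σ)⁻¹.1 x) = x := fun x => (fG σ).1.apply_symm_apply x
      apply (fG σ).1.injective
      rw [← gs, apply_inv, apply_inv]
    have gm : ∀ x y, g.1 (omul x y) = omul (g.1 x) (g.1 y) := by
      intro x y
      have apply_inv : ∀ x : V8 F, (fG σ).1 ((fG σ)⁻¹.1 x) = x := fun x => (fG σ).1.apply_symm_apply x
      have inv_apply : ∀ x : V8 F, (fG σ)⁻¹.1 ((fG σ).1 x) = x := fun x => (fG σ).1.symm_apply_apply x
      have h2 := g.2.2 (oconj ((fG σ).1 x)) (oconj ((fG σ)⁻¹.1 y))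
      rw [dia, dia, oconj_oconj, oconj_oconj, inv_apply, apply_inv, gc, gc, oconj_oconj, oconj_oconj, gs, gs',
        inv_apply, apply_inv] at h2
      exact h2
    apply hρ _ hg
    have h5 : xt hG (1 : G8 F) = rho hG := by rw [xt, map_one, one_mul]
    have h6 : mkD (fG σ) g ∈ Fx (xt hG (1 : G8 F)) := by
      rw [mem_Fx_xt hG TriS.one]
      refine ⟨⟨g.1, g.2.1⟩, rfl, g.2.1, fun a b => ?_⟩
      rw [dia_one, dia_one]
      change g.1 _ = omul (oconj (g.1 a)) (oconj (g.1 b))
      rw [gm, gc, gc]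
    rw [h5, mem_Fx] at h6
    exact h6

set_option linter.unusedVariables false in
theorem core_p [Finite F] (h3 : (3 : F) ≠ 0) (hG : Good (plusForm 4 F)) {σ : F ≃+* F} (hσ : ∀ a, σ (σ (σ a)) = a)
    {r : ℕ} [Fact r.Prime] [CharP F r] (M : Subgroup (P8 F)) (hM : M ≤ Fx (xt hG (fG σ)))
    (hn : ∀ c ∈ Fx (xt hG (fG σ)), ∀ a ∈ M, c * a * c⁻¹ ∈ M) (hp : IsPGroup r M)
    (hρ : ∀ a ∈ M, rho hG a = a → a = 1) : M = ⊥ :=
  core_p_gen hG M hM hn hp hρ

end Cfsg.Agent.H126.TriRigid
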