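import Cfsg.Agent.LFourB.MBSeven
import Cfsg.Agent.LFourA.SylPsl

/-!
# Matching the fields of `PSL_4` by Sylow 2-subgroups (helper126, market task 41 of helper751)
-/

set_option autoImplicit false

namespace Cfsg.Agent.H126.MatchFour

open Matrix Equiv DihedralGroup Cfsg.Agent.LFourB Cfsg.Agent.LFourB.Mono Cfsg.Agent.LFourA.Model

/-! ### Orders -/

theorem card_psl_one {F : Type*} [Field F] [Fintype F] {k m : ℕ} (hk : 2 ≤ k) (hm : Odd m)
    (hq : Fintype.card F = 1 + 2 ^ k * m) :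
    ∃ r, Odd r ∧ Nat.card (ProjectiveSpecialLinearGroup (Fin 4) F) = 2 ^ (3 * k + 1) * r := by
  have h1 := Cfsg.Agent.S0243.result (F := F) rfl 4 (by norm_num)
  obtain ⟨r, hr, har⟩ := arith hk hm hq
  refine ⟨r, hr, ?_⟩
  set q := Fintype.card F with hqd
  have h4 : 4 ∣ q - 1 := by
    obtain ⟨j, rfl⟩ : ∃ j, k = j + 2 := ⟨k - 2, by omega⟩
    refine ⟨2 ^ j * m, ?_⟩
    rw [hq, pow_add]
    have : 1 + 2 ^ j * 2 ^ 2 * m = 4 * (2 ^ j * m) + 1 := by ring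
    omega
  have hgcd : Nat.gcd 4 (q - 1) = 4 := Nat.gcd_eq_left h4
  have hq1 : 1 < q := Fintype.one_lt_card
  rw [hgcd, Fin.prod_univ_four] at h1
  simp only [Fin.val_zero, Fin.val_one, Fin.val_two, pow_zero, pow_one] at h1
  have h33 : ((3 : Fin 4) : ℕ) = 3 := rfl
  rw [h33] at h1
  have e1 : q ^ 4 - q = q * (q ^ 3 - 1) := by rw [Nat.mul_sub, mul_one]; ring_nf
  have e2 : q ^ 4 - q ^ 2 = q ^ 2 * (q ^ 2 - 1) := by rw [Nat.mul_sub, mul_one]; ring_nf
  have e3 : q ^ 4 - q ^ 3 = q ^ 3 * (q - 1) := by rw [Nat.mul_sub, mul_one]; ring_nf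
  rw [e1, e2, e3] at h1
  have h2 : 4 * (q - 1) * Nat.card (ProjectiveSpecialLinearGroup (Fin 4) F) =
      4 * (q - 1) * (2 ^ (3 * k + 1) * r) := by
    calc 4 * (q - 1) * Nat.card (ProjectiveSpecialLinearGroup (Fin 4) F)
        = 4 * ((q - 1) * Nat.card (ProjectiveSpecialLinearGroup (Fin 4) F)) := by ring
      _ = (q ^ 4 - 1) * (q * (q ^ 3 - 1)) * (q ^ 2 * (q ^ 2 - 1)) * (q ^ 3 * (q - 1)) := h1
      _ = (q - 1) * (q ^ 6 * ((q ^ 2 - 1) * (q ^ 3 - 1) * (q ^ 4 - 1))) := by ring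
      _ = (q - 1) * (2 ^ (3 * k + 3) * r) := by rw [har]
      _ = _ := by rw [show 3 * k + 3 = (3 * k + 1) + 2 by ring, pow_add _ (3 * k + 1)]; ring
  exact Nat.eq_of_mul_eq_mul_left (by omega) h2

theorem card_sylow_of {G : Type*} [Group G] [Finite G] {n r : ℕ} (hr : Odd r) (h : Nat.card G = 2 ^ n * r)
    (P : Sylow 2 G) : Nat.card (P : Subgroup G) = 2 ^ n := by
  have : Fact (Nat.Prime 2) := ⟨Nat.prime_two⟩
  have h1 : (Nat.card G).factorization 2 = n := by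
    rw [h, Nat.factorization_mul (by positivity) hr.pos.ne', Nat.Prime.factorization_pow Nat.prime_two]
    simp only [Finsupp.coe_add, Pi.add_apply, Finsupp.single_eq_same]
    rw [Nat.factorization_eq_zero_of_not_dvd, add_zero]
    intro h2
    exact (Nat.not_even_iff_odd.2 hr) (even_iff_two_dvd.2 h2)
  rw [P.card_eq_multiplicity, h1]

/-! ### The exponent in the case `q = 1 mod 4` -/

theorem dih_cases : ∀ σ ∈ Dih, σ * σ = 1 ∨ ((σ * σ) * (σ * σ) = 1 ∧ ∀ i : Fin 4,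
    (Finset.univ : Finset (Fin 4)) = {i, σ⁻¹ i, (σ * σ)⁻¹ i, σ⁻¹ ((σ * σ)⁻¹ i)} ∧
      i ≠ σ⁻¹ i ∧ i ≠ (σ * σ)⁻¹ i ∧ i ≠ σ⁻¹ ((σ * σ)⁻¹ i) ∧ σ⁻¹ i ≠ (σ * σ)⁻¹ i ∧
      σ⁻¹ i ≠ σ⁻¹ ((σ * σ)⁻¹ i) ∧ (σ * σ)⁻¹ i ≠ σ⁻¹ ((σ * σ)⁻¹ i)) := by decide +kernel

section Exp

variable {G : Type*} [Group G] {S : Subgroup G} {k : ℕ} {f : (Fin 4 → ZMod (2 ^ k)) → G}
  {d : Perm (Fin 4) → G}

theorem d_one (h : MB S k f d) : d 1 = 1 := by
  have h1 := h.d_mul 1 Dih.one_mem 1 Dih.one_mem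
  rw [one_mul] at h1
  exact mul_eq_left.1 h1.symm

theorem f_pow (h : MB S k f d) {a : Fin 4 → ZMod (2 ^ k)} (ha : ∑ i, a i = 0) (n : ℕ) :
    f a ^ n = f (n • a) := by
  induction n with
  | zero => rw [pow_zero, zero_smul, h.f_zero]
  | succ n ih =>
    rw [pow_succ, ih, succ_nsmul, h.f_add _ _ _ ha]
    simp only [Pi.smul_apply]
    rw [← Finset.smul_sum, ha, smul_zero]

theorem f_pow_two_pow (h : MB S k f d) {a : Fin 4 → ZMod (2 ^ k)} (ha : ∑ i, a i = 0) :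
    f a ^ 2 ^ k = 1 := by
  rw [f_pow h ha]
  have : (2 ^ k) • a = 0 := by
    funext i
    rw [Pi.smul_apply, Pi.zero_apply, nsmul_eq_mul, ZMod.natCast_self, zero_mul]
  rw [this, h.f_zero]

theorem sq_eq (h : MB S k f d) {a : Fin 4 → ZMod (2 ^ k)} (ha : ∑ i, a i = 0) {σ : Perm (Fin 4)} (hσ : σ ∈ Dih) :
    (f a * d σ) * (f a * d σ) = f (a + fun i => a (σ⁻¹ i)) * d (σ * σ) := by
  have ha' : ∑ i, (fun i => a (σ⁻¹ i)) i = 0 := (sum_perm a σ⁻¹).trans ha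
  calc (f a * d σ) * (f a * d σ) = f a * (d σ * f a) * d σ := by group
    _ = f a * (f (fun i => a (σ⁻¹ i)) * d σ) * d σ := by rw [h.d_f σ hσ a ha]
    _ = (f a * f (fun i => a (σ⁻¹ i))) * (d σ * d σ) := by group
    _ = _ := by rw [← h.f_add _ _ ha ha', ← h.d_mul σ hσ σ hσ]

theorem sum_sq {a : Fin 4 → ZMod (2 ^ k)} (ha : ∑ i, a i = 0) (σ : Perm (Fin 4)) :
    ∑ i, (a + fun i => a (σ⁻¹ i)) i = 0 := by
  simp only [Pi.add_apply]
  rw [Finset.sum_add_distrib, ha, zero_add]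
  exact (sum_perm a σ⁻¹).trans ha

theorem exponent (h : MB S k f d) {g : G} (hg : g ∈ S) : g ^ 2 ^ (k + 1) = 1 := by
  obtain ⟨a, ha, σ, hσ, rfl⟩ := (h.mem_iff g).1 hg
  rw [pow_succ', pow_mul, pow_two, sq_eq h ha hσ]
  rcases dih_cases σ hσ with h1 | ⟨h1, h2⟩
  · rw [h1, d_one h, mul_one, f_pow_two_pow h (sum_sq ha σ)]
  · obtain ⟨j, hj⟩ : ∃ j, k = j + 1 := ⟨k - 1, by have := h.hk; omega⟩
    have h3 : (2 : ℕ) ^ k = 2 * 2 ^ j := by rw [hj, pow_succ']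
    have h5 : ∀ g : G, g ^ 2 ^ k = (g * g) ^ 2 ^ j := by
      intro g
      rw [h3, pow_mul, pow_two]
    rw [h5, sq_eq h (sum_sq ha σ) (Dih.mul_mem hσ hσ), h1, d_one h, mul_one]
    have h4 : (a + fun i => a (σ⁻¹ i)) + (fun i => (a + fun i => a (σ⁻¹ i)) ((σ * σ)⁻¹ i)) = 0 := by
      funext i
      obtain ⟨hu, n1, n2, n3, n4, n5, n6⟩ := h2 i
      rw [hu] at ha
      rw [Finset.sum_insert (by
          simp only [Finset.mem_insert, Finset.mem_singleton, not_or]; exact ⟨n1, n2, n3⟩),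
        Finset.sum_insert (by
          simp only [Finset.mem_insert, Finset.mem_singleton, not_or]; exact ⟨n4, n5⟩),
        Finset.sum_insert (by simp only [Finset.mem_singleton]; exact n6),
        Finset.sum_singleton] at ha
      simp only [Pi.add_apply, Pi.zero_apply]
      rw [← ha]
      ring
    rw [h4, h.f_zero, one_pow]

end Exp

/-! ### The two types are different -/

theorem card_inv_M7 : Fintype.card {x : M7 // x * x = 1} = 36 := by decide +kernel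

theorem card_inv_D : Fintype.card ({p : D 0 × D 0 // p.1 * p.1 = 1 ∧ p.2 * p.2 = 1} ⊕ D 0) = 44 := by
  decide +kernel

theorem no_both {G : Type*} [Group G] [Finite G] {S : Subgroup G} {k k' : ℕ} {f : (Fin 4 → ZMod (2 ^ k)) → G}
    {d : Perm (Fin 4) → G} {f' : D k' → D k' → G} {w : G} (h1 : MB S k f d) (h2 : DWr S k' f' w)
    (hc : Nat.card S = 2 ^ (3 * k + 1)) : False := by
  have hinj : ∀ a b a' b', f' a b = f' a' b' → a = a' ∧ b = b' := by
    intro a b a' b' hab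
    have h3 : f' a b * f' a'⁻¹ b'⁻¹ = 1 := by
      rw [hab, h2.f_mul, mul_inv_cancel, mul_inv_cancel]
      have h4 := h2.f_mul 1 1 1 1
      rw [one_mul] at h4
      exact mul_eq_left.1 h4
    rw [h2.f_mul] at h3
    obtain ⟨h4, h5⟩ := h2.f_inj _ _ h3
    exact ⟨mul_inv_eq_one.1 h4, mul_inv_eq_one.1 h5⟩
  have hone : f' 1 1 = 1 := by
    have h4 := h2.f_mul 1 1 1 1
    rw [one_mul] at h4
    exact mul_eq_left.1 h4
  -- comparison of orders
  have hcard : 3 * k + 1 = 7 + 2 * k' := by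
    have h3 := Cfsg.Agent.LFourA.Base.card_S h2
    rw [hc, show 128 * 4 ^ k' = 2 ^ (7 + 2 * k') by rw [pow_add, pow_mul]; norm_num] at h3
    exact Nat.pow_right_injective (le_refl 2) h3
  -- exponents
  have hfpow : ∀ (n : ℕ) (a b : D k'), f' a b ^ n = f' (a ^ n) (b ^ n) := by
    intro n a b
    induction n with
    | zero => rw [pow_zero, pow_zero, pow_zero, hone]
    | succ n ih => rw [pow_succ, ih, h2.f_mul, pow_succ, pow_succ]
  have hg : f' (r 1) 1 * w ∈ S := (h2.mem_iff _).2 (Or.inr ⟨_, _, rfl⟩)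
  have hg2 : (f' (r 1) 1 * w) ^ 2 = f' (r 1) (r 1) := by
    rw [pow_two]
    calc f' (r 1) 1 * w * (f' (r 1) 1 * w) = f' (r 1) 1 * (w * f' (r 1) 1) * w := by group
      _ = f' (r 1) 1 * (f' 1 (r 1) * w) * w := by rw [h2.w_f]
      _ = (f' (r 1) 1 * f' 1 (r 1)) * (w * w) := by group
      _ = _ := by rw [h2.w_w, mul_one, h2.f_mul, mul_one, one_mul]
  have h3 := exponent h1 hg
  rw [pow_succ', pow_mul, hg2, hfpow] at h3
  have h4 := (h2.f_inj _ _ h3).1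
  have h5 := orderOf_dvd_of_pow_eq_one h4
  rw [DihedralGroup.orderOf_r_one, show 4 * 2 ^ k' = 2 ^ (k' + 2) by rw [pow_add]; ring] at h5
  have h6 := (Nat.pow_dvd_pow_iff_le_right (by norm_num)).1 h5
  have hk2 := h1.hk
  have hk : k = 2 := by omega
  have hk' : k' = 0 := by omega
  subst hk hk'
  -- counting involutions
  obtain ⟨e⟩ := MBSeven.nonempty_equiv h1
  have hcS : Nat.card {x : S // x * x = 1} = 36 := by
    rw [← card_inv_M7, ← Nat.card_eq_fintype_card]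
    refine Nat.card_congr (e.toEquiv.subtypeEquiv fun x => ?_)
    change x * x = 1 ↔ e x * e x = 1
    rw [← map_mul]
    exact (map_eq_one_iff e e.injective).symm
  have hfS : ∀ a b, f' a b ∈ S := fun a b => (h2.mem_iff _).2 (Or.inl ⟨a, b, rfl⟩)
  have hfwS : ∀ a b, f' a b * w ∈ S := fun a b => (h2.mem_iff _).2 (Or.inr ⟨a, b, rfl⟩)
  let Φ : {p : D 0 × D 0 // p.1 * p.1 = 1 ∧ p.2 * p.2 = 1} ⊕ D 0 → {x : S // x * x = 1} := fun t =>
    match t with
    | Sum.inl p => ⟨⟨f' p.1.1 p.1.2, hfS _ _⟩, Subtype.ext (by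
        change f' p.1.1 p.1.2 * f' p.1.1 p.1.2 = 1
        rw [h2.f_mul, p.2.1, p.2.2, hone])⟩
    | Sum.inr a => ⟨⟨f' a a⁻¹ * w, hfwS _ _⟩, Subtype.ext (by
        change f' a a⁻¹ * w * (f' a a⁻¹ * w) = 1
        calc f' a a⁻¹ * w * (f' a a⁻¹ * w) = f' a a⁻¹ * (w * f' a a⁻¹) * w := by group
          _ = f' a a⁻¹ * (f' a⁻¹ a * w) * w := by rw [h2.w_f]
          _ = (f' a a⁻¹ * f' a⁻¹ a) * (w * w) := by group
          _ = 1 := by rw [h2.w_w, mul_one, h2.f_mul, mul_inv_cancel, inv_mul_cancel, hone])⟩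
  have hΦ : Function.Injective Φ := by
    rintro (⟨⟨a, b⟩, hab⟩ | a) (⟨⟨a', b'⟩, hab'⟩ | a') hh
    · have h7 : f' a b = f' a' b' := congrArg (fun x : {x : S // x * x = 1} => ((x : S) : G)) hh
      obtain ⟨rfl, rfl⟩ := hinj _ _ _ _ h7
      rfl
    · exfalso
      have h7 : f' a b = f' a' a'⁻¹ * w := congrArg (fun x : {x : S // x * x = 1} => ((x : S) : G)) hh
      apply h2.w_ne (a'⁻¹ * a) (a' * b)
      have h8 : f' a'⁻¹ a' * (f' a' a'⁻¹ * w) = w := by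
        rw [← mul_assoc, h2.f_mul, inv_mul_cancel, mul_inv_cancel, hone, one_mul]
      rw [← h7, h2.f_mul] at h8
      exact h8.symm
    · exfalso
      have h7 : f' a a⁻¹ * w = f' a' b' := congrArg (fun x : {x : S // x * x = 1} => ((x : S) : G)) hh
      apply h2.w_ne (a⁻¹ * a') (a * b')
      have h8 : f' a⁻¹ a * (f' a a⁻¹ * w) = w := by
        rw [← mul_assoc, h2.f_mul, inv_mul_cancel, mul_inv_cancel, hone, one_mul]
      rw [h7, h2.f_mul] at h8
      exact h8.symm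
    · have h7 : f' a a⁻¹ * w = f' a' a'⁻¹ * w :=
        congrArg (fun x : {x : S // x * x = 1} => ((x : S) : G)) hh
      obtain ⟨h8, -⟩ := hinj _ _ _ _ (mul_right_cancel h7)
      rw [h8]
  have h7 := Nat.card_le_card_of_injective Φ hΦ
  rw [hcS, Nat.card_eq_fintype_card, card_inv_D] at h7
  omega

/-! ### The result -/

theorem val_one {q k m : ℕ} (hk : 2 ≤ k) (hm : Odd m) (hq : q = 1 + 2 ^ k * m) :
    padicValNat 2 (q - 1) = k ∧ padicValNat 2 (q + 1) = 1 := by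
  have : Fact (Nat.Prime 2) := ⟨Nat.prime_two⟩
  have hodd : ∀ n : ℕ, Odd n → padicValNat 2 n = 0 := fun n hn =>
    padicValNat.eq_zero_of_not_dvd (fun h => (Nat.not_even_iff_odd.2 hn) (even_iff_two_dvd.2 h))
  constructor
  · have h1 : q - 1 = 2 ^ k * m := by omega
    rw [h1, padicValNat.mul (by positivity) hm.pos.ne', padicValNat.prime_pow, hodd m hm, add_zero]
  · obtain ⟨j, rfl⟩ : ∃ j, k = j + 1 := ⟨k - 1, by omega⟩
    have h1 : q + 1 = 2 ^ 1 * (1 + 2 ^ j * m) := by rw [hq, pow_succ]; ring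
    have h2 : Odd (1 + 2 ^ j * m) := by
      obtain ⟨i, rfl⟩ : ∃ i, j = i + 1 := ⟨j - 1, by omega⟩
      exact ⟨2 ^ i * m, by rw [pow_succ]; ring⟩
    rw [h1, padicValNat.mul (by positivity) h2.pos.ne', padicValNat.prime_pow, hodd _ h2, add_zero]

theorem val_three {q k m : ℕ} (hq3 : q % 4 = 3) (hm : Odd m) (hq : q + 1 = 4 * 2 ^ k * m) :
    padicValNat 2 (q - 1) = 1 ∧ padicValNat 2 (q + 1) = k + 2 := by
  have : Fact (Nat.Prime 2) := ⟨Nat.prime_two⟩
  have hodd : ∀ n : ℕ, Odd n → padicValNat 2 n = 0 := fun n hn =>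
    padicValNat.eq_zero_of_not_dvd (fun h => (Nat.not_even_iff_odd.2 hn) (even_iff_two_dvd.2 h))
  constructor
  · obtain ⟨n, hn⟩ : ∃ n, q = 4 * n + 3 := ⟨q / 4, by omega⟩
    have h1 : q - 1 = 2 ^ 1 * (2 * n + 1) := by omega
    rw [h1, padicValNat.mul (by positivity) (by omega), padicValNat.prime_pow, hodd _ ⟨n, rfl⟩, add_zero]
  · have h1 : q + 1 = 2 ^ (k + 2) * m := by rw [hq, pow_add]; ring
    rw [h1, padicValNat.mul (by positivity) hm.pos.ne', padicValNat.prime_pow, hodd m hm, add_zero]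

theorem match_four {F K : Type*} [Field F] [Fintype F] [Field K] [Fintype K] (hF : Odd (Fintype.card F))
    (hK : Odd (Fintype.card K)) (P : Sylow 2 (Matrix.ProjectiveSpecialLinearGroup (Fin 4) F))
    (P' : Sylow 2 (Matrix.ProjectiveSpecialLinearGroup (Fin 4) K))
    (e : (P : Subgroup (Matrix.ProjectiveSpecialLinearGroup (Fin 4) F)) ≃*
      (P' : Subgroup (Matrix.ProjectiveSpecialLinearGroup (Fin 4) K))) :
    padicValNat 2 (Fintype.card K - 1) = padicValNat 2 (Fintype.card F - 1) ∧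
      padicValNat 2 (Fintype.card K + 1) = padicValNat 2 (Fintype.card F + 1) := by
  classical
  have hfF : Finite (ProjectiveSpecialLinearGroup (Fin 4) F) :=
    Finite.of_surjective _ (QuotientGroup.mk'_surjective (Subgroup.center (SpecialLinearGroup (Fin 4) F)))
  have hfK : Finite (ProjectiveSpecialLinearGroup (Fin 4) K) :=
    Finite.of_surjective _ (QuotientGroup.mk'_surjective (Subgroup.center (SpecialLinearGroup (Fin 4) K)))
  have hcard := Nat.card_congr e.toEquiv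
  have hF4 : Fintype.card F % 4 = 1 ∨ Fintype.card F % 4 = 3 := by
    obtain ⟨n, hn⟩ := hF; omega
  have hK4 : Fintype.card K % 4 = 1 ∨ Fintype.card K % 4 = 3 := by
    obtain ⟨n, hn⟩ := hK; omega
  rcases hF4 with hF4 | hF4 <;> rcases hK4 with hK4 | hK4
  · obtain ⟨k, m, f, d, hm, hq, h⟩ := exists_MB hF4 P P (MulEquiv.refl _)
    obtain ⟨k', m', f', d', hm', hq', h'⟩ := exists_MB hK4 P' P' (MulEquiv.refl _)
    obtain ⟨r, hr, hN⟩ := card_psl_one h.hk hm hq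
    obtain ⟨r', hr', hN'⟩ := card_psl_one h'.hk hm' hq'
    rw [card_sylow_of hr hN P, card_sylow_of hr' hN' P'] at hcard
    have h1 := Nat.pow_right_injective (le_refl 2) hcard
    have h2 : k' = k := by omega
    obtain ⟨a1, a2⟩ := val_one h.hk hm hq
    obtain ⟨b1, b2⟩ := val_one h'.hk hm' hq'
    rw [a1, a2, b1, b2, h2]
    exact ⟨rfl, rfl⟩
  · exfalso
    obtain ⟨k, m, f, d, hm, hq, h⟩ := exists_MB hF4 P P (MulEquiv.refl _)
    obtain ⟨r, hr, hN⟩ := card_psl_one h.hk hm hq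
    obtain ⟨k', m', f', w, h', hk', hm'⟩ := Cfsg.Agent.LFourA.SylPsl.exists_dwr hK4
      (P : Subgroup (ProjectiveSpecialLinearGroup (Fin 4) F)) P' ⟨e⟩
    exact no_both h h' (card_sylow_of hr hN P)
  · exfalso
    obtain ⟨k, m, f, d, hm, hq, h⟩ := exists_MB hK4 P' P' (MulEquiv.refl _)
    obtain ⟨r, hr, hN⟩ := card_psl_one h.hk hm hq
    obtain ⟨k', m', f', w, h', hk', hm'⟩ := Cfsg.Agent.LFourA.SylPsl.exists_dwr hF4
      (P' : Subgroup (ProjectiveSpecialLinearGroup (Fin 4) K)) P ⟨e.symm⟩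
    exact no_both h h' (card_sylow_of hr hN P')
  · obtain ⟨k, m, f, w, h, hk, hm⟩ := Cfsg.Agent.LFourA.SylPsl.exists_dwr hF4
      (P : Subgroup (ProjectiveSpecialLinearGroup (Fin 4) F)) P ⟨MulEquiv.refl _⟩
    obtain ⟨k', m', f', w', h', hk', hm'⟩ := Cfsg.Agent.LFourA.SylPsl.exists_dwr hK4
      (P' : Subgroup (ProjectiveSpecialLinearGroup (Fin 4) K)) P' ⟨MulEquiv.refl _⟩
    rw [Cfsg.Agent.LFourA.Base.card_S h, Cfsg.Agent.LFourA.Base.card_S h'] at hcard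
    have h1 : 4 ^ k = 4 ^ k' := Nat.eq_of_mul_eq_mul_left (by norm_num) hcard
    have h2 := Nat.pow_right_injective (by norm_num : 2 ≤ 4) h1
    obtain ⟨a1, a2⟩ := val_three hF4 hm hk
    obtain ⟨b1, b2⟩ := val_three hK4 hm' hk'
    rw [a1, a2, b1, b2, h2]
    exact ⟨rfl, rfl⟩

end Cfsg.Agent.H126.MatchFour
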