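import Cfsg.Agent.OrdCrit.Main

/-!
# `|X| ^ 3 < |X|_p ^ 8` for `X` of Lie type in characteristic `p`, not `PSL₂` (helper126)

The order formulas of the sixteen families give `d |X| = q ^ N r` with `d` prime to `p` and `r < q ^ D`, `3 D ≤ 5 N`.

* `lie_eight` : `X` of Lie type in characteristic `p`: `|X| ^ 3 < p ^ (8 k)`, `p ^ k` the `p`-part of `|X|`, or
  `X ≅ PSL₂(F)`, `|F| = p ^ k`, and `|X| < p ^ (3 k)`.
-/

set_option autoImplicit false

namespace Cfsg.Agent.H126.OrdEight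

open Finset Cfsg Cfsg.Agent.OrdCrit

/-- `d |X| = q ^ N r`, `d` prime to `p`, `r < q ^ D`, `3 D ≤ 5 N` imply `|X| ^ 3 < p ^ (8 k)`. -/
theorem eight_of {p q k N D d n r : ℕ} (hp : p.Prime) (_hk : k ≠ 0) (hq : q = p ^ k) (hd : Nat.Coprime d p)
    (h : d * n = q ^ N * r) (hr : r < q ^ D) (hD : 3 * D ≤ 5 * N) (hn : n ≠ 0) :
    n ^ 3 < p ^ (8 * n.factorization p) := by
  have hq1 : 1 ≤ q := by rw [hq]; exact Nat.one_le_pow _ _ hp.pos
  have hd0 : 0 < d := by
    rcases Nat.eq_zero_or_pos d with rfl | h0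
    · rw [Nat.coprime_zero_left] at hd
      exact absurd hd hp.ne_one
    · exact h0
  have h1 : q ^ N = p ^ (k * N) := by rw [hq, pow_mul]
  have h2 : p ^ (k * N) ∣ n := by
    have h3 : p ^ (k * N) ∣ d * n := by rw [h, h1]; exact dvd_mul_right _ _
    exact (Nat.Coprime.pow_left _ hd.symm).dvd_of_dvd_mul_left h3
  have h3 : k * N ≤ n.factorization p := (hp.pow_dvd_iff_le_factorization hn).1 h2
  have h4 : q ^ N ≤ p ^ n.factorization p := by
    rw [h1]
    exact Nat.pow_le_pow_right hp.pos h3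
  have h5 : 0 < q ^ N := pow_pos (by omega) _
  have h6 : n ^ 3 < q ^ (8 * N) := by
    calc n ^ 3 ≤ (d * n) ^ 3 := Nat.pow_le_pow_left (Nat.le_mul_of_pos_left n hd0) 3
      _ = (q ^ N * r) ^ 3 := by rw [h]
      _ < (q ^ N * q ^ D) ^ 3 := Nat.pow_lt_pow_left (Nat.mul_lt_mul_of_pos_left hr h5) (by norm_num)
      _ = q ^ (3 * N + 3 * D) := by rw [← pow_add, ← pow_mul]; congr 1; ring
      _ ≤ q ^ (8 * N) := Nat.pow_le_pow_right (by omega) (by omega)
  calc n ^ 3 < q ^ (8 * N) := h6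
    _ = (q ^ N) ^ 8 := by rw [← pow_mul, mul_comm]
    _ ≤ (p ^ n.factorization p) ^ 8 := Nat.pow_le_pow_left h4 8
    _ = p ^ (8 * n.factorization p) := by rw [← pow_mul, mul_comm]

/-- `∏_{i < n} (q^(i+2) - 1) < q^(n(n+3)/2)` -/
theorem lin_lt' {q n : ℕ} (hq : 2 ≤ q) (hn : 1 ≤ n) :
    ∏ i ∈ range n, (q ^ (i + 1 + 1) - 1) < q ^ (∑ i ∈ range n, (i + 1 + 1)) := by
  rw [← Finset.prod_pow_eq_pow_sum]
  refine Finset.prod_lt_prod_of_nonempty ?_ ?_ ?_
  · intro i _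
    have : 1 < q ^ (i + 1 + 1) := Nat.one_lt_pow (by omega) (by omega)
    omega
  · intro i _
    have : 0 < q ^ (i + 1 + 1) := pow_pos (by omega) _
    omega
  · exact ⟨0, mem_range.2 (by omega)⟩

/-- `i`-th factor of the unitary product -/
def uf (q i : ℕ) : ℕ := if Even (i + 1) then q ^ (i + 1 + 1) + 1 else q ^ (i + 1 + 1) - 1

theorem uf_even (q j : ℕ) : uf q (2 * j) = q ^ (2 * j + 2) - 1 := by
  rw [uf, if_neg (by simp [parity_simps])]

theorem uf_odd (q j : ℕ) : uf q (2 * j + 1) = q ^ (2 * j + 3) + 1 := by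
  rw [uf, if_pos (by simp [parity_simps])]

theorem uf_pair {q : ℕ} (hq : 2 ≤ q) (j : ℕ) : uf q (2 * j) * uf q (2 * j + 1) ≤ q ^ ((2 * j + 2) + (2 * j + 3)) := by
  rw [uf_even, uf_odd, pow_add q (2 * j + 2) (2 * j + 3)]
  have h1 : 1 ≤ q ^ (2 * j + 2) := Nat.one_le_pow _ _ (by omega)
  obtain ⟨a, ha⟩ : ∃ a, q ^ (2 * j + 2) = a + 1 := ⟨q ^ (2 * j + 2) - 1, by omega⟩
  have h2 : q ^ (2 * j + 3) = q ^ (2 * j + 2) * q := by rw [← pow_succ]
  rw [h2, ha, Nat.add_sub_cancel]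
  nlinarith

theorem uni_even_le {q : ℕ} (hq : 2 ≤ q) (j : ℕ) :
    ∏ i ∈ range (2 * j), uf q i ≤ q ^ (∑ i ∈ range (2 * j), (i + 1 + 1)) := by
  induction j with
  | zero => simp
  | succ j ih =>
    rw [show 2 * (j + 1) = 2 * j + 1 + 1 by ring, Finset.prod_range_succ, Finset.prod_range_succ,
      Finset.sum_range_succ, Finset.sum_range_succ, mul_assoc, add_assoc, pow_add]
    refine Nat.mul_le_mul ih ((uf_pair hq j).trans (le_of_eq ?_))
    congr 1

theorem uni_lt' {q n : ℕ} (hq : 2 ≤ q) (hn : 2 ≤ n) :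
    ∏ i ∈ range n, uf q i < q ^ (∑ i ∈ range n, (i + 1 + 1)) := by
  rcases Nat.even_or_odd' n with ⟨j, rfl | rfl⟩
  · obtain ⟨j, rfl⟩ : ∃ i, j = i + 1 := ⟨j - 1, by omega⟩
    rw [show 2 * (j + 1) = 2 * j + 1 + 1 by ring, Finset.prod_range_succ, Finset.prod_range_succ,
      Finset.sum_range_succ, Finset.sum_range_succ, mul_assoc, add_assoc, pow_add]
    have h0 := uni_even_le hq j
    have h1 : uf q (2 * j) * uf q (2 * j + 1) < q ^ (2 * j + 1 + 1 + (2 * j + 1 + 1 + 1)) := by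
      rw [uf_even, uf_odd, pow_add q (2 * j + 1 + 1) (2 * j + 1 + 1 + 1)]
      have h1 : 1 ≤ q ^ (2 * j + 2) := Nat.one_le_pow _ _ (by omega)
      obtain ⟨a, ha⟩ : ∃ a, q ^ (2 * j + 2) = a + 1 := ⟨q ^ (2 * j + 2) - 1, by omega⟩
      have h2 : q ^ (2 * j + 3) = q ^ (2 * j + 2) * q := by rw [← pow_succ]
      have h3 : q ^ (2 * j + 1 + 1) = a + 1 := by rw [← ha]
      have h4 : q ^ (2 * j + 1 + 1 + 1) = (a + 1) * q := by rw [← ha, ← pow_succ]
      rw [h2, h3, Nat.add_sub_cancel]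
      nlinarith
    have h2 : 0 < q ^ (∑ i ∈ range (2 * j), (i + 1 + 1)) := pow_pos (by omega) _
    calc _ ≤ q ^ (∑ i ∈ range (2 * j), (i + 1 + 1)) * (uf q (2 * j) * uf q (2 * j + 1)) := Nat.mul_le_mul_right _ h0
      _ < _ := Nat.mul_lt_mul_of_pos_left h1 h2
  · rw [Finset.prod_range_succ, Finset.sum_range_succ, pow_add, uf_even]
    have h0 := uni_even_le hq j
    have h2 : 0 < q ^ (∑ i ∈ range (2 * j), (i + 1 + 1)) := pow_pos (by omega) _
    have h3 : 0 < q ^ (2 * j + 1 + 1) := pow_pos (by omega) _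
    have h4 : 2 * j + 2 = 2 * j + 1 + 1 := by ring
    rw [h4]
    calc _ ≤ q ^ (∑ i ∈ range (2 * j), (i + 1 + 1)) * (q ^ (2 * j + 1 + 1) - 1) := Nat.mul_le_mul_right _ h0
      _ < _ := Nat.mul_lt_mul_of_pos_left (by omega) h2

theorem sum_two (n : ℕ) : 2 * ∑ i ∈ range n, (i + 1 + 1) = n * (n + 3) := by
  induction n with
  | zero => simp
  | succ n ih => rw [Finset.sum_range_succ, mul_add, ih]; ring

section families

variable {F : Type} [Field F] [Fintype F] {p : ℕ}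

theorem psl (hp : p.Prime) [CharP F p] {n : ℕ} (hn : 3 ≤ n) :
    Nat.card (Matrix.ProjectiveSpecialLinearGroup (Fin n) F) ^ 3 <
      p ^ (8 * (Nat.card (Matrix.ProjectiveSpecialLinearGroup (Fin n) F)).factorization p) := by
  obtain ⟨k, hk, hq⟩ := exists_pow (F := F) hp
  have hq2 := two_le hp hk hq
  have h := S0243.result (F := F) rfl n (by omega)
  obtain ⟨m, rfl⟩ := Nat.exists_eq_add_of_le' hn
  rw [show m + 3 = (m + 2) + 1 by ring] at h ⊢
  rw [prod_gl, Finset.prod_range_succ', zero_add, pow_one, mul_left_comm, ← mul_assoc (Fintype.card F ^ _),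
    mul_comm _ (Fintype.card F - 1)] at h
  have h' := Nat.eq_of_mul_eq_mul_left (show 0 < Fintype.card F - 1 by omega) h
  refine eight_of hp hk hq ?_ h' (lin_lt' hq2 (by omega)) ?_ Nat.card_pos.ne'
  · exact Nat.Coprime.coprime_dvd_left (Nat.gcd_dvd_right _ _) (coprime_sub hp hk hq)
  · have h5 : 2 * ((m + 2 + 1) * (m + 2 + 1 - 1) / 2) = (m + 2 + 1) * (m + 2 + 1 - 1) := by
      apply Nat.mul_div_cancel'
      have := Nat.even_mul_pred_self (m + 2 + 1)
      exact this.two_dvd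
    have h6 := sum_two (m + 2)
    have h7 : m + 2 + 1 - 1 = m + 2 := by omega
    rw [h7] at h5
    rw [h7]
    nlinarith

theorem psu (hp : p.Prime) [CharP F p] {n q : ℕ} (hF : Fintype.card F = q ^ 2) (hn : 3 ≤ n) :
    Nat.card (PSU n F q) ^ 3 < p ^ (8 * (Nat.card (PSU n F q)).factorization p) := by
  obtain ⟨k, hk, hq⟩ := root_pow hp (by norm_num) (exists_pow (F := F) hp) hF
  have hq2 := two_le hp hk hq
  have h := S0280.result (F := F) hF n (by omega)
  obtain ⟨m, rfl⟩ := Nat.exists_eq_add_of_le' hn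
  rw [show m + 3 = (m + 2) + 1 by ring] at h ⊢
  rw [Finset.prod_range_succ', if_pos (by decide), zero_add, pow_one, mul_left_comm, ← mul_assoc (q ^ _),
    mul_comm _ (q + 1)] at h
  have h' := Nat.eq_of_mul_eq_mul_left (show 0 < q + 1 by omega) h
  refine eight_of hp hk hq ?_ h' (uni_lt' hq2 (by omega)) ?_ Nat.card_pos.ne'
  · exact Nat.Coprime.coprime_dvd_left (Nat.gcd_dvd_right _ _) (coprime_add hp hk hq)
  · have h5 : 2 * ((m + 2 + 1) * (m + 2 + 1 - 1) / 2) = (m + 2 + 1) * (m + 2 + 1 - 1) := by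
      apply Nat.mul_div_cancel'
      have := Nat.even_mul_pred_self (m + 2 + 1)
      exact this.two_dvd
    have h6 := sum_two (m + 2)
    have h7 : m + 2 + 1 - 1 = m + 2 := by omega
    rw [h7] at h5
    rw [h7]
    nlinarith

theorem psp (hp : p.Prime) [CharP F p] {m : ℕ} (hm : 2 ≤ m) :
    Nat.card (PSp m F) ^ 3 < p ^ (8 * (Nat.card (PSp m F)).factorization p) := by
  obtain ⟨k, hk, hq⟩ := exists_pow (F := F) hp
  have hq2 := two_le hp hk hq
  have h1 := S0245.result (F := F) rfl m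
  have h2 := S0246.result (F := F) rfl m (by omega)
  have h3 := Subgroup.card_mul_index (Subgroup.center ↥(Matrix.symplecticGroup (Fin m) F))
  rw [h1, h2] at h3
  refine eight_of hp hk hq ?_ h3 (prod_lt hq2 (by omega)) ?_ Nat.card_pos.ne'
  · exact Nat.Coprime.coprime_dvd_left (Nat.gcd_dvd_right _ _) (coprime_sub hp hk hq)
  · nlinarith

theorem pomegaOdd (hp : p.Prime) [CharP F p] {m : ℕ} (hm : 3 ≤ m) (ho : Odd (Fintype.card F)) :
    Nat.card (POmega F (quadFormOdd m F)) ^ 3 <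
      p ^ (8 * (Nat.card (POmega F (quadFormOdd m F))).factorization p) := by
  obtain ⟨k, hk, hq⟩ := exists_pow (F := F) hp
  have hq2 := two_le hp hk hq
  have hp2 : p ≠ 2 := by
    rintro rfl
    rw [hq] at ho
    exact (Nat.not_odd_iff_even.2 ((even_two).pow_of_ne_zero hk)) ho
  have h1 := S0292.result (F := F) rfl ho m hm
  have h0 : Nat.card (POmega F (quadFormOdd m F)) ≠ 0 := by
    intro h
    rw [h, mul_zero] at h1
    have : 0 < Fintype.card F ^ m ^ 2 * ∏ i ∈ range m, (Fintype.card F ^ (2 * (i + 1)) - 1) := by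
      refine Nat.mul_pos (pow_pos (by omega) _) (Finset.prod_pos fun i _ => ?_)
      have : Fintype.card F ^ 1 ≤ Fintype.card F ^ (2 * (i + 1)) := Nat.pow_le_pow_right (by omega) (by omega)
      rw [pow_one] at this
      omega
    omega
  refine eight_of hp hk hq ?_ h1 (prod_lt hq2 (by omega)) ?_ h0
  · rw [Nat.coprime_primes Nat.prime_two hp]; exact fun h => hp2 h.symm
  · nlinarith

theorem pomegaPlus (hp : p.Prime) [CharP F p] {m : ℕ} (hm : 4 ≤ m) :
    Nat.card (POmega F (quadFormPlus m F)) ^ 3 <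
      p ^ (8 * (Nat.card (POmega F (quadFormPlus m F))).factorization p) := by
  obtain ⟨k, hk, hq⟩ := exists_pow (F := F) hp
  have hq2 := two_le hp hk hq
  have h1 := S0293.result (F := F) rfl m hm
  have hqm : 1 < Fintype.card F ^ m := Nat.one_lt_pow (by omega) (by omega)
  have h0 : Nat.card (POmega F (quadFormPlus m F)) ≠ 0 := by
    intro h
    rw [h, mul_zero] at h1
    have : 0 < Fintype.card F ^ (m * (m - 1)) * (Fintype.card F ^ m - 1) *
        ∏ i ∈ range (m - 1), (Fintype.card F ^ (2 * (i + 1)) - 1) := by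
      refine Nat.mul_pos (Nat.mul_pos (pow_pos (by omega) _) (by omega)) (Finset.prod_pos fun i _ => ?_)
      have : Fintype.card F ^ 1 ≤ Fintype.card F ^ (2 * (i + 1)) := Nat.pow_le_pow_right (by omega) (by omega)
      rw [pow_one] at this
      omega
    omega
  rw [mul_assoc] at h1
  have hl := prod_le (q := Fintype.card F) (m - 1)
  have h2 : (Fintype.card F ^ m - 1) * ∏ i ∈ range (m - 1), (Fintype.card F ^ (2 * (i + 1)) - 1) <
      Fintype.card F ^ (m + (m - 1) * (m - 1 + 1)) := by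
    rw [pow_add]
    calc _ ≤ (Fintype.card F ^ m - 1) * Fintype.card F ^ ((m - 1) * (m - 1 + 1)) := Nat.mul_le_mul_left _ hl
      _ < _ := Nat.mul_lt_mul_of_pos_right (by omega) (pow_pos (by omega) _)
  refine eight_of hp hk hq ?_ h1 h2 ?_ h0
  · exact Nat.Coprime.coprime_dvd_left (Nat.gcd_dvd_right _ _) (coprime_pow_sub m (by omega) hp hk hq)
  · obtain ⟨j, rfl⟩ := Nat.exists_eq_add_of_le' hm
    have : j + 4 - 1 = j + 3 := by omega
    rw [this]
    nlinarith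

theorem pomegaMinus (hp : p.Prime) [CharP F p] {m : ℕ} (hm : 4 ≤ m) (a b : F)
    (hab : ∀ z₁ z₂ : F, z₁ ^ 2 + a * z₁ * z₂ + b * z₂ ^ 2 = 0 → z₁ = 0 ∧ z₂ = 0) :
    Nat.card (POmega F (quadFormMinus (m - 1) F a b)) ^ 3 <
      p ^ (8 * (Nat.card (POmega F (quadFormMinus (m - 1) F a b))).factorization p) := by
  obtain ⟨k, hk, hq⟩ := exists_pow (F := F) hp
  have hq2 := two_le hp hk hq
  have h1 := S0294.result (F := F) rfl m hm a b hab
  have hqm : 1 < Fintype.card F ^ m := Nat.one_lt_pow (by omega) (by omega)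
  have h0 : Nat.card (POmega F (quadFormMinus (m - 1) F a b)) ≠ 0 := by
    intro h
    rw [h, mul_zero] at h1
    have : 0 < Fintype.card F ^ (m * (m - 1)) * (Fintype.card F ^ m + 1) *
        ∏ i ∈ range (m - 1), (Fintype.card F ^ (2 * (i + 1)) - 1) := by
      refine Nat.mul_pos (Nat.mul_pos (pow_pos (by omega) _) (by omega)) (Finset.prod_pos fun i _ => ?_)
      have : Fintype.card F ^ 1 ≤ Fintype.card F ^ (2 * (i + 1)) := Nat.pow_le_pow_right (by omega) (by omega)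
      rw [pow_one] at this
      omega
    omega
  rw [mul_assoc] at h1
  have hl := prod_le (q := Fintype.card F) (m - 1)
  have h2 : (Fintype.card F ^ m + 1) * ∏ i ∈ range (m - 1), (Fintype.card F ^ (2 * (i + 1)) - 1) <
      Fintype.card F ^ (m + 1 + (m - 1) * (m - 1 + 1)) := by
    rw [pow_add, pow_succ]
    have h3 : 0 < Fintype.card F ^ ((m - 1) * (m - 1 + 1)) := pow_pos (by omega) _
    calc _ ≤ (Fintype.card F ^ m + 1) * Fintype.card F ^ ((m - 1) * (m - 1 + 1)) := Nat.mul_le_mul_left _ hl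
      _ < _ := Nat.mul_lt_mul_of_pos_right (by nlinarith) h3
  refine eight_of hp hk hq ?_ h1 h2 ?_ h0
  · exact Nat.Coprime.coprime_dvd_left (Nat.gcd_dvd_right _ _) (coprime_pow_add m (by omega) hp hk hq)
  · obtain ⟨j, rfl⟩ := Nat.exists_eq_add_of_le' hm
    have : j + 4 - 1 = j + 3 := by omega
    rw [this]
    nlinarith

theorem g2 (hp : p.Prime) [CharP F p] :
    Nat.card ↥(Lie.chevG2.group F) ^ 3 < p ^ (8 * (Nat.card ↥(Lie.chevG2.group F)).factorization p) := by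
  obtain ⟨k, hk, hq⟩ := exists_pow (F := F) hp
  have hq2 := two_le hp hk hq
  have h1 := S1059.result (F := F) rfl
  set q := Fintype.card F
  have hqp : 0 < q := by omega
  have h2 : 0 < q ^ 2 := pow_pos hqp _
  rw [mul_assoc, ← one_mul (Nat.card _)] at h1
  refine eight_of (D := 9) hp hk hq (Nat.coprime_one_left p) h1 ?_ (by norm_num) Nat.card_pos.ne'
  calc (q ^ 2 - 1) * (q ^ 6 - 1) ≤ q ^ 2 * q ^ 6 := Nat.mul_le_mul (Nat.sub_le _ _) (Nat.sub_le _ _)
    _ = q ^ 8 := by ring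
    _ < q ^ 9 := Nat.pow_lt_pow_right (by omega) (by norm_num)

theorem f4 (hp : p.Prime) [CharP F p] :
    Nat.card ↥(Lie.chevF4.group F) ^ 3 < p ^ (8 * (Nat.card ↥(Lie.chevF4.group F)).factorization p) := by
  obtain ⟨k, hk, hq⟩ := exists_pow (F := F) hp
  have hq2 := two_le hp hk hq
  have h1 := S1062.result (F := F) rfl
  set q := Fintype.card F
  rw [mul_assoc, mul_assoc, mul_assoc, ← one_mul (Nat.card _)] at h1
  refine eight_of (D := 29) hp hk hq (Nat.coprime_one_left p) h1 ?_ (by norm_num) Nat.card_pos.ne'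
  calc (q ^ 2 - 1) * ((q ^ 6 - 1) * ((q ^ 8 - 1) * (q ^ 12 - 1))) ≤ q ^ 2 * (q ^ 6 * (q ^ 8 * q ^ 12)) :=
        Nat.mul_le_mul (Nat.sub_le _ _) (Nat.mul_le_mul (Nat.sub_le _ _) (Nat.mul_le_mul (Nat.sub_le _ _) (Nat.sub_le _ _)))
    _ = q ^ 28 := by ring
    _ < q ^ 29 := Nat.pow_lt_pow_right (by omega) (by norm_num)

theorem e6 (hp : p.Prime) [CharP F p] :
    Nat.card ↥(Lie.chevE6.group F) ^ 3 < p ^ (8 * (Nat.card ↥(Lie.chevE6.group F)).factorization p) := by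
  obtain ⟨k, hk, hq⟩ := exists_pow (F := F) hp
  have hq2 := two_le hp hk hq
  have h1 := S1063.result (F := F) rfl
  rw [mul_assoc, mul_assoc, mul_assoc, mul_assoc, mul_assoc] at h1
  refine eight_of (D := 43) hp hk hq ?_ h1 ?_ (by norm_num) Nat.card_pos.ne'
  · exact Nat.Coprime.coprime_dvd_left (Nat.gcd_dvd_right _ _) (coprime_sub hp hk hq)
  · set q := Fintype.card F
    calc _ ≤ q ^ 2 * (q ^ 5 * (q ^ 6 * (q ^ 8 * (q ^ 9 * q ^ 12)))) := by
          gcongr <;> exact Nat.sub_le _ _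
      _ = q ^ 42 := by ring
      _ < q ^ 43 := Nat.pow_lt_pow_right (by omega) (by norm_num)

theorem e7 (hp : p.Prime) [CharP F p] :
    Nat.card ↥(Lie.chevE7.group F) ^ 3 < p ^ (8 * (Nat.card ↥(Lie.chevE7.group F)).factorization p) := by
  obtain ⟨k, hk, hq⟩ := exists_pow (F := F) hp
  have hq2 := two_le hp hk hq
  have h1 := S1064.result (F := F) rfl
  rw [mul_assoc, mul_assoc, mul_assoc, mul_assoc, mul_assoc, mul_assoc] at h1
  refine eight_of (D := 71) hp hk hq ?_ h1 ?_ (by norm_num) Nat.card_pos.ne'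
  · exact Nat.Coprime.coprime_dvd_left (Nat.gcd_dvd_right _ _) (coprime_sub hp hk hq)
  · set q := Fintype.card F
    calc _ ≤ q ^ 2 * (q ^ 6 * (q ^ 8 * (q ^ 10 * (q ^ 12 * (q ^ 14 * q ^ 18))))) := by
          gcongr <;> exact Nat.sub_le _ _
      _ = q ^ 70 := by ring
      _ < q ^ 71 := Nat.pow_lt_pow_right (by omega) (by norm_num)

theorem e8 (hp : p.Prime) [CharP F p] :
    Nat.card ↥(Lie.chevE8.group F) ^ 3 < p ^ (8 * (Nat.card ↥(Lie.chevE8.group F)).factorization p) := by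
  obtain ⟨k, hk, hq⟩ := exists_pow (F := F) hp
  have hq2 := two_le hp hk hq
  have h1 := S1065.result (F := F) rfl
  rw [mul_assoc, mul_assoc, mul_assoc, mul_assoc, mul_assoc, mul_assoc, mul_assoc, ← one_mul (Nat.card _)] at h1
  refine eight_of (D := 129) hp hk hq (Nat.coprime_one_left p) h1 ?_ (by norm_num) Nat.card_pos.ne'
  set q := Fintype.card F
  calc _ ≤ q ^ 2 * (q ^ 8 * (q ^ 12 * (q ^ 14 * (q ^ 18 * (q ^ 20 * (q ^ 24 * q ^ 30)))))) := by
        gcongr <;> exact Nat.sub_le _ _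
    _ = q ^ 128 := by ring
    _ < q ^ 129 := Nat.pow_lt_pow_right (by omega) (by norm_num)

theorem twE6 (hp : p.Prime) [CharP F p] {q : ℕ} (hpp : IsPrimePow q) (hF : Fintype.card F = q ^ 2) :
    Nat.card ↥(Lie.twistedE6 F q) ^ 3 < p ^ (8 * (Nat.card ↥(Lie.twistedE6 F q)).factorization p) := by
  obtain ⟨k, hk, hq⟩ := root_pow hp (by norm_num) (exists_pow (F := F) hp) hF
  have hq2 := two_le hp hk hq
  have h1 := S1066.result hpp hF
  rw [mul_assoc, mul_assoc, mul_assoc, mul_assoc, mul_assoc] at h1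
  refine eight_of (D := 45) hp hk hq ?_ h1 ?_ (by norm_num) Nat.card_pos.ne'
  · exact Nat.Coprime.coprime_dvd_left (Nat.gcd_dvd_right _ _) (coprime_add hp hk hq)
  · have h5 : q ^ 5 + 1 ≤ q ^ 6 := by
      have : 1 ≤ q ^ 5 := Nat.one_le_pow _ _ (by omega)
      rw [pow_succ q 5]; nlinarith
    have h9 : q ^ 9 + 1 ≤ q ^ 10 := by
      have : 1 ≤ q ^ 9 := Nat.one_le_pow _ _ (by omega)
      rw [pow_succ q 9]; nlinarith
    calc _ ≤ q ^ 2 * (q ^ 6 * (q ^ 6 * (q ^ 8 * (q ^ 10 * q ^ 12)))) := by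
          gcongr <;> exact Nat.sub_le _ _
      _ = q ^ 44 := by ring
      _ < q ^ 45 := Nat.pow_lt_pow_right (by omega) (by norm_num)

theorem twD4 (hp : p.Prime) [CharP F p] {q : ℕ} (hpp : IsPrimePow q) (hF : Fintype.card F = q ^ 3) :
    Nat.card ↥(Lie.twistedD4 F q) ^ 3 < p ^ (8 * (Nat.card ↥(Lie.twistedD4 F q)).factorization p) := by
  obtain ⟨k, hk, hq⟩ := root_pow hp (by norm_num) (exists_pow (F := F) hp) hF
  have hq2 := two_le hp hk hq
  have h1 := S1067.result hpp hF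
  rw [mul_assoc, mul_assoc, ← one_mul (Nat.card _)] at h1
  refine eight_of (D := 19) hp hk hq (Nat.coprime_one_left p) h1 ?_ (by norm_num) Nat.card_pos.ne'
  have h8 : q ^ 8 + q ^ 4 + 1 ≤ q ^ 10 := by
    have h4 : 1 ≤ q ^ 4 := Nat.one_le_pow _ _ (by omega)
    have e8 : q ^ 8 = q ^ 4 * q ^ 4 := by ring
    have e10 : q ^ 10 = q ^ 4 * q ^ 4 * (q * q) := by ring
    rw [e8, e10]
    have hqq : 4 ≤ q * q := Nat.mul_le_mul hq2 hq2
    nlinarith [Nat.mul_le_mul h4 h4]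
  calc _ ≤ q ^ 2 * (q ^ 6 * q ^ 10) := by
        gcongr <;> exact Nat.sub_le _ _
    _ = q ^ 18 := by ring
    _ < q ^ 19 := Nat.pow_lt_pow_right (by omega) (by norm_num)

end families

theorem ree {K : Type} [Field K] [Fintype K] {m : ℕ} (hK : Fintype.card K = 3 ^ (2 * m + 1)) :
    Nat.card ↥(Lie.twistedG2 K (3 ^ m)) ^ 3 <
      3 ^ (8 * (Nat.card ↥(Lie.twistedG2 K (3 ^ m))).factorization 3) := by
  have h1 := S1069.result hK
  have hq2 : 2 ≤ 3 ^ (2 * m + 1) := by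
    have : 3 ^ 1 ≤ 3 ^ (2 * m + 1) := Nat.pow_le_pow_right (by norm_num) (by omega)
    omega
  rw [mul_assoc, ← one_mul (Nat.card _)] at h1
  refine eight_of (q := 3 ^ (2 * m + 1)) (D := 5) Nat.prime_three (by omega) rfl (Nat.coprime_one_left 3) h1 ?_
    (by norm_num) Nat.card_pos.ne'
  generalize 3 ^ (2 * m + 1) = q at hq2 ⊢
  have h3 : q ^ 3 + 1 ≤ q ^ 4 := by
    have : 1 ≤ q ^ 3 := Nat.one_le_pow _ _ (by omega)
    rw [pow_succ q 3]; nlinarith
  calc (q - 1) * (q ^ 3 + 1) ≤ (q - 1) * q ^ 4 := Nat.mul_le_mul le_rfl h3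
    _ < q * q ^ 4 := Nat.mul_lt_mul_of_pos_right (by omega) (pow_pos (by omega) _)
    _ = q ^ 5 := by ring

theorem twF4 {K : Type} [Field K] [Fintype K] {m : ℕ} (hK : Fintype.card K = 2 ^ (2 * m + 1)) :
    Nat.card ↥(Lie.twistedF4 K (2 ^ m)) ^ 3 <
      2 ^ (8 * (Nat.card ↥(Lie.twistedF4 K (2 ^ m))).factorization 2) := by
  have h1 := S1068.result hK
  have hq2 : 2 ≤ 2 ^ (2 * m + 1) := by
    have : 2 ^ 1 ≤ 2 ^ (2 * m + 1) := Nat.pow_le_pow_right (by norm_num) (by omega)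
    omega
  rw [mul_assoc, mul_assoc, mul_assoc, ← one_mul (Nat.card _)] at h1
  refine eight_of (q := 2 ^ (2 * m + 1)) (D := 17) Nat.prime_two (by omega) rfl (Nat.coprime_one_left 2) h1 ?_
    (by norm_num) Nat.card_pos.ne'
  generalize 2 ^ (2 * m + 1) = q at hq2 ⊢
  have h3 : q ^ 3 + 1 ≤ q ^ 4 := by
    have : 1 ≤ q ^ 3 := Nat.one_le_pow _ _ (by omega)
    rw [pow_succ q 3]; nlinarith
  have h6 : q ^ 6 + 1 ≤ q ^ 7 := by
    have : 1 ≤ q ^ 6 := Nat.one_le_pow _ _ (by omega)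
    rw [pow_succ q 6]; nlinarith
  calc _ ≤ q * (q ^ 4 * (q ^ 4 * q ^ 7)) := by
        gcongr <;> exact Nat.sub_le _ _
    _ = q ^ 16 := by ring
    _ < q ^ 17 := Nat.pow_lt_pow_right (by omega) (by norm_num)

theorem sz {K : Type} [Field K] [Fintype K] {m : ℕ} (hm : 1 ≤ m) (hK : Fintype.card K = 2 ^ (2 * m + 1)) :
    Nat.card ↥(Lie.Sz K (2 ^ (m + 1))) ^ 3 <
      2 ^ (8 * (Nat.card ↥(Lie.Sz K (2 ^ (m + 1)))).factorization 2) := by
  have h1 := (S1163.result hm hK).1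
  have hq2 : 2 ≤ 2 ^ (2 * m + 1) := by
    have : 2 ^ 1 ≤ 2 ^ (2 * m + 1) := Nat.pow_le_pow_right (by norm_num) (by omega)
    omega
  rw [mul_assoc, ← one_mul (Nat.card _)] at h1
  refine eight_of (q := 2 ^ (2 * m + 1)) (D := 3) Nat.prime_two (by omega) rfl (Nat.coprime_one_left 2) h1 ?_
    (by norm_num) Nat.card_pos.ne'
  generalize 2 ^ (2 * m + 1) = q at hq2 ⊢
  obtain ⟨r, rfl⟩ : ∃ r, q = r + 1 := ⟨q - 1, by omega⟩
  rw [Nat.add_sub_cancel]
  nlinarith

/-- `PSL₂(q)`: `|X|_p = q`. -/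
theorem psl_two {F : Type} [Field F] [Fintype F] {p : ℕ} (hp : p.Prime) [CharP F p] :
    Fintype.card F = p ^ (Nat.card (Matrix.ProjectiveSpecialLinearGroup (Fin 2) F)).factorization p ∧
      Nat.card (Matrix.ProjectiveSpecialLinearGroup (Fin 2) F) <
        p ^ (3 * (Nat.card (Matrix.ProjectiveSpecialLinearGroup (Fin 2) F)).factorization p) := by
  obtain ⟨k, hk, hq⟩ := exists_pow (F := F) hp
  have hq2 := two_le hp hk hq
  have h := S0243.result (F := F) rfl 2 le_rfl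
  rw [prod_gl, Finset.prod_range_succ', Finset.prod_range_one] at h
  have he : (2 : ℕ) * (2 - 1) / 2 = 1 := by norm_num
  rw [he, pow_one, zero_add, mul_left_comm, ← mul_assoc (Fintype.card F),
    mul_comm _ (Fintype.card F - 1)] at h
  have h' := Nat.eq_of_mul_eq_mul_left (show 0 < Fintype.card F - 1 by omega) h
  set n := Nat.card (Matrix.ProjectiveSpecialLinearGroup (Fin 2) F) with hn
  have hn0 : n ≠ 0 := Nat.card_pos.ne'
  set d := Nat.gcd 2 (Fintype.card F - 1) with hd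
  have hdc : Nat.Coprime d p :=
    Nat.Coprime.coprime_dvd_left (Nat.gcd_dvd_right _ _) (coprime_sub hp hk hq)
  have hrc : Nat.Coprime (Fintype.card F ^ 2 - 1) p := coprime_pow_sub 2 (by norm_num) hp hk hq
  have hd0 : d ≠ 0 := by
    intro h0
    rw [h0, Nat.coprime_zero_left] at hdc
    exact hp.ne_one hdc
  have hr0 : Fintype.card F ^ 2 - 1 ≠ 0 := by
    have : 1 < Fintype.card F ^ 2 := Nat.one_lt_pow (by omega) (by omega)
    omega
  have hf : n.factorization p = k := by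
    have h1 : (d * n).factorization p = (p ^ k * (Fintype.card F ^ 2 - 1)).factorization p := by rw [h', ← hq]
    rw [Nat.factorization_mul hd0 hn0, Nat.factorization_mul (pow_ne_zero _ hp.ne_zero) hr0] at h1
    have h2 : d.factorization p = 0 :=
      Nat.factorization_eq_zero_of_not_dvd ((hp.coprime_iff_not_dvd).1 hdc.symm)
    have h3 : (Fintype.card F ^ 2 - 1).factorization p = 0 :=
      Nat.factorization_eq_zero_of_not_dvd ((hp.coprime_iff_not_dvd).1 hrc.symm)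
    have h4 : (p ^ k).factorization p = k := by
      rw [Nat.Prime.factorization_pow hp]; simp
    simp only [Finsupp.add_apply, h2, h3, h4] at h1
    omega
  refine ⟨by rw [hf]; exact hq, ?_⟩
  rw [hf, mul_comm, pow_mul, ← hq]
  have hle : n ≤ d * n := Nat.le_mul_of_pos_left n (Nat.pos_of_ne_zero hd0)
  calc n ≤ d * n := hle
    _ = Fintype.card F * (Fintype.card F ^ 2 - 1) := h'
    _ < Fintype.card F * Fintype.card F ^ 2 :=
        Nat.mul_lt_mul_of_pos_left (by have := pow_pos (show 0 < Fintype.card F by omega) 2; omega) (by omega)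
    _ = Fintype.card F ^ 3 := by ring

/-- **`|X| ^ 3 < |X|_p ^ 8`** for `X` of Lie type in characteristic `p`, unless `X ≅ PSL₂(F)`, `|F| = |X|_p`. -/
theorem lie_eight {X : Type*} [Group X] {p : ℕ} (hp : p.Prime) (h : IsLieTypeChar p X) :
    Nat.card X ^ 3 < p ^ (8 * (Nat.card X).factorization p) ∨
      ((∃ (F : Type) (_ : Field F) (_ : Fintype F), Fintype.card F = p ^ (Nat.card X).factorization p ∧
        Nonempty (X ≃* Matrix.ProjectiveSpecialLinearGroup (Fin 2) F)) ∧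
      Nat.card X < p ^ (3 * (Nat.card X).factorization p)) := by
  rcases h with h | h | h | h | h | h | h | h | ⟨hp', h⟩ | ⟨hp', h⟩ | ⟨hp', h⟩
  · obtain ⟨F, i1, i2, i3, n, h1, h2, ⟨f⟩⟩ := h
    rcases Nat.lt_or_ge n 3 with h3 | h3
    · have h4 : n = 2 := by omega
      subst h4
      right
      rw [Nat.card_congr f.toEquiv]
      have h5 := psl_two (F := F) hp
      exact ⟨⟨F, i1, i2, h5.1, ⟨f⟩⟩, h5.2⟩
    · left
      rw [Nat.card_congr f.toEquiv]
      exact psl hp h3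
  · obtain ⟨F, _, _, _, m, h1, h2, ⟨f⟩⟩ := h
    rw [Nat.card_congr f.toEquiv]
    exact Or.inl (psp hp h1)
  · obtain ⟨F, _, _, _, n, q, h1, h2, h3, ⟨f⟩⟩ := h
    rw [Nat.card_congr f.toEquiv]
    exact Or.inl (psu hp h1 h2)
  · obtain ⟨F, _, _, _, m, h1, h2, ⟨f⟩⟩ := h
    rw [Nat.card_congr f.toEquiv]
    exact Or.inl (pomegaOdd hp h1 h2)
  · obtain ⟨F, i1, i2, i3, m, h1, ⟨f⟩⟩ := h
    rw [Nat.card_congr f.toEquiv]
    exact Or.inl (pomegaPlus hp h1)
  · obtain ⟨F, i1, i2, i3, m, a, b, h1, h2, ⟨f⟩⟩ := h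
    rw [Nat.card_congr f.toEquiv]
    exact Or.inl (pomegaMinus hp h1 a b h2)
  · left
    obtain ⟨F, i1, i2, i3, h⟩ := h
    rcases h with ⟨h1, ⟨f⟩⟩ | ⟨⟨f⟩⟩ | ⟨⟨f⟩⟩ | ⟨⟨f⟩⟩ | ⟨⟨f⟩⟩
    · rw [Nat.card_congr f.toEquiv]; exact g2 hp
    · rw [Nat.card_congr f.toEquiv]; exact f4 hp
    · rw [Nat.card_congr f.toEquiv]; exact e6 hp
    · rw [Nat.card_congr f.toEquiv]; exact e7 hp
    · rw [Nat.card_congr f.toEquiv]; exact e8 hp
  · left
    obtain ⟨F, i1, i2, i3, q, hq, h⟩ := h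
    rcases h with ⟨h1, ⟨f⟩⟩ | ⟨h1, ⟨f⟩⟩
    · rw [Nat.card_congr f.toEquiv]; exact twE6 hp hq h1
    · rw [Nat.card_congr f.toEquiv]; exact twD4 hp hq h1
  · left
    obtain ⟨F, _, _, m, h1, h2, ⟨f⟩⟩ := h
    subst hp'
    rw [Nat.card_congr f.toEquiv]
    exact sz h1 h2
  · left
    obtain ⟨F, _, _, m, h1, h2, ⟨f⟩⟩ := h
    subst hp'
    rw [Nat.card_congr f.toEquiv]
    exact twF4 h2
  · left
    obtain ⟨F, _, _, m, h1, h2, ⟨f⟩⟩ := h
    subst hp'
    rw [Nat.card_congr f.toEquiv]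
    exact ree h2

end Cfsg.Agent.H126.OrdEight
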