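import Cfsg.Agent.H126.SepMain

/-!
# Separation in defining characteristic: spaces with a form (helper126, tasks 460-462 of helper903)

`EH σ ε β` : `β : V → V → F` is a nondegenerate `ε`-hermitian form, linear in the first variable, `ε = ± 1`, `σ² = 1`.
Symplectic: `σ = 1`, `ε = -1`; symmetric: `σ = 1`, `ε = 1`; hermitian: `σ ≠ 1`, `ε = 1`.
-/

set_option autoImplicit false
set_option linter.unusedSectionVars false
set_option linter.unusedVariables false

namespace Cfsg.Agent.H126.SepForm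

open Module Cfsg.Agent.H903.SylSemi Cfsg.Agent.H126.SepStep Cfsg.Agent.H126.SepMain

universe u v w

/-- Nondegenerate `ε`-hermitian forms. -/
structure EH {F : Type u} [Field F] (σ : F ≃+* F) (ε : F) {V : Type v} [AddCommGroup V] [Module F V]
    (β : V → V → F) : Prop where
  eps : ε = 1 ∨ ε = -1
  inv : ∀ a, σ (σ a) = a
  addl : ∀ u v w, β (u + v) w = β u w + β v w
  smull : ∀ (a : F) u v, β (a • u) v = a * β u v
  herm : ∀ u v, β v u = ε * σ (β u v)
  nondeg : ∀ v, (∀ w, β v w = 0) → v = 0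

namespace EH

variable {F : Type u} [Field F] {σ : F ≃+* F} {ε : F} {V : Type v} [AddCommGroup V] [Module F V] {β : V → V → F}

theorem eps_sq (h : EH σ ε β) : ε * ε = 1 := by
  rcases h.eps with h | h <;> rw [h] <;> ring

theorem sig_eps (h : EH σ ε β) : σ ε = ε := by
  rcases h.eps with h | h <;> rw [h]
  · rw [map_one]
  · rw [map_neg, map_one]

theorem addr (h : EH σ ε β) (u v w : V) : β u (v + w) = β u v + β u w := by
  rw [h.herm (v + w) u, h.addl, map_add, mul_add, ← h.herm, ← h.herm]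

theorem smulr (h : EH σ ε β) (a : F) (u v : V) : β u (a • v) = σ a * β u v := by
  rw [h.herm (a • v) u, h.smull, map_mul, h.herm v u]
  ring

theorem symm (h : EH σ ε β) {u v : V} (huv : β u v = 0) : β v u = 0 := by
  rw [h.herm, huv, map_zero, mul_zero]

theorem zerol (h : EH σ ε β) (v : V) : β 0 v = 0 := by
  have := h.smull 0 0 v
  rwa [zero_smul, zero_mul] at this

theorem zeror (h : EH σ ε β) (v : V) : β v 0 = 0 := h.symm (h.zerol v)

theorem subl (h : EH σ ε β) (u v w : V) : β (u - v) w = β u w - β v w := by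
  rw [sub_eq_add_neg, ← neg_one_smul F v, h.addl, h.smull]
  ring

/-- The functional `β · w`. -/
def fl (h : EH σ ε β) (w : V) : V →ₗ[F] F where
  toFun v := β v w
  map_add' u v := h.addl u v w
  map_smul' a v := h.smull a v w

/-- A hyperbolic partner of an isotropic vector (odd characteristic). -/
theorem exists_partner (h : EH σ ε β) (h2 : (2 : F) ≠ 0) {e : V} (he : e ≠ 0) (hee : β e e = 0) :
    ∃ f, β e f = 1 ∧ β f f = 0 := by
  obtain ⟨w, hw⟩ : ∃ w, β e w ≠ 0 := by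
    by_contra hcon
    push Not at hcon
    exact he (h.nondeg e hcon)
  obtain ⟨f0, hf0⟩ : ∃ f0, β e f0 = 1 := by
    refine ⟨σ (β e w)⁻¹ • w, ?_⟩
    rw [h.smulr, h.inv, inv_mul_cancel₀ hw]
  have hf0' : β f0 e = ε := by rw [h.herm e f0, hf0, map_one, mul_one]
  have hff : ε * σ (β f0 f0) = β f0 f0 := (h.herm f0 f0).symm
  refine ⟨f0 + (-(β f0 f0) / 2) • e, ?_, ?_⟩
  · rw [h.addr, h.smulr, hee, mul_zero, add_zero, hf0]
  · rw [h.addl, h.addr, h.addr, h.smull, h.smull, h.smulr, h.smulr, hee, hf0, hf0', map_div₀, map_neg]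
    have hs2 : σ (2 : F) = 2 := map_ofNat σ 2
    rw [hs2]
    field_simp
    linear_combination (-2 : F) * hff

end EH

section hyp

variable {F : Type u} [Field F] {σ : F ≃+* F} {ε : F} {V : Type v} [AddCommGroup V] [Module F V] {β : V → V → F}

/-- A hyperbolic pair. -/
structure HP (β : V → V → F) (e f : V) : Prop where
  ee : β e e = 0
  ff : β f f = 0
  ef : β e f = 1

theorem HP.fe {e f : V} (h : EH σ ε β) (k : HP β e f) : β f e = ε := by
  rw [h.herm e f, k.ef, map_one, mul_one]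

/-- The functionals of the decomposition. -/
def psi (h : EH σ ε β) (e f : V) : V →ₗ[F] F := h.fl f
/-- The functionals of the decomposition. -/
def phi (h : EH σ ε β) (e f : V) : V →ₗ[F] F := ε • h.fl e

theorem psi_apply (h : EH σ ε β) (e f v : V) : psi h e f v = β v f := rfl
theorem phi_apply (h : EH σ ε β) (e f v : V) : phi h e f v = ε * β v e := rfl

/-- The orthogonal complement of the hyperbolic plane. -/
abbrev CC (h : EH σ ε β) (e f : V) : Submodule F V := LinearMap.ker (psi h e f) ⊓ LinearMap.ker (phi h e f)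

theorem mem_CC (h : EH σ ε β) {e f v : V} : v ∈ CC h e f ↔ β v f = 0 ∧ β v e = 0 := by
  constructor
  · rintro ⟨h1, h2⟩
    refine ⟨h1, ?_⟩
    have h3 : ε * β v e = 0 := h2
    rcases mul_eq_zero.1 h3 with h4 | h4
    · have := h.eps_sq
      rw [h4, zero_mul] at this
      exact absurd this.symm one_ne_zero
    · exact h4
  · rintro ⟨h1, h2⟩
    refine ⟨h1, ?_⟩
    change ε * β v e = 0
    rw [h2, mul_zero]

/-- The decomposition. -/
def dec (h : EH σ ε β) {e f : V} (k : HP β e f) : V ≃ₗ[F] ↥(CC h e f) × (F × F) :=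
  decE (psi h e f) (phi h e f) e f (by rw [psi_apply, k.ef]) (by rw [psi_apply, k.ff])
    (by rw [phi_apply, k.ee, mul_zero]) (by rw [phi_apply, k.fe h, h.eps_sq])

theorem dec_symm_apply (h : EH σ ε β) {e f : V} (k : HP β e f) (w : ↥(CC h e f) × (F × F)) :
    (dec h k).symm w = (w.1 : V) + w.2.1 • e + w.2.2 • f := rfl

/-- The form on the complement. -/
def resF (β : V → V → F) (S : Submodule F V) (u v : S) : F := β u v

theorem EH.res (h : EH σ ε β) {e f : V} (k : HP β e f) : EH σ ε (resF β (CC h e f)) := by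
  refine ⟨h.eps, h.inv, fun u v w => h.addl _ _ _, fun a u v => h.smull _ _ _, fun u v => h.herm _ _, fun v hv => ?_⟩
  apply Subtype.ext
  apply h.nondeg
  intro w
  obtain ⟨⟨c, x, z⟩, rfl⟩ := (dec h k).symm.surjective w
  obtain ⟨v1, v2⟩ := (mem_CC h).1 v.2
  rw [dec_symm_apply, h.addr, h.addr, h.smulr, h.smulr, v1, v2, mul_zero, mul_zero, add_zero, add_zero]
  exact hv c

/-- The form in coordinates. -/
theorem form_dec (h : EH σ ε β) {e f : V} (k : HP β e f) (c c' : ↥(CC h e f)) (x z x' z' : F) :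
    β ((dec h k).symm (c, (x, z))) ((dec h k).symm (c', (x', z'))) =
      resF β (CC h e f) c c' + x * σ z' + ε * (z * σ x') := by
  obtain ⟨v1, v2⟩ := (mem_CC h).1 c.2
  obtain ⟨v1', v2'⟩ := (mem_CC h).1 c'.2
  rw [dec_symm_apply, dec_symm_apply]
  simp only [h.addl, h.addr, h.smull, h.smulr, v1, v2, h.symm v1', h.symm v2', k.ee, k.ff, k.ef, k.fe h, resF]
  ring

/-- `g` is an isometry. -/
def IsIso (F : Type u) [Field F] {V : Type v} [AddCommGroup V] [Module F V] (β : V → V → F) (g : Equiv.Perm V) : Prop :=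
  Semi F g (1 : F ≃+* F) ∧ ∀ u v, β (g u) (g v) = β u v

/-- The companion of `t`. -/
def sC (σ : F ≃+* F) (ε : F) (hε : ε * ε = 1) (t : Fˣ) : Fˣ :=
  (Units.mk0 ε (left_ne_zero_of_mul (by rw [hε]; exact one_ne_zero))) * (Units.map σ.toMonoidHom t)⁻¹

theorem sC_val (hε : ε * ε = 1) (t : Fˣ) : ((sC σ ε hε t : Fˣ) : F) = ε * (σ t)⁻¹ := by
  rw [sC, Units.val_mul, Units.val_mk0, Units.val_inv_eq_inv_val]
  rfl

/-- The isometry of `V` built from an isometry of the complement. -/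
noncomputable def GG (h : EH σ ε β) {e f : V} (k : HP β e f) (g' : Equiv.Perm ↥(CC h e f)) (t : Fˣ) : Equiv.Perm V :=
  (tr (dec h k)).symm (gW t (sC σ ε h.eps_sq t) g')

theorem isIso_GG (h : EH σ ε β) {e f : V} (k : HP β e f) {g' : Equiv.Perm ↥(CC h e f)}
    (hg' : IsIso F (resF β (CC h e f)) g') (t : Fˣ) : IsIso F β (GG h k g' t) := by
  refine ⟨tr_symm_semi _ (gW_semi hg'.1), fun u v => ?_⟩
  obtain ⟨⟨c, x, z⟩, rfl⟩ := (dec h k).symm.surjective u
  obtain ⟨⟨c', x', z'⟩, rfl⟩ := (dec h k).symm.surjective v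
  have ht := t.ne_zero
  have hσt : σ (t : F) ≠ 0 := by rw [Ne, map_eq_zero_iff σ σ.injective]; exact ht
  have h1 : ∀ (c : ↥(CC h e f)) (x z : F), GG h k g' t ((dec h k).symm (c, (x, z))) =
      (dec h k).symm (g' c, ((sC σ ε h.eps_sq t : Fˣ) * z, (t : F) * x)) := by
    intro c x z
    rw [GG, tr_symm_apply, LinearEquiv.apply_symm_apply, gW_apply]
  rw [h1, h1, form_dec h k, form_dec h k, hg'.2, sC_val]
  rw [map_mul, map_mul, map_mul, map_inv₀, h.inv, h.sig_eps]
  have e1 : ε * (σ (t : F))⁻¹ * z * (σ t * σ x') = ε * (z * σ x') := by field_simp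
  have e2 : ε * ((t : F) * x * (ε * (t : F)⁻¹ * σ z')) = (ε * ε) * (x * σ z') := by field_simp
  rw [e1, e2, h.eps_sq]
  ring

theorem isDet_GG (h : EH σ ε β) {e f : V} (k : HP β e f) [Module.Finite F V] {g' : Equiv.Perm ↥(CC h e f)} {d : F}
    (hg' : IsDet F d g') (t : Fˣ) : IsDet F (-((t : F) * (ε * (σ t)⁻¹)) * d) (GG h k g' t) := by
  have h1 := isDet_tr_symm (dec h k) (isDet_gW hg' t (sC σ ε h.eps_sq t))
  rw [sC_val] at h1
  exact h1

end hyp

section group

variable {F : Type u} [Field F] {σ : F ≃+* F} {ε : F} {V : Type v} [AddCommGroup V] [Module F V] {β : V → V → F}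

/-- `Γ` is a `p`-group of semisimilarities. -/
structure PSF (p : ℕ) (F : Type u) [Field F] {V : Type v} [AddCommGroup V] [Module F V] (β : V → V → F)
    (Γ : Subgroup (Equiv.Perm V)) : Prop where
  grp : IsPGroup p Γ
  sim : ∀ y ∈ Γ, ∃ (θ : F ≃+* F) (τ : F), τ ≠ 0 ∧ Semi F y θ ∧ ∀ u v, β (y u) (y v) = τ * θ (β u v)

theorem PSF.ps {p : ℕ} {Γ : Subgroup (Equiv.Perm V)} (h : PSF p F β Γ) : PS p F Γ :=
  ⟨h.grp, fun y hy => by
    obtain ⟨θ, τ, -, h1, -⟩ := h.sim y hy
    exact ⟨θ, h1⟩⟩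

theorem dvd_card {p : ℕ} [Fact p.Prime] [Finite F] [CharP F p] : p ∣ Nat.card F := by
  have := Fintype.ofFinite F
  obtain ⟨n, -, hn⟩ := FiniteField.card F p
  rw [Nat.card_eq_fintype_card, hn]
  exact dvd_pow_self p n.ne_zero

/-- The action on the isotropic vectors has a nonzero fixed point. -/
theorem exists_fixed {p : ℕ} [Fact p.Prime] [Finite V] (h : EH σ ε β) {Γ : Subgroup (Equiv.Perm V)}
    (hP : PSF p F β Γ) (hcard : p ∣ Nat.card {v : V // β v v = 0}) :
    ∃ e : V, e ≠ 0 ∧ β e e = 0 ∧ ∀ y ∈ Γ, y e = e := by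
  let act : MulAction Γ {v : V // β v v = 0} :=
    { smul := fun y v => ⟨y.1 v.1, by
        obtain ⟨θ, τ, -, -, h2⟩ := hP.sim y y.2
        rw [h2, v.2, map_zero, mul_zero]⟩
      one_smul := fun v => rfl
      mul_smul := fun y z v => rfl }
  obtain ⟨e, he, he0⟩ := hP.grp.exists_fixed_point_of_prime_dvd_card_of_fixed_point {v : V // β v v = 0} hcard
    (a := ⟨0, h.zerol 0⟩) (fun y => Subtype.ext (by
      obtain ⟨θ, τ, -, hθ, -⟩ := hP.sim y y.2
      exact semi_zero hθ))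
  exact ⟨e, fun h => he0 (Subtype.ext h.symm), e.2, fun y hy => congrArg Subtype.val (he ⟨y, hy⟩)⟩

theorem St_dec {p : ℕ} (h : EH σ ε β) {e f : V} (k : HP β e f) {Γ : Subgroup (Equiv.Perm V)} (hP : PSF p F β Γ)
    (hfix : ∀ y ∈ Γ, y e = e) : St (trG (dec h k) Γ) := by
  apply St_decE hfix
  intro y hy v hv
  obtain ⟨θ, τ, -, -, h2⟩ := hP.sim y hy
  rw [phi_apply] at hv ⊢
  have hε : ε ≠ 0 := left_ne_zero_of_mul (by rw [h.eps_sq]; exact one_ne_zero)
  have h3 : β v e = 0 := (mul_eq_zero.1 hv).resolve_left hε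
  have h4 := h2 v e
  rw [hfix y hy, h3, map_zero, mul_zero] at h4
  rw [h4, mul_zero]

/-- The induced group on the complement consists of semisimilarities. -/
theorem bar_PSF {p : ℕ} (h : EH σ ε β) {e f : V} (k : HP β e f) {Γ : Subgroup (Equiv.Perm V)} (hP : PSF p F β Γ)
    (hfix : ∀ y ∈ Γ, y e = e) :
    PSF p F (resF β (CC h e f)) (bar (St_dec h k hP hfix) (trG_PS hP.ps)) := by
  have hS := St_dec h k hP hfix
  refine ⟨(bar_PS hS (trG_PS hP.ps)).grp, ?_⟩
  rintro _ ⟨⟨_, y, hy, rfl⟩, rfl⟩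
  obtain ⟨θ, τ, hτ, hθ, h2⟩ := hP.sim y hy
  refine ⟨θ, τ, hτ, bar_semi hS _ _ (tr_semi _ hθ), fun c c' => ?_⟩
  have h3 : ∀ c : ↥(CC h e f), ∃ x : F, y c = (dec h k).symm (barF (tr (dec h k) y) c, (x, 0)) := by
    intro c
    refine ⟨(tr (dec h k) y (c, (0, 0))).2.1, ?_⟩
    have h4 := hS.hyp (tr (dec h k) y) (mem_trG.2 hy) c 0
    have h5 : tr (dec h k) y (c, (0, 0)) = (barF (tr (dec h k) y) c, ((tr (dec h k) y (c, (0, 0))).2.1, 0)) :=
      Prod.ext rfl (Prod.ext rfl h4)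
    rw [← h5, tr_apply, LinearEquiv.symm_apply_apply, dec_symm_apply]
    simp
  obtain ⟨x, hx⟩ := h3 c
  obtain ⟨x', hx'⟩ := h3 c'
  have h6 := h2 c c'
  rw [hx, hx', form_dec h k, map_zero, mul_zero, add_zero, zero_mul, mul_zero, add_zero] at h6
  exact h6

end group

end Cfsg.Agent.H126.SepForm
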