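import Cfsg.Agent.H126.SepForm

/-!
# Separation in defining characteristic: the induction and the top level (helper126, tasks 460-462 of helper903)
-/

set_option autoImplicit false
set_option linter.unusedSectionVars false
set_option linter.unusedVariables false

namespace Cfsg.Agent.H126.SepInd

open Module Cfsg.Agent.H903.SylSemi Cfsg.Agent.H126.SepStep Cfsg.Agent.H126.SepMain Cfsg.Agent.H126.SepForm

universe u v w

section gen

variable {F : Type u} [Field F] {σ : F ≃+* F} {ε : F} {V : Type v} [AddCommGroup V] [Module F V] {β : V → V → F}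

theorem finrank_CC (h : EH σ ε β) {e f : V} (k : HP β e f) [Module.Finite F V] :
    finrank F V = finrank F ↥(CC h e f) + 2 := by
  rw [(dec h k).finrank_eq, finrank_prod, finrank_prod, finrank_self]

theorem isIso_one : IsIso F β (1 : Equiv.Perm V) := ⟨⟨fun _ _ => rfl, fun _ _ => rfl⟩, fun _ _ => rfl⟩

/-- The induction. -/
theorem exists_PG {p : ℕ} [Fact p.Prime] [Finite F] [CharP F p] (h2 : (2 : F) ≠ 0) {d : ℕ} {D : ℕ → Set F}
    (hcount : ∀ {V : Type v} [AddCommGroup V] [Module F V] [Finite V] {β : V → V → F}, EH σ ε β → d < finrank F V →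
      p ∣ Nat.card {v : V // β v v = 0})
    (hbase : ∀ {V : Type v} [AddCommGroup V] [Module F V] [Finite V] {β : V → V → F}, EH σ ε β → finrank F V ≤ d →
      ∀ {Γ : Subgroup (Equiv.Perm V)}, PSF p F β Γ → (∀ y ∈ Γ, Semi F y (1 : F ≃+* F) → y = 1) ∧
        ∀ δ ∈ D (finrank F V), ∃ g, IsIso F β g ∧ IsDet F δ g)
    (hstep : ∀ n, d < n → 2 ≤ n → ∀ δ ∈ D n, ∃ t : Fˣ, ∃ δ' ∈ D (n - 2), -((t : F) * (ε * (σ t)⁻¹)) * δ' = δ) (n : ℕ) :
    ∀ {V : Type v} [AddCommGroup V] [Module F V] [Finite V] {β : V → V → F}, EH σ ε β → finrank F V = n →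
      ∀ {Γ : Subgroup (Equiv.Perm V)}, PSF p F β Γ → ∀ δ ∈ D n, ∃ g, IsIso F β g ∧ IsDet F δ g ∧ PG F Γ g := by
  induction n using Nat.strong_induction_on with
  | _ n ih =>
    intro V _ _ _ β h hn Γ hP δ hδ
    rcases Nat.lt_or_ge d n with hd | hd
    · obtain ⟨e, he, hee, hfix⟩ := exists_fixed h hP (hcount h (by omega))
      obtain ⟨f, hef, hff⟩ := h.exists_partner h2 he hee
      have k : HP β e f := ⟨hee, hff, hef⟩
      have hfin := finrank_CC h k
      obtain ⟨t, δ', hδ', hδe⟩ := hstep n hd (by omega) δ hδ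
      obtain ⟨g', hg1, hg2, hg3⟩ := ih (finrank F ↥(CC h e f)) (by omega) (h.res k) rfl (bar_PSF h k hP hfix) δ'
        (by rwa [show finrank F ↥(CC h e f) = n - 2 by omega])
      refine ⟨GG h k g' t, isIso_GG h k hg1 t, ?_, ?_⟩
      · rw [← hδe]
        exact isDet_GG h k hg2 t
      · exact PG_of_trG (step (St_dec h k hP hfix) (trG_PS hP.ps) hg1.1 hg3)
    · obtain ⟨k1, k2⟩ := hbase h (by omega) hP
      obtain ⟨g, hg1, hg2⟩ := k2 δ (by rwa [hn])
      exact ⟨g, hg1, hg2, PG_base hP.ps k1 hg1.1⟩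

/-- The top level. -/
theorem top {p : ℕ} [Fact p.Prime] [Finite F] [CharP F p] [Finite V] (h2 : (2 : F) ≠ 0) (h : EH σ ε β)
    (hn : 3 ≤ finrank F V) {Γ : Subgroup (Equiv.Perm V)} (hP : PSF p F β Γ)
    (hcount : p ∣ Nat.card {v : V // β v v = 0}) (u : Fˣ) (hσ : σ u = u)
    (hu : ∀ θ : F ≃+* F, (∃ k : ℕ, θ ^ p ^ k = 1) → θ u = u → θ = 1) (X : Equiv.Perm V → Prop)
    (hX : ∀ (e f : V) (k : HP β e f) (Γ' : Subgroup (Equiv.Perm ↥(CC h e f))), PSF p F (resF β (CC h e f)) Γ' →
      ∃ g', Semi F g' (1 : F ≃+* F) ∧ PG F Γ' g' ∧ ∃ t : Fˣ, X (GG h k g' t) ∧ X (GG h k g' (t * u))) :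
    ∃ g, X g ∧ SepBy F Γ g := by
  obtain ⟨e, he, hee, hfix⟩ := exists_fixed h hP hcount
  obtain ⟨f, hef, hff⟩ := h.exists_partner h2 he hee
  have k : HP β e f := ⟨hee, hff, hef⟩
  have hfin := finrank_CC h k
  have hS := St_dec h k hP hfix
  obtain ⟨g', hg1, hg2, t, hX1, hX2⟩ := hX e f k _ (bar_PSF h k hP hfix)
  have hC : ∃ c0 : ↥(CC h e f), c0 ≠ 0 := by
    have : Nontrivial ↥(CC h e f) := Module.nontrivial_of_finrank_pos (R := F) (by omega)
    exact exists_ne 0
  have key := sep hS (trG_PS hP.ps) hg1 hg2 t (sC σ ε h.eps_sq t) u (Units.map σ.toMonoidHom u)⁻¹ (by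
    intro θ hθ c h1 _ h3
    apply hu θ hθ
    rw [h3 hC, one_mul] at h1
    exact h1.symm)
  rcases key with key | key
  · exact ⟨_, hX1, SepBy_of_trG key⟩
  · have e1 : sC σ ε h.eps_sq t * (Units.map σ.toMonoidHom u)⁻¹ = sC σ ε h.eps_sq (t * u) := by
      rw [sC, sC, map_mul, mul_inv, mul_assoc]
    rw [e1] at key
    exact ⟨_, hX2, SepBy_of_trG key⟩

end gen

section counting

variable {F : Type u} [Field F] {σ : F ≃+* F} {ε : F} {V : Type v} [AddCommGroup V] [Module F V] {β : V → V → F}

theorem EH_suml (h : EH σ ε β) {ι : Type w} (s : Finset ι) (x : ι → F) (b : ι → V) (w : V) :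
    β (∑ i ∈ s, x i • b i) w = ∑ i ∈ s, x i * β (b i) w := by
  have := map_sum (h.fl w) (fun i => x i • b i) s
  simp only [map_smul, smul_eq_mul] at this
  exact this

theorem EH_sumr (h : EH σ ε β) {ι : Type w} (s : Finset ι) (x : ι → F) (b : ι → V) (w : V) :
    β w (∑ i ∈ s, x i • b i) = ∑ i ∈ s, σ (x i) * β w (b i) := by
  rw [h.herm, EH_suml h, map_sum, Finset.mul_sum]
  apply Finset.sum_congr rfl
  intro i _
  rw [map_mul, h.herm (b i) w]
  ring

open MvPolynomial in
/-- The form as a polynomial (`σ x = x ^ q`). -/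
theorem exists_poly [Module.Finite F V] (h : EH σ ε β) {q : ℕ} (hq : ∀ x : F, σ x = x ^ q) :
    ∃ f : MvPolynomial (Fin (finrank F V)) F, f.totalDegree ≤ q + 1 ∧
      ∀ v, eval ((Module.finBasis F V).equivFun v) f = β v v := by
  let b := Module.finBasis F V
  refine ⟨∑ i, ∑ j, C (β (b i) (b j)) * (X i * X j ^ q), ?_, fun v => ?_⟩
  · refine (totalDegree_finsetSum _ _).trans ?_
    refine Finset.sup_le fun i _ => ?_
    refine (totalDegree_finsetSum _ _).trans ?_
    refine Finset.sup_le fun j _ => ?_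
    refine (totalDegree_mul _ _).trans ?_
    rw [totalDegree_C, zero_add]
    refine (totalDegree_mul _ _).trans ?_
    have h1 := totalDegree_pow (X j : MvPolynomial (Fin (finrank F V)) F) q
    rw [totalDegree_X, mul_one] at h1
    rw [totalDegree_X]
    omega
  · set x := b.equivFun v with hx
    have hv : v = ∑ i, x i • b i := by rw [hx, b.sum_equivFun]
    rw [hv, EH_suml h]
    simp only [map_sum, map_mul, map_pow, eval_C, eval_X]
    apply Finset.sum_congr rfl
    intro i _
    rw [EH_sumr h, Finset.mul_sum]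
    apply Finset.sum_congr rfl
    intro j _
    rw [hq]
    ring

theorem card_equiv [Module.Finite F V] (h : EH σ ε β) (f : MvPolynomial (Fin (finrank F V)) F)
    (hf : ∀ v, MvPolynomial.eval ((Module.finBasis F V).equivFun v) f = β v v) :
    Nat.card {v : V // β v v = 0} = Nat.card {x : Fin (finrank F V) → F // MvPolynomial.eval x f = 0} := by
  refine Nat.card_congr ((Module.finBasis F V).equivFun.toEquiv.subtypeEquiv fun v => ?_)
  rw [← hf]
  rfl

/-- Symmetric forms: Chevalley-Warning. -/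
theorem dvd_sym {p : ℕ} [Fact p.Prime] [Finite F] [CharP F p] [Finite V] {β : V → V → F} (h : EH (1 : F ≃+* F) ε β)
    (hn : 3 ≤ finrank F V) : p ∣ Nat.card {v : V // β v v = 0} := by
  classical
  have := Fintype.ofFinite F
  obtain ⟨f, hf1, hf2⟩ := exists_poly h (q := 1) (fun x => by rw [pow_one]; rfl)
  rw [card_equiv h f hf2, Nat.card_eq_fintype_card]
  apply char_dvd_card_solutions p
  rw [Fintype.card_fin]
  omega

/-- Hermitian forms: the same for `1 - f ^ (q - 1)`. -/
theorem dvd_herm {p q : ℕ} [Fact p.Prime] [Finite F] [CharP F p] [Finite V] {β : V → V → F} (h : EH σ 1 β)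
    (hq : ∀ x : F, σ x = x ^ q) (hF : Nat.card F = q ^ 2) (hn : 2 ≤ finrank F V) :
    p ∣ Nat.card {v : V // β v v = 0} := by
  classical
  have := Fintype.ofFinite F
  have hF' : Fintype.card F = q ^ 2 := by rw [← Nat.card_eq_fintype_card, hF]
  have hq1 : 1 < q := by
    have := Fintype.one_lt_card (α := F)
    rw [hF'] at this
    by_contra hcon
    have : q = 0 ∨ q = 1 := by omega
    rcases this with rfl | rfl <;> simp at this
  obtain ⟨f, hf1, hf2⟩ := exists_poly h hq
  rw [card_equiv h f hf2]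
  have hfix : ∀ x : Fin (finrank F V) → F, (MvPolynomial.eval x f) ^ q = MvPolynomial.eval x f := by
    intro x
    have h1 := hf2 ((Module.finBasis F V).equivFun.symm x)
    rw [LinearEquiv.apply_symm_apply] at h1
    rw [h1, ← hq]
    have h3 := h.herm ((Module.finBasis F V).equivFun.symm x) ((Module.finBasis F V).equivFun.symm x)
    rw [one_mul] at h3
    exact h3.symm
  have hval : ∀ x : Fin (finrank F V) → F, MvPolynomial.eval x (1 - f ^ (q - 1)) =
      if MvPolynomial.eval x f = 0 then 1 else 0 := by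
    intro x
    rw [map_sub, map_one, map_pow]
    split_ifs with h0
    · rw [h0, zero_pow (by omega), sub_zero]
    · have h1 := hfix x
      have h3 : (MvPolynomial.eval x f) ^ (q - 1) * MvPolynomial.eval x f = 1 * MvPolynomial.eval x f := by
        rw [← pow_succ, show q - 1 + 1 = q by omega, h1, one_mul]
      rw [mul_right_cancel₀ h0 h3, sub_self]
  have hdeg : (1 - f ^ (q - 1)).totalDegree < (Fintype.card F - 1) * Fintype.card (Fin (finrank F V)) := by
    have h1 : (1 - f ^ (q - 1)).totalDegree ≤ (q - 1) * (q + 1) := by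
      refine (MvPolynomial.totalDegree_sub _ _).trans ?_
      rw [MvPolynomial.totalDegree_one, max_eq_right (Nat.zero_le _)]
      exact (MvPolynomial.totalDegree_pow _ _).trans (Nat.mul_le_mul_left _ hf1)
    have h3 : (q - 1) * (q + 1) = q ^ 2 - 1 := by
      obtain ⟨r, rfl⟩ : ∃ r, q = r + 1 := ⟨q - 1, by omega⟩
      have : (r + 1) ^ 2 = r * (r + 1 + 1) + 1 := by ring
      rw [this]
      simp
    have h4 : 1 < q ^ 2 := by nlinarith
    rw [Fintype.card_fin, hF', ← h3]
    have h5 : 0 < (q - 1) * (q + 1) := Nat.mul_pos (by omega) (by omega)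
    nlinarith
  have hsum := MvPolynomial.sum_eval_eq_zero _ hdeg
  simp only [hval] at hsum
  rw [Finset.sum_ite, Finset.sum_const_zero, add_zero, Finset.sum_const, nsmul_eq_mul, mul_one] at hsum
  rw [Nat.card_eq_fintype_card, Fintype.card_subtype]
  exact (CharP.cast_eq_zero_iff F p _).1 hsum

/-- Symplectic forms. -/
theorem dvd_alt {p : ℕ} [Fact p.Prime] [Finite F] [CharP F p] [Finite V] {β : V → V → F} (h2 : (2 : F) ≠ 0)
    (h : EH (1 : F ≃+* F) (-1) β) (hn : 0 < finrank F V) : p ∣ Nat.card {v : V // β v v = 0} := by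
  have h1 : ∀ v, β v v = 0 := by
    intro v
    have h3 := h.herm v v
    have h4 : β v v = -1 * β v v := h3
    have h5 : 2 * β v v = 0 := by linear_combination h4
    exact (mul_eq_zero.1 h5).resolve_left h2
  have h3 : Nat.card {v : V // β v v = 0} = Nat.card V := Nat.card_congr (Equiv.subtypeUnivEquiv h1)
  rw [h3, Module.natCard_eq_pow_finrank (K := F)]
  exact dvd_pow dvd_card hn.ne'

end counting

section bases

variable {F : Type u} [Field F] {σ : F ≃+* F} {ε : F}

/-- Dimension at most one: linear elements of a `p`-group are trivial. -/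
theorem lin_one {p : ℕ} [Fact p.Prime] [Finite F] [CharP F p] {V : Type v} [AddCommGroup V] [Module F V] [Finite V]
    (hn : finrank F V ≤ 1) {Γ : Subgroup (Equiv.Perm V)} (hP : PS p F Γ) :
    ∀ y ∈ Γ, Semi F y (1 : F ≃+* F) → y = 1 := by
  intro y hy hl
  obtain ⟨k, hk⟩ := hP.pow hy
  ext v
  rw [Equiv.Perm.one_apply]
  by_cases hv : v = 0
  · rw [hv, semi_zero hl]
  have : Module.Finite F V := Module.Finite.of_finite
  have h1 : finrank F V = 1 := by
    have : Nontrivial V := ⟨v, 0, hv⟩
    have := Module.finrank_pos (R := F) (M := V)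
    omega
  obtain ⟨c, hc⟩ := exists_smul_eq_of_finrank_eq_one h1 hv (y v)
  exact fix_of_eigen hl hk hc.symm

/-- A `p`-group of semisimilarities of a symmetric form in dimension two has no nontrivial linear elements. -/
theorem lin_two {p : ℕ} [Fact p.Prime] [Finite F] [CharP F p] {V : Type v} [AddCommGroup V] [Module F V] [Finite V]
    {β : V → V → F} (h2 : (2 : F) ≠ 0) (h : EH (1 : F ≃+* F) 1 β) (hn : finrank F V = 2)
    {Γ : Subgroup (Equiv.Perm V)} (hP : PSF p F β Γ) : ∀ y ∈ Γ, Semi F y (1 : F ≃+* F) → y = 1 := by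
  intro y hy hl
  have hfV : Module.Finite F V := Module.Finite.of_finite
  obtain ⟨k, hk⟩ := hP.ps.pow hy
  -- a fixed vector
  obtain ⟨v1, hv1, hv10⟩ := hP.grp.exists_fixed_point_of_prime_dvd_card_of_fixed_point V (by
    rw [Module.natCard_eq_pow_finrank (K := F), hn]
    exact dvd_pow dvd_card two_ne_zero) (a := (0 : V)) (fun z => by
      obtain ⟨θ, τ, -, hθ, -⟩ := hP.sim z z.2
      exact semi_zero hθ)
  have hfix : y v1 = v1 := hv1 ⟨y, hy⟩
  have hv1' : v1 ≠ 0 := fun h => hv10 h.symm
  obtain ⟨θ, τ, hτ, hθ, hform⟩ := hP.sim y hy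
  have hθ1 : θ = 1 := semi_unique hθ hl hv1'
  subst hθ1
  have hform' : ∀ u v, β (y u) (y v) = τ * β u v := hform
  -- the functional `β · v1`
  have hφ : ∀ v, β (y v) v1 = τ * β v v1 := by
    intro v
    have := hform' v v1
    rwa [hfix] at this
  obtain ⟨w0, hw0⟩ : ∃ w0, β w0 v1 ≠ 0 := by
    by_contra hcon
    push Not at hcon
    exact hv1' (h.nondeg v1 fun w => h.symm (hcon w))
  have hτ1 : τ = 1 := by
    have h3 : ∀ n : ℕ, ∀ v, β ((y ^ n) v) v1 = τ ^ n * β v v1 := by
      intro n
      induction n with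
      | zero => intro v; rw [pow_zero, pow_zero, one_mul]; rfl
      | succ n ih =>
        intro v
        rw [pow_succ, Equiv.Perm.mul_apply, ih, hφ, pow_succ]
        ring
    have h4 := h3 (p ^ k) w0
    rw [hk, Equiv.Perm.one_apply] at h4
    have h5 : τ ^ p ^ k = 1 := by
      have : τ ^ p ^ k * β w0 v1 = 1 * β w0 v1 := by rw [← h4, one_mul]
      exact mul_right_cancel₀ hw0 this
    exact eq_one_of_pow h5
  subst hτ1
  -- the kernel of a nonzero functional is a line
  have hline : ∀ {x w z : V}, x ≠ 0 → w ≠ 0 → β w x = 0 → β z x = 0 → ∃ c : F, z = c • w := by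
    intro x w z hx hw hwx hzx
    have hfx : h.fl x ≠ 0 := by
      intro h0
      apply hx
      apply h.nondeg
      intro v
      exact h.symm (LinearMap.congr_fun h0 v)
    have hfin : finrank F (LinearMap.ker (h.fl x)) = 1 := by
      have h3 := LinearMap.finrank_range_add_finrank_ker (h.fl x)
      rw [LinearMap.range_eq_top.2 (LinearMap.surjective hfx), finrank_top, finrank_self] at h3
      omega
    obtain ⟨c, hc⟩ := exists_smul_eq_of_finrank_eq_one hfin (x := (⟨w, hwx⟩ : LinearMap.ker (h.fl x)))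
      (fun h0 => hw (congrArg Subtype.val h0)) ⟨z, hzx⟩
    exact ⟨c, (congrArg Subtype.val hc).symm⟩
  -- a generator of the kernel of `β · v1`
  obtain ⟨w, hw, hwv⟩ : ∃ w : V, w ≠ 0 ∧ β w v1 = 0 := by
    have h3 := LinearMap.finrank_range_add_finrank_ker (h.fl v1)
    have h4 : finrank F (LinearMap.range (h.fl v1)) ≤ 1 := by
      have := Submodule.finrank_le (LinearMap.range (h.fl v1))
      rwa [finrank_self] at this
    have : Nontrivial (LinearMap.ker (h.fl v1)) := Module.nontrivial_of_finrank_pos (R := F) (by omega)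
    obtain ⟨⟨w, hw⟩, hw0⟩ := exists_ne (0 : LinearMap.ker (h.fl v1))
    exact ⟨w, fun h0 => hw0 (Subtype.ext h0), hw⟩
  have hyw : y w = w := by
    obtain ⟨c, hc⟩ := hline hv1' hw hwv (z := y w) (by rw [hφ, hwv, mul_zero])
    exact fix_of_eigen hl hk hc
  ext v
  rw [Equiv.Perm.one_apply]
  obtain ⟨a, ha⟩ := hline hv1' hw hwv (z := y v - v) (by rw [h.subl, hφ, one_mul, sub_self])
  have ha' : y v = v + a • w := by rw [← ha]; abel
  by_cases ha0 : a = 0
  · rw [ha', ha0, zero_smul, add_zero]
  have h3 := hform' v w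
  rw [hyw, ha', h.addl, h.smull, one_mul] at h3
  have h4 : β w w = 0 := by
    have : a * β w w = 0 := by linear_combination h3
    exact (mul_eq_zero.1 this).resolve_left ha0
  have h5 := hform' v v
  have h6 : ∀ u v, β u v = β v u := by
    intro u v
    rw [h.herm v u, one_mul]
    rfl
  rw [ha', h.addl, h.addr, h.addr, h.smull, h.smull, h.smulr, h.smulr, h4, h6 w v, one_mul] at h5
  have h7 : β v w = 0 := by
    have h8 : β v v + a * β v w + (a * β v w + a * (a * 0)) = β v v := h5
    have h9 : (2 * a) * β v w = 0 := by linear_combination h8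
    exact (mul_eq_zero.1 h9).resolve_left (mul_ne_zero h2 ha0)
  obtain ⟨c, hc⟩ := hline hw hw h4 h7
  rw [hc, hl.2, hyw]
  rfl

/-- Reflections. -/
theorem exists_refl {V : Type v} [AddCommGroup V] [Module F V] [Module.Finite F V] {β : V → V → F} (h2 : (2 : F) ≠ 0)
    (h : EH (1 : F ≃+* F) 1 β) (hn : 0 < finrank F V) : ∃ g, IsIso F β g ∧ IsDet F (-1) g := by
  have h6 : ∀ u v, β u v = β v u := by
    intro u v
    rw [h.herm v u, one_mul]
    rfl
  obtain ⟨v, hv⟩ : ∃ v, β v v ≠ 0 := by
    by_contra hcon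
    push Not at hcon
    have : Nontrivial V := Module.nontrivial_of_finrank_pos (R := F) hn
    obtain ⟨u, hu⟩ := exists_ne (0 : V)
    apply hu
    apply h.nondeg
    intro w
    have h3 := hcon (u + w)
    rw [h.addl, h.addr, h.addr, hcon, hcon, h6 w u] at h3
    have h4 : 2 * β u w = 0 := by linear_combination h3
    exact (mul_eq_zero.1 h4).resolve_left h2
  let f : V →ₗ[F] F := (-2 / β v v) • h.fl v
  have hf : ∀ x, f x = -2 / β v v * β x v := fun x => rfl
  have hL : ∀ x, LinearMap.transvection f v x = x + (-2 / β v v * β x v) • v := fun x => by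
    rw [LinearMap.transvection.apply, hf]
  have hfv : f v = -2 := by rw [hf]; field_simp
  have hinv : ∀ x, LinearMap.transvection f v (LinearMap.transvection f v x) = x := by
    intro x
    rw [LinearMap.transvection.apply, LinearMap.transvection.apply, map_add, map_smul, smul_eq_mul, hfv]
    module
  refine ⟨⟨fun x => LinearMap.transvection f v x, fun x => LinearMap.transvection f v x, hinv, hinv⟩, ⟨⟨?_, ?_⟩, ?_⟩,
    LinearMap.transvection f v, fun _ => rfl, ?_⟩
  · intro x y
    exact (LinearMap.transvection f v).map_add x y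
  · intro a x
    exact (LinearMap.transvection f v).map_smul a x
  · intro x y
    change β (LinearMap.transvection f v x) (LinearMap.transvection f v y) = _
    rw [hL, hL, h.addl, h.addr, h.addr, h.smull, h.smull, h.smulr, h.smulr]
    change β x y + (-2 / β v v * β y v) * β x v + (-2 / β v v * β x v * β v y +
      -2 / β v v * β x v * ((-2 / β v v * β y v) * β v v)) = β x y
    rw [h6 v y]
    field_simp
    ring
  · rw [LinearMap.transvection.det, hfv]
    norm_num

end bases

end Cfsg.Agent.H126.SepInd
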