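import Cfsg.Agent.H126.SepStep

/-!
# Separation in defining characteristic: decompositions and the linear case (helper126, tasks 459-462 of helper903)
-/

set_option autoImplicit false
set_option linter.unusedSectionVars false
set_option linter.unusedVariables false

namespace Cfsg.Agent.H126.SepMain

open Module Cfsg.Agent.H903.SylSemi Cfsg.Agent.H126.SepStep

universe u v w

section dec

variable {F : Type u} [Field F] {V : Type v} [AddCommGroup V] [Module F V]

/-- The decomposition `V = C ⊕ (F e ⊕ F f)` from functionals `ψ`, `φ` dual to `e`, `f`. -/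
def decE (ψ φ : V →ₗ[F] F) (e f : V) (h1 : ψ e = 1) (h2 : ψ f = 0) (h3 : φ e = 0) (h4 : φ f = 1) :
    V ≃ₗ[F] ↥(LinearMap.ker ψ ⊓ LinearMap.ker φ) × (F × F) where
  toFun v := (⟨v - ψ v • e - φ v • f, by
    refine ⟨?_, ?_⟩
    · rw [SetLike.mem_coe, LinearMap.mem_ker, map_sub, map_sub, map_smul, map_smul, h1, h2]; simp
    · rw [SetLike.mem_coe, LinearMap.mem_ker, map_sub, map_sub, map_smul, map_smul, h3, h4]; simp⟩, (ψ v, φ v))
  invFun w := (w.1 : V) + w.2.1 • e + w.2.2 • f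
  map_add' u v := by
    refine Prod.ext (Subtype.ext ?_) (Prod.ext ?_ ?_)
    · simp only [map_add, Prod.fst_add, Submodule.coe_add]
      module
    · simp
    · simp
  map_smul' a v := by
    refine Prod.ext (Subtype.ext ?_) (Prod.ext ?_ ?_)
    · simp only [map_smul, RingHom.id_apply, Prod.smul_fst, Submodule.coe_smul, smul_eq_mul]
      module
    · simp
    · simp
  left_inv v := by
    change v - ψ v • e - φ v • f + ψ v • e + φ v • f = v
    abel
  right_inv w := by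
    obtain ⟨⟨c, hc1, hc2⟩, x, z⟩ := w
    have hc1' : ψ c = 0 := hc1
    have hc2' : φ c = 0 := hc2
    have e1 : ψ (c + x • e + z • f) = x := by simp [h1, h2, hc1']
    have e2 : φ (c + x • e + z • f) = z := by simp [h3, h4, hc2']
    refine Prod.ext (Subtype.ext ?_) (Prod.ext e1 e2)
    change c + x • e + z • f - ψ (c + x • e + z • f) • e - φ (c + x • e + z • f) • f = c
    rw [e1, e2]
    abel

variable {ψ φ : V →ₗ[F] F} {e f : V} {h1 : ψ e = 1} {h2 : ψ f = 0} {h3 : φ e = 0} {h4 : φ f = 1}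

theorem decE_symm_apply (w : ↥(LinearMap.ker ψ ⊓ LinearMap.ker φ) × (F × F)) :
    (decE ψ φ e f h1 h2 h3 h4).symm w = (w.1 : V) + w.2.1 • e + w.2.2 • f := rfl

theorem decE_apply_two (v : V) : (decE ψ φ e f h1 h2 h3 h4 v).2 = (ψ v, φ v) := rfl

theorem decE_apply_one (v : V) : ((decE ψ φ e f h1 h2 h3 h4 v).1 : V) = v - ψ v • e - φ v • f := rfl

end dec

section transport

variable {F : Type u} [Field F] {V : Type v} [AddCommGroup V] [Module F V] {W : Type w} [AddCommGroup W] [Module F W]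

/-- Transport of permutations. -/
def tr (Φ : V ≃ₗ[F] W) : Equiv.Perm V ≃* Equiv.Perm W := Φ.toEquiv.permCongrHom

theorem tr_apply (Φ : V ≃ₗ[F] W) (y : Equiv.Perm V) (w : W) : tr Φ y w = Φ (y (Φ.symm w)) := rfl

theorem tr_symm_apply (Φ : V ≃ₗ[F] W) (y : Equiv.Perm W) (v : V) : (tr Φ).symm y v = Φ.symm (y (Φ v)) := rfl

theorem tr_scal (Φ : V ≃ₗ[F] W) (a : Fˣ) : tr Φ (scal F V a) = scal F W a := by
  ext w
  rw [tr_apply, scal_apply, scal_apply, map_smul, LinearEquiv.apply_symm_apply]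

theorem tr_semi (Φ : V ≃ₗ[F] W) {y : Equiv.Perm V} {θ : F ≃+* F} (h : Semi F y θ) : Semi F (tr Φ y) θ :=
  ⟨fun u v => by rw [tr_apply, tr_apply, tr_apply, map_add, h.1, map_add],
    fun a v => by rw [tr_apply, tr_apply, map_smul, h.2, map_smul]⟩

theorem tr_symm_semi (Φ : V ≃ₗ[F] W) {y : Equiv.Perm W} {θ : F ≃+* F} (h : Semi F y θ) : Semi F ((tr Φ).symm y) θ :=
  ⟨fun u v => by rw [tr_symm_apply, tr_symm_apply, tr_symm_apply, map_add, h.1, map_add],
    fun a v => by rw [tr_symm_apply, tr_symm_apply, map_smul, h.2, map_smul]⟩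

/-- The transported group. -/
def trG (Φ : V ≃ₗ[F] W) (Γ : Subgroup (Equiv.Perm V)) : Subgroup (Equiv.Perm W) := Γ.map (tr Φ).toMonoidHom

theorem mem_trG {Φ : V ≃ₗ[F] W} {Γ : Subgroup (Equiv.Perm V)} {y : Equiv.Perm V} : tr Φ y ∈ trG Φ Γ ↔ y ∈ Γ := by
  constructor
  · rintro ⟨z, hz, h⟩
    have : z = y := (tr Φ).injective h
    rwa [← this]
  · intro h
    exact ⟨y, h, rfl⟩

theorem trG_PS {p : ℕ} {Φ : V ≃ₗ[F] W} {Γ : Subgroup (Equiv.Perm V)} (h : PS p F Γ) : PS p F (trG Φ Γ) := by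
  refine ⟨h.grp.map _, ?_⟩
  rintro _ ⟨y, hy, rfl⟩
  obtain ⟨θ, hθ⟩ := h.semi y hy
  exact ⟨θ, tr_semi Φ hθ⟩

theorem PG_of_trG {Φ : V ≃ₗ[F] W} {Γ : Subgroup (Equiv.Perm V)} {g : Equiv.Perm W} (h : PG F (trG Φ Γ) g) :
    PG F Γ ((tr Φ).symm g) := by
  intro y hy a ha
  have e : tr Φ (scal F V a * ((tr Φ).symm g * y * ((tr Φ).symm g)⁻¹)) = scal F W a * (g * tr Φ y * g⁻¹) := by
    rw [map_mul, map_mul, map_mul, map_inv, MulEquiv.apply_symm_apply, tr_scal]
  obtain ⟨k1, k2⟩ := h (tr Φ y) (mem_trG.2 hy) a (by rw [← e]; exact mem_trG.2 ha)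
  refine ⟨(tr Φ).injective (by rw [e, k1]), fun hl => ?_⟩
  have := k2 (tr_semi Φ hl)
  exact (tr Φ).injective (by rw [this, map_one])

/-- The separation property. -/
def SepBy (F : Type u) [Field F] {V : Type v} [AddCommGroup V] [Module F V] (Γ : Subgroup (Equiv.Perm V))
    (g : Equiv.Perm V) : Prop :=
  ∀ y ∈ Γ, (∃ a : Fˣ, scal F V a * (g * y * g⁻¹) ∈ Γ) → ∃ b : Fˣ, y = scal F V b

theorem SepBy_of_trG {Φ : V ≃ₗ[F] W} {Γ : Subgroup (Equiv.Perm V)} {g : Equiv.Perm W} (h : SepBy F (trG Φ Γ) g) :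
    SepBy F Γ ((tr Φ).symm g) := by
  rintro y hy ⟨a, ha⟩
  have e : tr Φ (scal F V a * ((tr Φ).symm g * y * ((tr Φ).symm g)⁻¹)) = scal F W a * (g * tr Φ y * g⁻¹) := by
    rw [map_mul, map_mul, map_mul, map_inv, MulEquiv.apply_symm_apply, tr_scal]
  obtain ⟨b, hb⟩ := h (tr Φ y) (mem_trG.2 hy) ⟨a, by rw [← e]; exact mem_trG.2 ha⟩
  exact ⟨b, (tr Φ).injective (by rw [hb, tr_scal])⟩

end transport

section decSt

variable {F : Type u} [Field F] {V : Type v} [AddCommGroup V] [Module F V]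
variable {ψ φ : V →ₗ[F] F} {e f : V} {h1 : ψ e = 1} {h2 : ψ f = 0} {h3 : φ e = 0} {h4 : φ f = 1}

theorem decE_symm_e : (decE ψ φ e f h1 h2 h3 h4).symm (0, (1, 0)) = e := by
  rw [decE_symm_apply]
  change (0 : V) + (1 : F) • e + (0 : F) • f = e
  simp

theorem decE_symm_f : (decE ψ φ e f h1 h2 h3 h4).symm (0, (0, 1)) = f := by
  rw [decE_symm_apply]
  change (0 : V) + (0 : F) • e + (1 : F) • f = f
  simp

theorem St_decE {Γ : Subgroup (Equiv.Perm V)} (hfix : ∀ y ∈ Γ, y e = e) (hhyp : ∀ y ∈ Γ, ∀ v, φ v = 0 → φ (y v) = 0) :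
    St (trG (decE ψ φ e f h1 h2 h3 h4) Γ) := by
  refine ⟨?_, ?_⟩
  · rintro _ ⟨y, hy, rfl⟩
    change (decE ψ φ e f h1 h2 h3 h4) (y ((decE ψ φ e f h1 h2 h3 h4).symm (0, (1, 0)))) = _
    rw [decE_symm_e, hfix y hy, ← LinearEquiv.eq_symm_apply, decE_symm_e]
  · rintro _ ⟨y, hy, rfl⟩ c x
    change φ (y ((decE ψ φ e f h1 h2 h3 h4).symm (c, (x, 0)))) = 0
    apply hhyp y hy
    rw [decE_symm_apply]
    change φ ((c : V) + x • e + (0 : F) • f) = 0
    have hc : φ (c : V) = 0 := c.2.2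
    rw [map_add, map_add, map_smul, map_smul, h3, hc]
    simp

end decSt

section det

variable {F : Type u} [Field F] {V : Type v} [AddCommGroup V] [Module F V]

/-- `g` is linear of determinant `d`. -/
def IsDet (F : Type u) [Field F] {V : Type v} [AddCommGroup V] [Module F V] (d : F) (g : Equiv.Perm V) : Prop :=
  ∃ L : V →ₗ[F] V, (∀ v, L v = g v) ∧ LinearMap.det L = d

theorem isDet_one : IsDet F 1 (1 : Equiv.Perm V) := ⟨LinearMap.id, fun _ => rfl, LinearMap.det_id⟩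

theorem IsDet.mul {d d' : F} {g g' : Equiv.Perm V} (h : IsDet F d g) (h' : IsDet F d' g') : IsDet F (d * d') (g * g') := by
  obtain ⟨L, hL, hd⟩ := h
  obtain ⟨L', hL', hd'⟩ := h'
  refine ⟨L * L', fun v => ?_, ?_⟩
  · rw [Module.End.mul_apply, hL', hL]; rfl
  · rw [map_mul, hd, hd']

theorem IsDet.semi {d : F} {g : Equiv.Perm V} (h : IsDet F d g) : Semi F g (1 : F ≃+* F) := by
  obtain ⟨L, hL, -⟩ := h
  exact ⟨fun u v => by rw [← hL, ← hL, ← hL, map_add], fun a v => by rw [← hL, ← hL, map_smul]; rfl⟩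

theorem isDet_gW {C : Type w} [AddCommGroup C] [Module F C] [Module.Finite F C] {d : F} {g' : Equiv.Perm C}
    (h : IsDet F d g') (t s : Fˣ) : IsDet F (-(t * s) * d) (gW t s g') := by
  obtain ⟨L, hL, hd⟩ := h
  let S : (F × F) →ₗ[F] (F × F) :=
    { toFun := fun w => ((s : F) * w.2, (t : F) * w.1)
      map_add' := fun u v => by simp [mul_add]
      map_smul' := fun a v => by
        refine Prod.ext ?_ ?_
        · simp only [Prod.smul_snd, smul_eq_mul, RingHom.id_apply, Prod.smul_fst]; ring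
        · simp only [Prod.smul_snd, smul_eq_mul, RingHom.id_apply, Prod.smul_fst]; ring }
  have hS : LinearMap.det S = -(t * s) := by
    rw [← LinearMap.det_toMatrix (Basis.finTwoProd F), Matrix.det_fin_two]
    simp [LinearMap.toMatrix_apply, S, mul_comm]
  refine ⟨L.prodMap S, fun v => ?_, ?_⟩
  · obtain ⟨c, x, z⟩ := v
    rw [LinearMap.prodMap_apply, gW_apply, hL]
    rfl
  · rw [LinearMap.det_prodMap, hd, hS, mul_comm]

theorem isDet_tr_symm {W : Type w} [AddCommGroup W] [Module F W] (Φ : V ≃ₗ[F] W) {d : F} {g : Equiv.Perm W}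
    (h : IsDet F d g) : IsDet F d ((tr Φ).symm g) := by
  obtain ⟨L, hL, hd⟩ := h
  refine ⟨(Φ.symm : W →ₗ[F] V) ∘ₗ L ∘ₗ (Φ : V →ₗ[F] W), fun v => ?_, ?_⟩
  · simp only [LinearMap.comp_apply, LinearEquiv.coe_coe, hL]
    rfl
  · rw [← hd]
    exact LinearMap.det_conj L Φ.symm

end det

section fields

variable {F : Type u} [Field F] [Finite F]

/-- An automorphism of odd order with trivial square is trivial. -/
theorem eq_one_of_sq {G : Type*} [Group G] {x : G} {n : ℕ} (hn : Odd n) (h : x ^ n = 1) (h2 : x ^ 2 = 1) : x = 1 := by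
  obtain ⟨k, rfl⟩ := hn
  rw [pow_succ, pow_mul, h2, one_pow, one_mul] at h
  exact h

/-- There is `u ≠ 0` fixed only by the trivial automorphism. -/
theorem exists_gen : ∃ u : Fˣ, ∀ θ : F ≃+* F, θ u = u → θ = 1 := by
  obtain ⟨u, hu⟩ := IsCyclic.exists_generator (α := Fˣ)
  refine ⟨u, fun θ h => ?_⟩
  ext x
  by_cases hx : x = 0
  · rw [hx, map_zero, map_zero]
  obtain ⟨n, hn⟩ := Subgroup.mem_zpowers_iff.1 (hu (Units.mk0 x hx))
  have h1 : x = (u : F) ^ n := by
    rw [← Units.val_zpow_eq_zpow_val, hn]; rfl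
  rw [h1, map_zpow₀, h]
  rfl

/-- For `p` odd there is `u` such that `u²` is fixed by no nontrivial automorphism of `p`-power order. -/
theorem exists_gen_sq {p : ℕ} (hp : Odd p) : ∃ u : Fˣ, ∀ θ : F ≃+* F, (∃ k : ℕ, θ ^ p ^ k = 1) →
    θ ((u : F) ^ 2) = (u : F) ^ 2 → θ = 1 := by
  obtain ⟨u, hu⟩ := exists_gen (F := F)
  refine ⟨u, fun θ ⟨k, hk⟩ h => ?_⟩
  rw [map_pow, sq_eq_sq_iff_eq_or_eq_neg] at h
  rcases h with h | h
  · exact hu θ h
  · apply eq_one_of_sq (hp.pow (n := k)) hk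
    apply hu
    rw [pow_two]
    change θ (θ u) = u
    rw [h, map_neg, h, neg_neg]

end fields

section linear

variable {F : Type u} [Field F] [Finite F] {p : ℕ} [Fact p.Prime] [CharP F p]

/-- The base of the induction: groups without nontrivial linear elements. -/
theorem PG_base {V : Type v} [AddCommGroup V] [Module F V] {Γ : Subgroup (Equiv.Perm V)} (hP : PS p F Γ)
    (h : ∀ y ∈ Γ, Semi F y (1 : F ≃+* F) → y = 1) {g : Equiv.Perm V} (hg : Semi F g (1 : F ≃+* F)) : PG F Γ g := by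
  intro y hy a hya
  refine ⟨?_, h y hy⟩
  obtain ⟨θ, hθ⟩ := hP.semi y hy
  have h1 : Semi F (scal F V a * (g * y * g⁻¹)) θ := by
    have h := semi_mul (semi_scal (V := V) a) (semi_mul (semi_mul hg hθ) (semi_inv hg))
    rw [one_mul, one_mul, inv_one, mul_one] at h
    exact h
  have h2 := h _ (Γ.mul_mem (Γ.inv_mem hya) hy) (by
    have h := semi_mul (semi_inv h1) hθ
    rwa [inv_mul_cancel] at h)
  exact inv_mul_eq_one.1 h2

/-- The companion automorphism as an element of a group action on the dual space. -/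
theorem exists_functional {V : Type v} [AddCommGroup V] [Module F V] [Finite V] [Nontrivial V]
    {Γ : Subgroup (Equiv.Perm V)} (hP : PS p F Γ) :
    ∃ φ : V →ₗ[F] F, φ ≠ 0 ∧ ∀ y ∈ Γ, ∀ θ : F ≃+* F, Semi F y θ → ∀ v, φ (y v) = θ (φ v) := by
  obtain ⟨v0, hv0⟩ := exists_ne (0 : V)
  have hch : ∀ y : Γ, ∃ θ : F ≃+* F, Semi F y.1 θ := fun y => hP.semi y y.2
  choose co hco using hch
  have co_mul : ∀ y z : Γ, co (y * z) = co y * co z := fun y z =>
    semi_unique (hco (y * z)) (semi_mul (hco y) (hco z)) hv0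
  have co_one : co 1 = 1 := semi_unique (hco 1) ⟨fun _ _ => rfl, fun _ _ => rfl⟩ hv0
  let act : MulAction Γ (V →ₗ[F] F) :=
    { smul := fun y φ =>
        { toFun := fun v => co y (φ (y.1⁻¹ v))
          map_add' := fun u v => by rw [(semi_inv (hco y)).1, map_add, map_add]
          map_smul' := fun a v => by
            rw [(semi_inv (hco y)).2, map_smul, smul_eq_mul, map_mul, RingHom.id_apply, smul_eq_mul]
            congr 1
            exact RingEquiv.apply_symm_apply (co y) a }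
      one_smul := fun φ => by
        ext v
        change co 1 (φ v) = φ v
        rw [co_one]
        rfl
      mul_smul := fun y z φ => by
        ext v
        change co (y * z) (φ ((y * z).1⁻¹ v)) = co y (co z (φ (z.1⁻¹ (y.1⁻¹ v))))
        rw [co_mul]
        rfl }
  have : Finite (V →ₗ[F] F) := DFunLike.finite _
  have hdvd : p ∣ Nat.card (V →ₗ[F] F) := by
    have h1 : Nat.card (V →ₗ[F] F) = Nat.card F ^ finrank F (V →ₗ[F] F) := Module.natCard_eq_pow_finrank
    have h2 : finrank F (V →ₗ[F] F) = finrank F V := Subspace.dual_finrank_eq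
    have h3 : 0 < finrank F V := Module.finrank_pos
    have h4 : p ∣ Nat.card F := by
      have := Fintype.ofFinite F
      obtain ⟨n, -, hn⟩ := FiniteField.card F p
      rw [Nat.card_eq_fintype_card, hn]
      exact dvd_pow_self p n.ne_zero
    rw [h1, h2]
    exact dvd_pow h4 h3.ne'
  have h0 : (0 : V →ₗ[F] F) ∈ MulAction.fixedPoints Γ (V →ₗ[F] F) := by
    intro y
    ext v
    change co y 0 = 0
    rw [map_zero]
  obtain ⟨φ, hφ, hφ0⟩ := hP.grp.exists_fixed_point_of_prime_dvd_card_of_fixed_point (V →ₗ[F] F) hdvd h0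
  refine ⟨φ, hφ0.symm, fun y hy θ hθ v => ?_⟩
  have h1 : co ⟨y, hy⟩ = θ := semi_unique (hco ⟨y, hy⟩) hθ hv0
  have h2 := congrArg (fun ψ : V →ₗ[F] F => ψ (y v)) (hφ ⟨y, hy⟩)
  change co ⟨y, hy⟩ (φ (y⁻¹ (y v))) = φ (y v) at h2
  rw [perm_inv_apply, h1] at h2
  exact h2.symm

/-- The decomposition for a `p`-group of semilinear maps. -/
theorem exists_dec {V : Type v} [AddCommGroup V] [Module F V] [Finite V] (h2 : 2 ≤ finrank F V)
    {Γ : Subgroup (Equiv.Perm V)} (hP : PS p F Γ) :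
    ∃ (C : Submodule F V) (Φ : V ≃ₗ[F] C × (F × F)), St (trG Φ Γ) := by
  have : Nontrivial V := Module.nontrivial_of_finrank_pos (R := F) (by omega)
  obtain ⟨φ, hφ0, hφ⟩ := exists_functional hP
  have hφs : Function.Surjective φ := LinearMap.surjective hφ0
  obtain ⟨f0, hf0⟩ := hφs 1
  -- a fixed vector in the kernel
  let act : MulAction Γ {v : V // φ v = 0} :=
    { smul := fun y v => ⟨y.1 v.1, by
        obtain ⟨θ, hθ⟩ := hP.semi y y.2
        rw [hφ y y.2 θ hθ, v.2, map_zero]⟩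
      one_smul := fun v => rfl
      mul_smul := fun y z v => rfl }
  have hker : finrank F (LinearMap.ker φ) + 1 = finrank F V := by
    have h := LinearMap.finrank_range_add_finrank_ker φ
    rw [LinearMap.range_eq_top.2 hφs, finrank_top, finrank_self] at h
    omega
  have hdvd : p ∣ Nat.card {v : V // φ v = 0} := by
    have h1 : Nat.card {v : V // φ v = 0} = Nat.card (LinearMap.ker φ) := rfl
    have h4 : p ∣ Nat.card F := by
      have := Fintype.ofFinite F
      obtain ⟨n, -, hn⟩ := FiniteField.card F p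
      rw [Nat.card_eq_fintype_card, hn]
      exact dvd_pow_self p n.ne_zero
    rw [h1, Module.natCard_eq_pow_finrank (K := F)]
    exact dvd_pow h4 (by omega)
  obtain ⟨e, he, he0⟩ := hP.grp.exists_fixed_point_of_prime_dvd_card_of_fixed_point {v : V // φ v = 0} hdvd
    (a := ⟨0, map_zero φ⟩) (fun y => Subtype.ext (by
      obtain ⟨θ, hθ⟩ := hP.semi y y.2
      exact semi_zero hθ))
  have he0' : (e : V) ≠ 0 := fun h => he0 (Subtype.ext h.symm)
  obtain ⟨ψ, hψ⟩ : ∃ ψ : V →ₗ[F] F, ψ e = 1 := by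
    obtain ⟨ψ, hψ⟩ : ∃ ψ : V →ₗ[F] F, ψ e ≠ 0 := by
      by_contra hcon
      push Not at hcon
      exact he0' ((Module.forall_dual_apply_eq_zero_iff F (e : V)).1 hcon)
    refine ⟨(ψ e)⁻¹ • ψ, ?_⟩
    rw [LinearMap.smul_apply, smul_eq_mul, inv_mul_cancel₀ hψ]
  refine ⟨_, decE ψ φ e (f0 - ψ f0 • (e : V)) hψ (by rw [map_sub, map_smul, hψ]; simp) e.2
    (by rw [map_sub, map_smul, e.2, hf0]; simp), St_decE (fun y hy => congrArg Subtype.val (he ⟨y, hy⟩))
    fun y hy v hv => ?_⟩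
  obtain ⟨θ, hθ⟩ := hP.semi y hy
  rw [hφ y hy θ hθ, hv, map_zero]

theorem exists_PG_SL (n : ℕ) : ∀ {V : Type v} [AddCommGroup V] [Module F V] [Finite V], finrank F V = n →
    ∀ {Γ : Subgroup (Equiv.Perm V)}, PS p F Γ → ∃ g, IsDet F 1 g ∧ PG F Γ g := by
  induction n using Nat.strong_induction_on with
  | _ n ih =>
    intro V _ _ _ hn Γ hP
    rcases Nat.lt_or_ge n 2 with h2 | h2
    · refine ⟨1, isDet_one, PG_base hP (fun y hy hl => ?_) ⟨fun _ _ => rfl, fun _ _ => rfl⟩⟩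
      obtain ⟨k, hk⟩ := hP.pow hy
      ext v
      rw [Equiv.Perm.one_apply]
      by_cases hv : v = 0
      · rw [hv, semi_zero hl]
      have : Module.Finite F V := Module.Finite.of_finite
      have h1 : finrank F V = 1 := by
        have : Nontrivial V := ⟨v, 0, hv⟩
        have := Module.finrank_pos (R := F) (M := V)
        omega
      obtain ⟨c, hc⟩ := exists_smul_eq_of_finrank_eq_one h1 hv (y v)
      exact fix_of_eigen hl hk hc.symm
    · obtain ⟨C, Φ, hS⟩ := exists_dec (p := p) (by omega) hP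
      have hP' := trG_PS (Φ := Φ) hP
      have hfin : finrank F V = finrank F C + 2 := by
        rw [Φ.finrank_eq, finrank_prod, finrank_prod, finrank_self]
      obtain ⟨g', hg', hPG⟩ := ih (finrank F C) (by omega) rfl (bar_PS hS hP')
      refine ⟨(tr Φ).symm (gW 1 (-1) g'), ?_, PG_of_trG (step hS hP' hg'.semi hPG)⟩
      have h := isDet_tr_symm Φ (isDet_gW hg' 1 (-1))
      have e : -(((1 : Fˣ) : F) * ((-1 : Fˣ) : F)) * 1 = 1 := by simp
      rwa [e] at h

/-- **Task 459.** -/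
theorem sepSL_char {p : ℕ} [Fact p.Prime] (hp : 5 ≤ p) {F : Type u} [Field F] [Finite F] [CharP F p]
    {V : Type v} [AddCommGroup V] [Module F V] [Finite V] (h2 : 2 ≤ Module.finrank F V) :
    Cfsg.Agent.H903.SylSemi.SepSL p F V := by
  intro Γ hΓ hsemi _
  have hP : PS p F Γ := ⟨hΓ, hsemi⟩
  have hpo : Odd p := (Fact.out (p := p.Prime)).odd_of_ne_two (by omega)
  obtain ⟨C, Φ, hS⟩ := exists_dec (p := p) h2 hP
  have hP' := trG_PS (Φ := Φ) hP
  obtain ⟨g', hg', hPG⟩ := exists_PG_SL (p := p) (finrank F C) rfl (bar_PS hS hP')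
  obtain ⟨u, hu⟩ := exists_gen_sq (F := F) hpo
  have key := sep hS hP' hg'.semi hPG 1 (-1) u u⁻¹ (by
    intro θ hθ c h1 h2 _
    apply hu θ hθ
    have hu0 := u.ne_zero
    have hθu : θ (u : F) ≠ 0 := by rw [Ne, map_eq_zero_iff θ θ.injective]; exact hu0
    rw [Units.val_inv_eq_inv_val, map_inv₀] at h2
    have h3 : (u : F) * (u : F)⁻¹ = c * θ u * (c * (θ u)⁻¹) := by rw [← h1, ← h2]
    rw [mul_inv_cancel₀ hu0] at h3
    have h4 : c ^ 2 = 1 := by
      rw [h3]
      field_simp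
    rw [map_pow]
    calc θ (u : F) ^ 2 = c ^ 2 * θ u ^ 2 := by rw [h4, one_mul]
      _ = (c * θ u) ^ 2 := by ring
      _ = _ := by rw [← h1])
  rcases key with key | key
  · refine ⟨(tr Φ).symm (gW 1 (-1) g'), ?_, SepBy_of_trG key⟩
    have h := isDet_tr_symm Φ (isDet_gW hg' 1 (-1))
    have e : -(((1 : Fˣ) : F) * ((-1 : Fˣ) : F)) * 1 = 1 := by simp
    rwa [e] at h
  · refine ⟨(tr Φ).symm (gW (1 * u) (-1 * u⁻¹) g'), ?_, SepBy_of_trG key⟩
    have h := isDet_tr_symm Φ (isDet_gW hg' (1 * u) (-1 * u⁻¹))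
    have e : -(((1 * u : Fˣ) : F) * ((-1 * u⁻¹ : Fˣ) : F)) * 1 = 1 := by
      have hu0 := u.ne_zero
      simp
    rwa [e] at h

end linear

end Cfsg.Agent.H126.SepMain
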