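import Cfsg.Agent.H126.SepSpSU
import Cfsg.Agent.ClassicalGeometry.OmegaIndex
import Cfsg.Agent.LieClassical.OmegaReindex

/-!
# Separation in defining characteristic: orthogonal groups (helper126, task 462 of helper903)
-/

set_option autoImplicit false
set_option linter.unusedSectionVars false
set_option linter.unusedVariables false

namespace Cfsg.Agent.H126.SepOrth

open Module Cfsg.Agent.H903.SylSemi Cfsg.Agent.H126.SepStep Cfsg.Agent.H126.SepMain Cfsg.Agent.H126.SepForm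
  Cfsg.Agent.H126.SepInd Cfsg.Agent.H126.SepSpSU QuadraticMap Matrix
  Cfsg.Agent.ClassicalGeometry.Reflection Cfsg.Agent.ClassicalGeometry.SpinorSign
  Cfsg.Agent.ClassicalGeometry.OmegaIndex

universe u v w

/-- The determinants which occur. -/
def DO (F : Type u) [Field F] (n : ℕ) : Set F := if n = 0 then {1} else {1, -1}

/-- Orthogonal master statement. -/
theorem exists_PG_O {p : ℕ} [Fact p.Prime] {F : Type u} [Field F] [Finite F] [CharP F p] (h2 : (2 : F) ≠ 0)
    {V : Type v} [AddCommGroup V] [Module F V] [Finite V] {β : V → V → F} (h : EH (1 : F ≃+* F) 1 β)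
    {Γ : Subgroup (Equiv.Perm V)} (hP : PSF p F β Γ) {δ : F} (hδ : δ ∈ DO F (finrank F V)) :
    ∃ g, IsIso F β g ∧ IsDet F δ g ∧ PG F Γ g := by
  refine exists_PG h2 (d := 2) (D := DO F) (fun h hn => dvd_sym h hn) (fun {V} _ _ _ β h hn Γ hP => ?_)
    (fun n hn _ δ hδ => ?_) (finrank F V) h rfl hP δ hδ
  · refine ⟨?_, fun δ hδ => ?_⟩
    · rcases Nat.lt_or_ge (finrank F V) 2 with h3 | h3
      · exact lin_one (by omega) hP.ps
      · exact lin_two h2 h (by omega) hP
    · have hfV : Module.Finite F V := Module.Finite.of_finite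
      rw [DO] at hδ
      split_ifs at hδ with h3
      · rw [Set.mem_singleton_iff.1 hδ]
        exact ⟨1, isIso_one, isDet_one⟩
      · rcases hδ with hδ | hδ
        · rw [hδ]
          exact ⟨1, isIso_one, isDet_one⟩
        · rw [Set.mem_singleton_iff.1 hδ]
          exact exists_refl h2 h (by omega)
  · refine ⟨1, -δ, ?_, ?_⟩
    · rw [DO, if_neg (by omega)] at hδ ⊢
      rcases hδ with hδ | hδ
      · right
        rw [hδ]
        rfl
      · left
        rw [Set.mem_singleton_iff.1 hδ, neg_neg]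
    · simp

section omega

variable {ι : Type} [Fintype ι] [DecidableEq ι] {F : Type u} [Field F]

/-- The polar form. -/
theorem polar_EH (Q : QuadraticForm F (ι → F)) (hQ : (polarBilin Q).Nondegenerate) :
    EH (1 : F ≃+* F) 1 (polar (⇑Q)) := by
  refine ⟨Or.inl rfl, fun a => rfl, fun u v w => QuadraticMap.polar_add_left Q u v w,
    fun a u v => QuadraticMap.polar_smul_left Q a u v, fun u v => ?_, fun v hv => ?_⟩
  · rw [one_mul]
    exact polar_comm (⇑Q) v u
  · exact hQ.1 v fun w => hv w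

/-- An isometry given as a permutation is an element of the isometry group. -/
theorem exists_iso (Q : QuadraticForm F (ι → F)) {g : Equiv.Perm (ι → F)} (hg : Semi F g (1 : F ≃+* F))
    (hQ : ∀ v, Q (g v) = Q v) :
    ∃ s : Cfsg.isometryGroup F (⇑Q), ∀ v, g v = Matrix.mulVec ((s : Matrix.GeneralLinearGroup ι F) : Matrix ι ι F) v := by
  let L : (ι → F) →ₗ[F] (ι → F) :=
    { toFun := g
      map_add' := hg.1
      map_smul' := hg.2 }
  have hgi : Semi F g⁻¹ (1 : F ≃+* F) := by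
    have := semi_inv hg
    rwa [inv_one] at this
  let L' : (ι → F) →ₗ[F] (ι → F) :=
    { toFun := fun v => (g⁻¹ : Equiv.Perm (ι → F)) v
      map_add' := hgi.1
      map_smul' := hgi.2 }
  have h1 : ∀ v, LinearMap.toMatrix' L *ᵥ v = g v := fun v => by
    rw [LinearMap.toMatrix'_mulVec]; rfl
  have h2 : ∀ v, LinearMap.toMatrix' L' *ᵥ v = g⁻¹ v := fun v => by
    rw [LinearMap.toMatrix'_mulVec]; rfl
  let G : Matrix.GeneralLinearGroup ι F :=
    ⟨LinearMap.toMatrix' L, LinearMap.toMatrix' L', by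
      apply Matrix.mulVec_injective
      funext v
      rw [← Matrix.mulVec_mulVec, h1, h2, Matrix.one_mulVec, perm_apply_inv], by
      apply Matrix.mulVec_injective
      funext v
      rw [← Matrix.mulVec_mulVec, h1, h2, Matrix.one_mulVec, perm_inv_apply]⟩
  refine ⟨⟨G, (mem_isometryGroup_iff _ _).2 fun x => ?_⟩, fun v => (h1 v).symm⟩
  change Q (LinearMap.toMatrix' L *ᵥ x) = Q x
  rw [h1, hQ]

/-- Determinants. -/
theorem det_iso {g : Equiv.Perm (ι → F)} {d : F} (hg : IsDet F d g) (s : Matrix ι ι F)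
    (hs : ∀ v, g v = s *ᵥ v) : s.det = d := by
  obtain ⟨L, hL, hd⟩ := hg
  have h1 : L = Matrix.toLin' s := by
    apply LinearMap.ext
    intro v
    rw [hL, hs, Matrix.toLin'_apply]
  rw [← hd, h1, LinearMap.det_toLin']

end omega

section main

variable {ι : Type} [Fintype ι] [DecidableEq ι] {F : Type u} [Field F] [Fintype F]

theorem Q_of_iso (h2 : (2 : F) ≠ 0) (Q : QuadraticForm F (ι → F)) {g : Equiv.Perm (ι → F)}
    (hg : IsIso F (polar (⇑Q)) g) (v : ι → F) : Q (g v) = Q v := by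
  have h1 := hg.2 v v
  rw [polar_self', polar_self'] at h1
  exact mul_left_cancel₀ h2 h1

theorem Q_sub (Q : QuadraticForm F (ι → F)) (h2 : (2 : F) ≠ 0) {e f : ι → F} (k : HP (polar (⇑Q)) e f) (t : F) :
    Q (e - t • f) = -t := by
  have he : Q e = 0 := by
    have := k.ee
    rw [polar_self'] at this
    exact (mul_eq_zero.1 this).resolve_left h2
  have hf : Q f = 0 := by
    have := k.ff
    rw [polar_self'] at this
    exact (mul_eq_zero.1 this).resolve_left h2
  rw [sub_eq_add_neg, ← neg_smul, map_add', QuadraticMap.map_smul, QuadraticMap.polar_smul_right, he, hf, k.ef]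
  simp

/-- The reflection in `e - t f`. -/
theorem refl_dec (Q : QuadraticForm F (ι → F)) (h2 : (2 : F) ≠ 0) (h : EH (1 : F ≃+* F) 1 (polar (⇑Q))) {e f : ι → F}
    (k : HP (polar (⇑Q)) e f) (t : Fˣ) (c : ↥(CC h e f)) (x z : F) :
    Cfsg.reflectionMatrix (⇑Q) (e - (t : F) • f) *ᵥ ((dec h k).symm (c, (x, z))) =
      (dec h k).symm (c, ((t : F)⁻¹ * z, (t : F) * x)) := by
  have ht := t.ne_zero
  obtain ⟨v1, v2⟩ := (mem_CC h).1 c.2
  rw [reflectionMatrix_mulVec, Q_sub Q h2 k, dec_symm_apply, dec_symm_apply]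
  have e1 : polar (⇑Q) (e - (t : F) • f) ((c : ι → F) + x • e + z • f) = z - t * x := by
    rw [h.subl, h.smull, h.addr, h.addr, h.addr, h.addr, h.smulr, h.smulr, h.smulr, h.smulr, h.symm v1, h.symm v2, k.ee,
      k.ff, k.ef, k.fe h]
    change 0 + x * 0 + z * 1 - t * (0 + x * 1 + z * 0) = z - t * x
    ring
  change (c : ι → F) + x • e + z • f - ((-(t : F))⁻¹ * polar (⇑Q) (e - (t : F) • f) ((c : ι → F) + x • e + z • f)) •
    (e - (t : F) • f) = (c : ι → F) + ((t : F)⁻¹ * z) • e + ((t : F) * x) • f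
  rw [e1]
  have e2 : ((-(t : F))⁻¹ * (z - t * x)) = x - (t : F)⁻¹ * z := by
    field_simp
    ring
  rw [e2]
  have e3 : (x - (t : F)⁻¹ * z) • (e - (t : F) • f) = x • e - ((t : F)⁻¹ * z) • e - ((t : F) * x) • f + z • f := by
    rw [sub_smul, smul_sub, smul_sub, smul_smul, smul_smul]
    have e4 : (t : F)⁻¹ * z * t = z := by field_simp
    rw [e4, mul_comm x]
    abel
  rw [e3]
  abel

theorem GG_apply (Q : QuadraticForm F (ι → F)) (h : EH (1 : F ≃+* F) 1 (polar (⇑Q))) {e f : ι → F}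
    (k : HP (polar (⇑Q)) e f) (g' : Equiv.Perm ↥(CC h e f)) (t : Fˣ) (c : ↥(CC h e f)) (x z : F) :
    GG h k g' t ((dec h k).symm (c, (x, z))) = (dec h k).symm (g' c, ((t : F)⁻¹ * z, (t : F) * x)) := by
  rw [GG, tr_symm_apply, LinearEquiv.apply_symm_apply, gW_apply, sC_val, one_mul]
  rfl

/-- `GG g' t = GG g' 1 r_{e - f} r_{e - t f}`. -/
theorem GG_mul (Q : QuadraticForm F (ι → F)) (h2 : (2 : F) ≠ 0) (h : EH (1 : F ≃+* F) 1 (polar (⇑Q))) {e f : ι → F}
    (k : HP (polar (⇑Q)) e f) (g' : Equiv.Perm ↥(CC h e f)) (t : Fˣ) (v : ι → F) :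
    GG h k g' t v = GG h k g' 1 (Cfsg.reflectionMatrix (⇑Q) (e - ((1 : Fˣ) : F) • f) *ᵥ
        (Cfsg.reflectionMatrix (⇑Q) (e - (t : F) • f) *ᵥ v)) := by
  obtain ⟨⟨c, x, z⟩, rfl⟩ := (dec h k).symm.surjective v
  rw [refl_dec Q h2 h k, refl_dec Q h2 h k, GG_apply, GG_apply]
  simp

/-- The spinor condition. -/
theorem exists_omega (Q : QuadraticForm F (ι → F)) (hQ : (polarBilin Q).Nondegenerate) (h2 : (2 : F) ≠ 0)
    (hn : 2 ≤ Fintype.card ι) (h : EH (1 : F ≃+* F) 1 (polar (⇑Q))) {e f : ι → F}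
    (k : HP (polar (⇑Q)) e f) {g' : Equiv.Perm ↥(CC h e f)} (hg' : IsIso F (resF (polar (⇑Q)) (CC h e f)) g')
    (hd : IsDet F (-1) g') (w : Fˣ) :
    ∃ t : Fˣ, IsOmegaMap F (⇑Q) (GG h k g' t) ∧ IsOmegaMap F (⇑Q) (GG h k g' (t * w ^ 2)) := by
  classical
  -- the elements of the isometry group
  obtain ⟨s, hs⟩ := exists_iso Q (isIso_GG h k hg' 1).1 (Q_of_iso h2 Q (isIso_GG h k hg' 1))
  have hr : ∀ t : Fˣ, Q (e - (t : F) • f) ≠ 0 := fun t => by
    rw [Q_sub Q h2 k]
    exact neg_ne_zero.2 t.ne_zero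
  let S : Fˣ → Cfsg.isometryGroup F (⇑Q) := fun t =>
    s * (reflIso Q (e - ((1 : Fˣ) : F) • f) (hr 1) * reflIso Q (e - (t : F) • f) (hr t))
  have hS : ∀ t v, GG h k g' t v = Matrix.mulVec ((S t : Matrix.GeneralLinearGroup ι F) : Matrix ι ι F) v := by
    intro t v
    rw [GG_mul Q h2 h k g' t v, hs, ← coe_reflIso Q _ (hr 1), ← coe_reflIso Q _ (hr t), ← coe_mul_mulVec,
      ← coe_mul_mulVec, mul_assoc]
  have hdet : ∀ t, ((S t : Matrix.GeneralLinearGroup ι F) : Matrix ι ι F).det = 1 := by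
    intro t
    have h3 := isDet_GG h k hd t
    have ht := t.ne_zero
    have e1 : -((t : F) * (1 * ((1 : F ≃+* F) (t : F))⁻¹)) * -1 = 1 := by
      change -((t : F) * (1 * ((t : F))⁻¹)) * -1 = 1
      field_simp
    rw [e1] at h3
    exact det_iso h3 _ (hS t)
  have hmem : ∀ t, spinorSign (⇑Q) 1 (S t) = 1 → IsOmegaMap F (⇑Q) (GG h k g' t) := by
    intro t ht
    exact ⟨⟨S t, (mem_Omega_iff h2 Q hQ hn one_ne_zero _).2 ⟨hdet t, ht⟩⟩, hS t⟩
  have hsp : ∀ t : Fˣ, spinorSign (⇑Q) 1 (S t) = spinorSign (⇑Q) 1 s *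
      ((if IsSquare (-((1 : Fˣ) : F)) then -1 else 1) * (if IsSquare (-(t : F)) then -1 else 1)) := by
    intro t
    rw [map_mul, map_mul, spinorSign_reflIso h2 Q one_ne_zero, spinorSign_reflIso h2 Q one_ne_zero, Q_sub Q h2 k,
      Q_sub Q h2 k, one_mul, one_mul]
  have hsq : ∀ t : Fˣ, IsSquare (-((t * w ^ 2 : Fˣ) : F)) ↔ IsSquare (-(t : F)) := by
    intro t
    have hw := w.ne_zero
    constructor
    · rintro ⟨r, hr⟩
      refine ⟨r * (w : F)⁻¹, ?_⟩
      have : -(t : F) = (r * r) * ((w : F)⁻¹ * (w : F)⁻¹) := by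
        rw [← hr, Units.val_mul, Units.val_pow_eq_pow_val]
        field_simp
      rw [this]
      ring
    · rintro ⟨r, hr⟩
      refine ⟨r * (w : F), ?_⟩
      have : -((t * w ^ 2 : Fˣ) : F) = (-(t : F)) * (w * w) := by
        rw [Units.val_mul, Units.val_pow_eq_pow_val]
        ring
      rw [this, hr]
      ring
  have hsp2 : ∀ t : Fˣ, spinorSign (⇑Q) 1 (S (t * w ^ 2)) = spinorSign (⇑Q) 1 (S t) := by
    intro t
    rw [hsp, hsp]
    simp only [hsq]
  suffices hex : ∃ t : Fˣ, spinorSign (⇑Q) 1 (S t) = 1 by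
    obtain ⟨t, ht⟩ := hex
    exact ⟨t, hmem t ht, hmem _ (by rw [hsp2, ht])⟩
  obtain ⟨a, ha⟩ : ∃ a : F, ¬ IsSquare a := FiniteField.exists_nonsquare (fun h0 => by
    have := ringChar.spec F 2
    apply h2
    have h3 := (this).2 (by rw [h0])
    exact_mod_cast h3)
  have ha0 : a ≠ 0 := by
    rintro rfl
    exact ha ⟨0, by simp⟩
  have hs1 : IsSquare (-((-1 : Fˣ) : F)) := ⟨1, by simp⟩
  have hs2 : ¬ IsSquare (-((-(Units.mk0 a ha0) : Fˣ) : F)) := by
    simpa using ha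
  have h1 := hsp (-1)
  have h3 := hsp (-(Units.mk0 a ha0))
  rw [if_pos hs1] at h1
  rw [if_neg hs2] at h3
  rcases Int.units_eq_one_or (spinorSign (⇑Q) 1 s * (if IsSquare (-((1 : Fˣ) : F)) then -1 else 1)) with h4 | h4
  · refine ⟨-(Units.mk0 a ha0), ?_⟩
    rw [h3, ← mul_assoc, h4]
    rfl
  · refine ⟨-1, ?_⟩
    rw [h1, ← mul_assoc, h4]
    rfl

/-- The orthogonal separation. -/
theorem sep_O {p : ℕ} [Fact p.Prime] [CharP F p] (hpo : Odd p) (h2 : (2 : F) ≠ 0) (Q : QuadraticForm F (ι → F))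
    (hQ : (polarBilin Q).Nondegenerate) (hn : 3 ≤ Fintype.card ι) : SepO p F (⇑Q) := by
  intro Γ hΓ hsim _
  have hP : PSF p F (polar (⇑Q)) Γ := by
    refine ⟨hΓ, fun y hy => ?_⟩
    obtain ⟨θ, c, hc, hθ, hQy⟩ := hsim y hy
    refine ⟨θ, c, hc, hθ, fun u v => ?_⟩
    rw [polar, ← hθ.1, hQy, hQy, hQy, polar, map_sub, map_sub]
    ring
  have h := polar_EH Q hQ
  have hfin : finrank F (ι → F) = Fintype.card ι := finrank_fintype_fun_eq_card F
  obtain ⟨w, hw⟩ := exists_gen_sq (F := F) hpo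
  obtain ⟨g, h1, h3⟩ := top h2 h (by rw [hfin]; exact hn) hP (dvd_sym h (by rw [hfin]; exact hn)) (w ^ 2) rfl
    (fun θ hθ hθw => hw θ hθ (by rw [← Units.val_pow_eq_pow_val]; exact hθw)) (IsOmegaMap F (⇑Q)) (by
      intro e f k Γ' hP'
      have hfC := finrank_CC h k
      obtain ⟨g', h1, h3, h4⟩ := exists_PG_O h2 (h.res k) hP' (δ := -1) (by
        rw [DO, if_neg (by omega)]
        right
        rfl)
      obtain ⟨t, ht1, ht2⟩ := exists_omega Q hQ h2 (by omega) h k h1 h3 w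
      exact ⟨g', h1.1, h4, t, ht1, ht2⟩)
  exact ⟨g, h1, h3⟩

end main

section final

variable {p m : ℕ} [Fact p.Prime] {F : Type} [Field F] [Fintype F] [CharP F p]

/-- **Task 462**, odd dimension. -/
theorem sepO_char_odd (hp : 5 ≤ p) (hm : 3 ≤ m) : SepO p F (Cfsg.quadFormOdd m F) := by
  have hpo : Odd p := (Fact.out (p := p.Prime)).odd_of_ne_two (by omega)
  have h2 : (2 : F) ≠ 0 := two_ne (p := p) (by omega)
  have := sep_O hpo h2 (LieClassical.OmegaReindex.quadOdd m F) (LieClassical.OmegaReindex.quadOdd_nondegenerate h2) (by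
    rw [Fintype.card_sum, Fintype.card_sum, Fintype.card_fin, Fintype.card_unit]
    omega)
  rwa [LieClassical.OmegaReindex.coe_quadOdd] at this

/-- **Task 462**, plus type. -/
theorem sepO_char_plus (hp : 5 ≤ p) (hm : 2 ≤ m) : SepO p F (Cfsg.quadFormPlus m F) := by
  have hpo : Odd p := (Fact.out (p := p.Prime)).odd_of_ne_two (by omega)
  have h2 : (2 : F) ≠ 0 := two_ne (p := p) (by omega)
  have := sep_O hpo h2 (LieClassical.OmegaReindex.quadPlus m F) LieClassical.OmegaReindex.quadPlus_nondegenerate (by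
    rw [Fintype.card_sum, Fintype.card_fin]
    omega)
  rwa [LieClassical.OmegaReindex.coe_quadPlus] at this

/-- **Task 462**, minus type. -/
theorem sepO_char_minus (hp : 5 ≤ p) (hm : 1 ≤ m) {a b : F}
    (hab : ∀ z₁ z₂ : F, z₁ ^ 2 + a * z₁ * z₂ + b * z₂ ^ 2 = 0 → z₁ = 0 ∧ z₂ = 0) :
    SepO p F (Cfsg.quadFormMinus m F a b) := by
  have hpo : Odd p := (Fact.out (p := p.Prime)).odd_of_ne_two (by omega)
  have h2 : (2 : F) ≠ 0 := two_ne (p := p) (by omega)
  have := sep_O hpo h2 (LieClassical.OmegaReindex.quadMinus m F a b)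
    (LieClassical.OmegaReindex.quadMinus_nondegenerate hab) (by
    rw [Fintype.card_sum, Fintype.card_sum, Fintype.card_fin, Fintype.card_fin]
    omega)
  rwa [LieClassical.OmegaReindex.coe_quadMinus] at this

end final

end Cfsg.Agent.H126.SepOrth
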