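import Cfsg.Agent.H126.SepInd

/-!
# Separation in defining characteristic: symplectic and unitary groups (helper126, tasks 460, 461 of helper903)
-/

set_option autoImplicit false
set_option linter.unusedSectionVars false
set_option linter.unusedVariables false

namespace Cfsg.Agent.H126.SepSpSU

open Module Cfsg.Agent.H903.SylSemi Cfsg.Agent.H126.SepStep Cfsg.Agent.H126.SepMain Cfsg.Agent.H126.SepForm
  Cfsg.Agent.H126.SepInd

universe u v w

/-- Two is not zero. -/
theorem two_ne {p : ℕ} [Fact p.Prime] (hp : 3 ≤ p) {F : Type u} [Field F] [CharP F p] : (2 : F) ≠ 0 := by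
  intro h
  have h1 : ((2 : ℕ) : F) = 0 := by exact_mod_cast h
  have h2 := (CharP.cast_eq_zero_iff F p 2).1 h1
  have := Nat.le_of_dvd (by norm_num) h2
  omega

/-! ### Symplectic groups -/

/-- Symplectic master statement. -/
theorem exists_PG_Sp {p : ℕ} [Fact p.Prime] {F : Type u} [Field F] [Finite F] [CharP F p] (h2 : (2 : F) ≠ 0)
    {V : Type v} [AddCommGroup V] [Module F V] [Finite V] {β : V → V → F} (h : EH (1 : F ≃+* F) (-1) β)
    {Γ : Subgroup (Equiv.Perm V)} (hP : PSF p F β Γ) : ∃ g, IsIso F β g ∧ IsDet F 1 g ∧ PG F Γ g := by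
  refine exists_PG h2 (d := 0) (D := fun _ => {1}) (fun h hn => dvd_alt h2 h hn) (fun {V} _ _ _ β h hn Γ hP => ?_)
    (fun n _ _ δ hδ => ?_) (finrank F V) h rfl hP 1 rfl
  · refine ⟨lin_one (by omega) hP.ps, ?_⟩
    rintro δ rfl
    exact ⟨1, isIso_one, isDet_one⟩
  · refine ⟨1, 1, rfl, ?_⟩
    rw [Set.mem_singleton_iff.1 hδ]
    simp

/-- The symplectic separation. -/
theorem sep_Sp {p : ℕ} [Fact p.Prime] {F : Type u} [Field F] [Finite F] [CharP F p] (h2 : (2 : F) ≠ 0)
    {V : Type v} [AddCommGroup V] [Module F V] [Finite V] {β : V → V → F} (h : EH (1 : F ≃+* F) (-1) β)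
    (hn : 3 ≤ finrank F V) {Γ : Subgroup (Equiv.Perm V)} (hP : PSF p F β Γ) : ∃ g, IsIso F β g ∧ SepBy F Γ g := by
  obtain ⟨u, hu⟩ := exists_gen (F := F)
  refine top h2 h hn hP (dvd_alt h2 h (by omega)) u rfl (fun θ _ => hu θ) (fun g => IsIso F β g) ?_
  intro e f k Γ' hP'
  obtain ⟨g', h1, -, h3⟩ := exists_PG_Sp h2 (h.res k) hP'
  exact ⟨g', h1.1, h3, 1, isIso_GG h k h1 _, isIso_GG h k h1 _⟩

theorem sympForm_EH (m : ℕ) (F : Type u) [Field F] : EH (1 : F ≃+* F) (-1) (Cfsg.sympForm m F) := by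
  have hval : ∀ u v, Cfsg.sympForm m F u v = ∑ i, (u (Sum.inr i) * v (Sum.inl i) - u (Sum.inl i) * v (Sum.inr i)) := by
    intro u v
    rw [Cfsg.sympForm, Matrix.J, Matrix.fromBlocks_mulVec, dotProduct, Fintype.sum_sum_type, Finset.sum_sub_distrib]
    simp [Matrix.neg_mulVec]
    ring
  refine ⟨Or.inr rfl, fun a => rfl, fun u v w => ?_, fun a u v => ?_, fun u v => ?_, fun v hv => ?_⟩
  · rw [hval, hval, hval, ← Finset.sum_add_distrib]
    apply Finset.sum_congr rfl
    intro i _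
    simp only [Pi.add_apply]
    ring
  · rw [hval, hval, Finset.mul_sum]
    apply Finset.sum_congr rfl
    intro i _
    simp only [Pi.smul_apply, smul_eq_mul]
    ring
  · change _ = -1 * Cfsg.sympForm m F u v
    rw [hval, hval, neg_one_mul, ← Finset.sum_neg_distrib]
    apply Finset.sum_congr rfl
    intro i _
    ring
  · ext i
    rcases i with i | i
    · have := hv (Pi.single (Sum.inr i) 1)
      rw [hval] at this
      simpa [Pi.single_apply] using this
    · have := hv (Pi.single (Sum.inl i) 1)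
      rw [hval] at this
      simpa [Pi.single_apply] using this

/-- **Task 460.** -/
theorem sepSp_char {p m : ℕ} [Fact p.Prime] (hp : 5 ≤ p) {F : Type} [Field F] [Fintype F] [CharP F p] (hm : 2 ≤ m) :
    Cfsg.Agent.H903.SylSemi.SepSp p F m := by
  intro Γ hΓ hsim _
  have hP : PSF p F (Cfsg.sympForm m F) Γ := ⟨hΓ, hsim⟩
  obtain ⟨g, h1, h3⟩ := sep_Sp (two_ne (by omega)) (sympForm_EH m F) (by
    rw [finrank_fintype_fun_eq_card, Fintype.card_sum, Fintype.card_fin]
    omega) hP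
  exact ⟨g, h1, h3⟩

/-! ### Unitary groups -/

section unitary

variable {p q : ℕ} [Fact p.Prime] {F : Type u} [Field F] [Finite F] [CharP F p] {σ : F ≃+* F}

theorem exists_skew (h2 : (2 : F) ≠ 0) (hσ2 : ∀ a, σ (σ a) = a) (hσ : σ ≠ 1) : ∃ t : Fˣ, σ (t : F) = -t := by
  obtain ⟨x, hx⟩ : ∃ x, σ x ≠ x := by
    by_contra hcon
    push Not at hcon
    exact hσ (RingEquiv.ext hcon)
  refine ⟨Units.mk0 (x - σ x) (fun h => hx (sub_eq_zero.1 h).symm), ?_⟩
  rw [Units.val_mk0, map_sub, hσ2]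
  ring

/-- Unitary master statement. -/
theorem exists_PG_SU (h2 : (2 : F) ≠ 0) (hσ2 : ∀ a, σ (σ a) = a) (hσ : σ ≠ 1) (hq : ∀ x : F, σ x = x ^ q)
    (hF : Nat.card F = q ^ 2) {V : Type v} [AddCommGroup V] [Module F V] [Finite V] {β : V → V → F} (h : EH σ 1 β)
    {Γ : Subgroup (Equiv.Perm V)} (hP : PSF p F β Γ) : ∃ g, IsIso F β g ∧ IsDet F 1 g ∧ PG F Γ g := by
  refine exists_PG h2 (d := 1) (D := fun _ => {1}) (fun h hn => dvd_herm h hq hF hn) (fun {V} _ _ _ β h hn Γ hP => ?_)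
    (fun n _ _ δ hδ => ?_) (finrank F V) h rfl hP 1 rfl
  · refine ⟨lin_one (by omega) hP.ps, ?_⟩
    rintro δ rfl
    exact ⟨1, isIso_one, isDet_one⟩
  · obtain ⟨t, ht⟩ := exists_skew h2 hσ2 hσ
    refine ⟨t, 1, rfl, ?_⟩
    have ht0 := t.ne_zero
    rw [Set.mem_singleton_iff.1 hδ, ht, one_mul, inv_neg, mul_neg, neg_neg, mul_inv_cancel₀ ht0, one_mul]

/-- A generator of the fixed field of the involution. -/
theorem exists_gen_fix (hpo : Odd p) (hσ2 : ∀ a, σ (σ a) = a) :
    ∃ u : Fˣ, σ (u : F) = u ∧ ∀ θ : F ≃+* F, (∃ k : ℕ, θ ^ p ^ k = 1) → θ u = u → θ = 1 := by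
  let H : Subgroup Fˣ :=
    { carrier := {x | σ (x : F) = x}
      mul_mem' := fun {a b} ha hb => by
        have ha' : σ (a : F) = a := ha
        have hb' : σ (b : F) = b := hb
        change σ ((a * b : Fˣ) : F) = _
        rw [Units.val_mul, map_mul, ha', hb']
      one_mem' := by
        change σ ((1 : Fˣ) : F) = _
        rw [Units.val_one, map_one]
      inv_mem' := fun {a} ha => by
        have ha' : σ (a : F) = a := ha
        change σ ((a⁻¹ : Fˣ) : F) = _
        rw [Units.val_inv_eq_inv_val, map_inv₀, ha'] }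
  have : IsCyclic H := inferInstance
  obtain ⟨u, hu⟩ := IsCyclic.exists_generator (α := H)
  have hu1 : σ ((u : Fˣ) : F) = (u : Fˣ) := u.2
  refine ⟨u, hu1, fun θ ⟨k, hk⟩ hθ => ?_⟩
  -- `θ` fixes the fixed field of `σ`
  have hfix : ∀ x : F, σ x = x → θ x = x := by
    intro x hx
    by_cases hx0 : x = 0
    · rw [hx0, map_zero]
    obtain ⟨n, hn⟩ := Subgroup.mem_zpowers_iff.1 (hu ⟨Units.mk0 x hx0, hx⟩)
    have h1 : x = ((u : Fˣ) : F) ^ n := by
      have h3 := congrArg (fun z : H => ((z : Fˣ) : F)) hn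
      simp only [Subgroup.coe_zpow, Units.val_zpow_eq_zpow_val, Units.val_mk0] at h3
      exact h3.symm
    rw [h1, map_zpow₀, hθ]
  have := isCyclic_ringEquiv F
  have hcomm : θ * σ = σ * θ := by
    have : IsMulCommutative (F ≃+* F) := inferInstance
    exact mul_comm' θ σ
  have hcomm' : ∀ x, θ (σ x) = σ (θ x) := fun x => congrArg (fun z : F ≃+* F => z x) hcomm
  have hroot : ∀ x, θ x = x ∨ θ x = σ x := by
    intro x
    have h1 := hfix (x + σ x) (by rw [map_add, hσ2, add_comm])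
    have h3 := hfix (x * σ x) (by rw [map_mul, hσ2, mul_comm])
    rw [map_add] at h1
    rw [map_mul] at h3
    have h4 : (θ x - x) * (θ x - σ x) = 0 := by linear_combination θ x * h1 - h3
    rcases mul_eq_zero.1 h4 with h | h
    · exact Or.inl (sub_eq_zero.1 h)
    · exact Or.inr (sub_eq_zero.1 h)
  apply eq_one_of_sq (hpo.pow (n := k)) hk
  ext x
  rw [pow_two]
  change θ (θ x) = x
  rcases hroot x with h | h
  · rw [h, h]
  · rw [h, hcomm', h, hσ2]

/-- The unitary separation. -/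
theorem sep_SU (hpo : Odd p) (h2 : (2 : F) ≠ 0) (hσ2 : ∀ a, σ (σ a) = a) (hσ : σ ≠ 1) (hq : ∀ x : F, σ x = x ^ q)
    (hF : Nat.card F = q ^ 2) {V : Type v} [AddCommGroup V] [Module F V] [Finite V] {β : V → V → F} (h : EH σ 1 β)
    (hn : 3 ≤ finrank F V) {Γ : Subgroup (Equiv.Perm V)} (hP : PSF p F β Γ) :
    ∃ g, (IsIso F β g ∧ IsDet F 1 g) ∧ SepBy F Γ g := by
  obtain ⟨u, hu1, hu2⟩ := exists_gen_fix hpo hσ2
  refine top h2 h hn hP (dvd_herm h hq hF (by omega)) u hu1 hu2 (fun g => IsIso F β g ∧ IsDet F 1 g) ?_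
  intro e f k Γ' hP'
  obtain ⟨g', h1, h3, h4⟩ := exists_PG_SU h2 hσ2 hσ hq hF (h.res k) hP'
  obtain ⟨t, ht⟩ := exists_skew h2 hσ2 hσ
  have ht0 := t.ne_zero
  have hu0 := u.ne_zero
  refine ⟨g', h1.1, h4, t, ⟨isIso_GG h k h1 _, ?_⟩, ⟨isIso_GG h k h1 _, ?_⟩⟩
  · have := isDet_GG h k h3 t
    rwa [ht, one_mul, inv_neg, mul_neg, neg_neg, mul_inv_cancel₀ ht0, one_mul] at this
  · have := isDet_GG h k h3 (t * u)
    rw [Units.val_mul, map_mul, ht, hu1] at this
    have e1 : -((t : F) * u * (1 * (-(t : F) * u)⁻¹)) * 1 = 1 := by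
      field_simp
    rwa [e1] at this

end unitary

section unitaryForm

variable {n q : ℕ} {F : Type u} [Field F] {σ : F ≃+* F}

theorem hermForm_EH (hσ2 : ∀ a, σ (σ a) = a) (hq : ∀ x : F, σ x = x ^ q) : EH σ 1 (Cfsg.hermForm n F q) := by
  have hval : ∀ u v, Cfsg.hermForm n F q u v = ∑ i, u i * σ (v i) := by
    intro u v
    rw [Cfsg.hermForm]
    apply Finset.sum_congr rfl
    intro i _
    rw [hq]
  refine ⟨Or.inl rfl, hσ2, fun u v w => ?_, fun a u v => ?_, fun u v => ?_, fun v hv => ?_⟩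
  · rw [hval, hval, hval, ← Finset.sum_add_distrib]
    apply Finset.sum_congr rfl
    intro i _
    simp only [Pi.add_apply]
    ring
  · rw [hval, hval, Finset.mul_sum]
    apply Finset.sum_congr rfl
    intro i _
    simp only [Pi.smul_apply, smul_eq_mul]
    ring
  · rw [hval, hval, one_mul, map_sum]
    apply Finset.sum_congr rfl
    intro i _
    rw [map_mul, hσ2]
    ring
  · ext i
    have := hv (Pi.single i 1)
    rw [hval] at this
    simpa [Pi.single_apply, apply_ite σ] using this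

end unitaryForm

/-- **Task 461.** -/
theorem sepSU_char {p n q : ℕ} [Fact p.Prime] (hp : 5 ≤ p) {F : Type} [Field F] [Fintype F] [CharP F p]
    (hF : Fintype.card F = q ^ 2) (hn : 3 ≤ n) : Cfsg.Agent.H903.SylSemi.SepSU p F n q := by
  have hF' : Nat.card F = q ^ 2 := by rw [Nat.card_eq_fintype_card, hF]
  have hpo : Odd p := (Fact.out (p := p.Prime)).odd_of_ne_two (by omega)
  -- `q` is a power of `p`
  obtain ⟨k, hk⟩ : ∃ k, q = p ^ k := by
    obtain ⟨r, hr, hr2⟩ := FiniteField.card F p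
    rw [hF] at hr2
    have hdvd : q ∣ p ^ (r : ℕ) := by
      rw [← hr2]
      exact dvd_pow_self q two_ne_zero
    obtain ⟨k, -, hk⟩ := (Nat.dvd_prime_pow hr).1 hdvd
    exact ⟨k, hk⟩
  have hinj : Function.Injective (iterateFrobenius F p k) := (iterateFrobenius F p k).injective
  let σ : F ≃+* F := RingEquiv.ofBijective (iterateFrobenius F p k) (Finite.injective_iff_bijective.1 hinj)
  have hq : ∀ x : F, σ x = x ^ q := by
    intro x
    change iterateFrobenius F p k x = _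
    rw [iterateFrobenius_def, hk]
  have hσ2 : ∀ a, σ (σ a) = a := by
    intro a
    rw [hq, hq, ← pow_mul, ← pow_two, ← hF, FiniteField.pow_card]
  have hq1 : 1 < q := by
    have := Fintype.one_lt_card (α := F)
    rw [hF] at this
    by_contra hcon
    have : q = 0 ∨ q = 1 := by omega
    rcases this with rfl | rfl <;> simp at this
  have hσ1 : σ ≠ 1 := by
    intro h
    obtain ⟨w, hw⟩ := IsCyclic.exists_generator (α := Fˣ)
    have h1 : w ^ (q - 1) = 1 := by
      have h3 : σ (w : F) = w := by rw [h]; rfl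
      rw [hq] at h3
      have h4 : w ^ q = w := Units.ext (by rw [Units.val_pow_eq_pow_val, h3])
      have h5 : w ^ (q - 1) * w = 1 * w := by rw [← pow_succ, show q - 1 + 1 = q by omega, h4, one_mul]
      exact mul_right_cancel h5
    have h3 : orderOf w = q ^ 2 - 1 := by
      rw [orderOf_eq_card_of_forall_mem_zpowers hw, Nat.card_units, hF']
    have h4 := Nat.le_of_dvd (by omega) (orderOf_dvd_of_pow_eq_one h1)
    rw [h3] at h4
    have h5 : q < q ^ 2 := by nlinarith
    omega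
  intro Γ hΓ hsim _
  have hP : PSF p F (Cfsg.hermForm n F q) Γ := ⟨hΓ, hsim⟩
  obtain ⟨g, ⟨h1, h3⟩, h4⟩ := sep_SU hpo (two_ne (by omega)) hσ2 hσ1 hq hF' (hermForm_EH hσ2 hq) (by
    rw [finrank_fintype_fun_eq_card, Fintype.card_fin]
    omega) hP
  exact ⟨g, ⟨h3, h1.2⟩, h4⟩

end Cfsg.Agent.H126.SepSpSU
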