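import Cfsg.Agent.H903.SylSemi

/-!
# The inductive step for the separation statements in defining characteristic (helper126, tasks 459-462 of helper903)

`W = C × (F × F)`; `Γ` a `p`-group of semilinear maps of `W` fixing `e = (0, (1, 0))` and preserving the hyperplane
`(*, (*, 0))`.  `bar` : the induced group on `C`.  `PG Γ g` : for `y ∈ Γ` with `y₁ = a g y g⁻¹ ∈ Γ` one has `y₁ = y`, and
`y = 1` if `y` is linear.

* `step` : `PG (bar Γ) g'` implies `PG Γ (gW t s g')`, `gW t s g' : (c, x, z) ↦ (g' c, s z, t x)`;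
* `sep` : the separation statement for `gW t s g'` or `gW (u t) (v s) g'`.
-/

set_option autoImplicit false
set_option linter.unusedSectionVars false
set_option linter.unusedVariables false

namespace Cfsg.Agent.H126.SepStep

open Cfsg.Agent.H903.SylSemi

universe u v w

section basics

variable {F : Type u} [Field F] {V : Type v} [AddCommGroup V] [Module F V]

/-- The automorphism group of a finite field is cyclic. -/
theorem isCyclic_ringEquiv (F : Type*) [Field F] [Finite F] : IsCyclic (F ≃+* F) := by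
  obtain ⟨p, hp⟩ := CharP.exists F
  have hpp : Fact p.Prime := ⟨CharP.char_is_prime F p⟩
  let _ : Algebra (ZMod p) F := ZMod.algebra F p
  let φ : (F ≃ₐ[ZMod p] F) →* (F ≃+* F) :=
    { toFun := fun σ => σ.toRingEquiv
      map_one' := rfl
      map_mul' := fun _ _ => rfl }
  have hφ : Function.Surjective φ := by
    intro σ
    refine ⟨AlgEquiv.ofRingEquiv (f := σ) ?_, ?_⟩
    · intro x
      have : (σ : F →+* F).comp (algebraMap (ZMod p) F) = algebraMap (ZMod p) F :=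
        Subsingleton.elim _ _
      exact RingHom.congr_fun this x
    · ext x
      rfl
  exact isCyclic_of_surjective φ hφ

theorem perm_apply_inv {α : Type*} (y : Equiv.Perm α) (v : α) : y (y⁻¹ v) = v := y.apply_symm_apply v

theorem perm_inv_apply {α : Type*} (y : Equiv.Perm α) (v : α) : y⁻¹ (y v) = v := y.symm_apply_apply v

theorem semi_mul {y z : Equiv.Perm V} {θ η : F ≃+* F} (hy : Semi F y θ) (hz : Semi F z η) :
    Semi F (y * z) (θ * η) := by
  refine ⟨fun u v => ?_, fun a v => ?_⟩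
  · rw [Equiv.Perm.mul_apply, hz.1, hy.1]; rfl
  · rw [Equiv.Perm.mul_apply, hz.2, hy.2]; rfl

theorem semi_inv {y : Equiv.Perm V} {θ : F ≃+* F} (hy : Semi F y θ) : Semi F y⁻¹ θ⁻¹ := by
  refine ⟨fun u v => ?_, fun a v => ?_⟩
  · apply y.injective
    rw [hy.1, perm_apply_inv, perm_apply_inv, perm_apply_inv]
  · apply y.injective
    rw [hy.2, perm_apply_inv, perm_apply_inv]
    congr 1
    exact (RingEquiv.apply_symm_apply θ a).symm

theorem semi_scal (a : Fˣ) : Semi F (scal F V a) (1 : F ≃+* F) :=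
  ⟨fun u v => by rw [scal_apply, scal_apply, scal_apply, smul_add], fun b v => by
    rw [scal_apply, scal_apply, smul_smul, smul_smul, mul_comm]; rfl⟩

theorem semi_zero {y : Equiv.Perm V} {θ : F ≃+* F} (hy : Semi F y θ) : y 0 = 0 := by
  have := hy.1 0 0
  rw [add_zero] at this
  exact left_eq_add.1 this

theorem semi_unique {y : Equiv.Perm V} {θ η : F ≃+* F} (hy : Semi F y θ) (hy' : Semi F y η) {v : V} (hv : v ≠ 0) :
    θ = η := by
  ext a
  have h := hy.2 a v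
  rw [hy'.2] at h
  have hyv : y v ≠ 0 := by
    intro h0
    apply hv
    apply y.injective
    rw [h0, semi_zero hy]
  exact (smul_left_injective F hyv h).symm

theorem scal_mul_comm {y : Equiv.Perm V} {θ : F ≃+* F} (hy : Semi F y θ) (a : Fˣ) :
    y * scal F V a = scal F V (Units.map θ.toMonoidHom a) * y := by
  ext v
  rw [Equiv.Perm.mul_apply, Equiv.Perm.mul_apply, scal_apply, scal_apply, hy.2]
  rfl

theorem eq_one_of_pow {p : ℕ} [Fact p.Prime] [CharP F p] {x : F} {k : ℕ} (h : x ^ p ^ k = 1) : x = 1 := by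
  have h1 : (x - 1) ^ p ^ k = 0 := by
    rw [sub_pow_char_pow, h, one_pow, sub_self]
  exact sub_eq_zero.1 ((pow_eq_zero_iff (pow_pos (Fact.out (p := p.Prime)).pos k).ne').1 h1)

/-- A linear element of `p`-power order with eigenvector `v` fixes it. -/
theorem fix_of_eigen {p : ℕ} [Fact p.Prime] [CharP F p] {y : Equiv.Perm V} (hy : Semi F y (1 : F ≃+* F)) {k : ℕ}
    (hk : y ^ p ^ k = 1) {v : V} {c : F} (hv : y v = c • v) : y v = v := by
  by_cases hv0 : v = 0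
  · rw [hv0, semi_zero hy]
  have h1 : ∀ n : ℕ, (y ^ n) v = c ^ n • v := by
    intro n
    induction n with
    | zero => simp
    | succ n ih =>
      rw [pow_succ', Equiv.Perm.mul_apply, ih, hy.2, hv, smul_smul, pow_succ]
      rfl
  have h2 := h1 (p ^ k)
  rw [hk, Equiv.Perm.one_apply] at h2
  have h3 : (1 : F) • v = c ^ p ^ k • v := by rw [one_smul]; exact h2
  have h4 := smul_left_injective F hv0 h3
  rw [eq_one_of_pow h4.symm, one_smul] at hv
  exact hv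

/-- See the module docstring. -/
def PG (F : Type u) [Field F] {V : Type v} [AddCommGroup V] [Module F V] (Γ : Subgroup (Equiv.Perm V))
    (g : Equiv.Perm V) : Prop :=
  ∀ y ∈ Γ, ∀ a : Fˣ, scal F V a * (g * y * g⁻¹) ∈ Γ →
    scal F V a * (g * y * g⁻¹) = y ∧ (Semi F y (1 : F ≃+* F) → y = 1)

/-- `Γ` is a `p`-group of semilinear maps. -/
structure PS (p : ℕ) (F : Type u) [Field F] {V : Type v} [AddCommGroup V] [Module F V]
    (Γ : Subgroup (Equiv.Perm V)) : Prop where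
  grp : IsPGroup p Γ
  semi : ∀ y ∈ Γ, ∃ θ, Semi F y θ

theorem PS.pow {p : ℕ} {Γ : Subgroup (Equiv.Perm V)} (h : PS p F Γ) {y : Equiv.Perm V} (hy : y ∈ Γ) :
    ∃ k : ℕ, y ^ p ^ k = 1 := by
  obtain ⟨k, hk⟩ := h.grp ⟨y, hy⟩
  exact ⟨k, congrArg Subtype.val hk⟩

end basics

section step

variable {F : Type u} [Field F] {C : Type w} [AddCommGroup C] [Module F C]

/-- `(c, x, z) ↦ (g' c, s z, t x)`. -/
def gW (t s : Fˣ) (g' : Equiv.Perm C) : Equiv.Perm (C × (F × F)) where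
  toFun v := (g' v.1, ((s : F) * v.2.2, (t : F) * v.2.1))
  invFun v := (g'⁻¹ v.1, ((t⁻¹ : Fˣ) : F) * v.2.2, ((s⁻¹ : Fˣ) : F) * v.2.1)
  left_inv v := by simp
  right_inv v := by simp

theorem gW_apply (t s : Fˣ) (g' : Equiv.Perm C) (c : C) (x z : F) :
    gW t s g' (c, (x, z)) = (g' c, ((s : F) * z, (t : F) * x)) := rfl

theorem gW_inv_apply (t s : Fˣ) (g' : Equiv.Perm C) (c : C) (x z : F) :
    (gW t s g')⁻¹ (c, (x, z)) = (g'⁻¹ c, (((t⁻¹ : Fˣ) : F) * z, ((s⁻¹ : Fˣ) : F) * x)) := rfl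

theorem gW_semi {t s : Fˣ} {g' : Equiv.Perm C} (hg' : Semi F g' (1 : F ≃+* F)) :
    Semi F (gW t s g') (1 : F ≃+* F) := by
  refine ⟨fun u v => ?_, fun a v => ?_⟩
  · obtain ⟨c, x, z⟩ := u
    obtain ⟨c', x', z'⟩ := v
    simp only [Prod.mk_add_mk, gW_apply, hg'.1, mul_add]
  · obtain ⟨c', x', z'⟩ := v
    simp only [Prod.smul_mk, gW_apply, hg'.2, smul_eq_mul]
    refine Prod.ext rfl (Prod.ext ?_ ?_)
    · change (s : F) * (a * z') = a * (s * z'); ring
    · change (t : F) * (a * x') = a * (t * x'); ring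

/-- The hypotheses of the inductive step. -/
structure St (Γ : Subgroup (Equiv.Perm (C × (F × F)))) : Prop where
  fix : ∀ y ∈ Γ, y (0, (1, 0)) = (0, (1, 0))
  hyp : ∀ y ∈ Γ, ∀ (c : C) (x : F), (y (c, (x, 0))).2.2 = 0

variable {p : ℕ} {Γ : Subgroup (Equiv.Perm (C × (F × F)))}

theorem St.apply (hS : St Γ) (hP : PS p F Γ) {y : Equiv.Perm (C × (F × F))} (hy : y ∈ Γ) {θ : F ≃+* F}
    (hθ : Semi F y θ) (c : C) (x : F) : y (c, (x, 0)) = ((y (c, (0, 0))).1, ((y (c, (0, 0))).2.1 + θ x, 0)) := by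
  have e : ((c, (x, 0)) : C × (F × F)) = (c, (0, 0)) + x • (0, (1, 0)) := by simp
  rw [e, hθ.1, hθ.2, hS.fix y hy]
  have h0 := hS.hyp y hy c 0
  refine Prod.ext ?_ (Prod.ext ?_ ?_)
  · simp
  · simp
  · simp [h0]

/-- The induced map on `C`. -/
def barF (y : Equiv.Perm (C × (F × F))) (c : C) : C := (y (c, (0, 0))).1

theorem barF_mul (hS : St Γ) (hP : PS p F Γ) {y z : Equiv.Perm (C × (F × F))} (hy : y ∈ Γ) (hz : z ∈ Γ) (c : C) :
    barF (y * z) c = barF y (barF z c) := by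
  obtain ⟨θ, hθ⟩ := hP.semi y hy
  have h1 : z (c, (0, 0)) = (barF z c, ((z (c, (0, 0))).2.1, 0)) :=
    Prod.ext rfl (Prod.ext rfl (hS.hyp z hz c 0))
  change (y (z (c, (0, 0)))).1 = _
  rw [h1, hS.apply hP hy hθ]
  rfl

theorem barF_one (c : C) : barF (1 : Equiv.Perm (C × (F × F))) c = c := rfl

/-- The action on `C`. -/
@[reducible] def barAct (hS : St Γ) (hP : PS p F Γ) : MulAction Γ C where
  smul y c := barF y.1 c
  one_smul c := rfl
  mul_smul y z c := barF_mul hS hP y.2 z.2 c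

/-- The homomorphism to the permutations of `C`. -/
def barHom (hS : St Γ) (hP : PS p F Γ) : Γ →* Equiv.Perm C :=
  @MulAction.toPermHom Γ C _ (barAct hS hP)

theorem barHom_apply (hS : St Γ) (hP : PS p F Γ) (y : Γ) (c : C) : barHom hS hP y c = barF y.1 c := rfl

/-- The group induced on `C`. -/
def bar (hS : St Γ) (hP : PS p F Γ) : Subgroup (Equiv.Perm C) := (barHom hS hP).range

theorem bar_semi (hS : St Γ) (hP : PS p F Γ) (y : Γ) {θ : F ≃+* F} (hθ : Semi F y.1 θ) :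
    Semi F (barHom hS hP y) θ := by
  refine ⟨fun u v => ?_, fun a v => ?_⟩
  · rw [barHom_apply, barHom_apply, barHom_apply, barF, barF, barF, ← Prod.fst_add, ← hθ.1]
    simp
  · rw [barHom_apply, barHom_apply, barF, barF, ← Prod.smul_fst, ← hθ.2]
    simp

theorem bar_PS (hS : St Γ) (hP : PS p F Γ) : PS p F (bar hS hP) := by
  refine ⟨?_, ?_⟩
  · rintro ⟨z, y, rfl⟩
    obtain ⟨k, hk⟩ := hP.grp y
    refine ⟨k, Subtype.ext ?_⟩
    change (barHom hS hP y) ^ p ^ k = 1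
    rw [← map_pow, hk, map_one]
  · rintro z ⟨y, rfl⟩
    obtain ⟨θ, hθ⟩ := hP.semi y y.2
    exact ⟨θ, bar_semi hS hP y hθ⟩

/-- The data used several times: `y ∈ Γ` with `y₁ = a g y g⁻¹ ∈ Γ`, `g = gW t s g'`. -/
theorem data (hS : St Γ) (hP : PS p F Γ) {t s : Fˣ} {g' : Equiv.Perm C} (hg' : Semi F g' (1 : F ≃+* F))
    {y : Equiv.Perm (C × (F × F))} (hy : y ∈ Γ) {a : Fˣ}
    (hy1 : scal F (C × (F × F)) a * (gW t s g' * y * (gW t s g')⁻¹) ∈ Γ) :
    (∀ c, y (c, (0, 0)) = (barF y c, (0, 0))) ∧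
    (∀ c, (scal F (C × (F × F)) a * (gW t s g' * y * (gW t s g')⁻¹)) (c, (0, 0)) =
      (barF (scal F (C × (F × F)) a * (gW t s g' * y * (gW t s g')⁻¹)) c, (0, 0))) ∧
    (∀ c, barF (scal F (C × (F × F)) a * (gW t s g' * y * (gW t s g')⁻¹)) c =
      (scal F C a * (g' * barHom hS hP ⟨y, hy⟩ * g'⁻¹)) c) ∧
    (∃ l : F, y (0, (0, 1)) = l • (0, (0, 1))) ∧
    (∃ l : F, (scal F (C × (F × F)) a * (gW t s g' * y * (gW t s g')⁻¹)) (0, (0, 1)) = l • (0, (0, 1))) := by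
  obtain ⟨θ, hθ⟩ := hP.semi y hy
  set g := gW t s g' with hg
  set y1 := scal F (C × (F × F)) a * (g * y * g⁻¹) with hy1d
  have hgs : Semi F g (1 : F ≃+* F) := gW_semi hg'
  have hg0 : g' 0 = 0 := semi_zero hg'
  have hg0' : g'⁻¹ 0 = 0 := semi_zero (semi_inv hg')
  have happ : ∀ v, y1 v = (a : F) • g (y (g⁻¹ v)) := fun v => rfl
  have ha := a.ne_zero
  have hs := s.ne_zero
  have ht := t.ne_zero
  -- `y` preserves the line of `f`
  have h1 : ∃ l : F, y (0, (0, 1)) = l • (0, (0, 1)) := by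
    have e1 := hS.fix y1 hy1
    rw [happ, hg, gW_inv_apply, hg0', ← hg] at e1
    have e2 : ((0 : C), (((t⁻¹ : Fˣ) : F) * 0, ((s⁻¹ : Fˣ) : F) * 1)) = ((s⁻¹ : Fˣ) : F) • ((0 : C), ((0 : F), (1 : F))) := by
      simp
    rw [e2, hθ.2] at e1
    obtain ⟨⟨c, x, z⟩, hcxz⟩ : ∃ w, y ((0 : C), ((0 : F), (1 : F))) = w := ⟨_, rfl⟩
    rw [hcxz, hgs.2, hg, gW_apply] at e1
    have hk : θ ((s⁻¹ : Fˣ) : F) ≠ 0 := by
      rw [Ne, map_eq_zero_iff θ θ.injective]; exact (s⁻¹).ne_zero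
    have e3 := congrArg Prod.fst e1
    have e4 := congrArg (fun w => w.2.2) e1
    simp only [Prod.smul_mk, RingAut.one_apply, smul_eq_mul] at e3 e4
    rw [smul_eq_zero_iff_right ha, smul_eq_zero_iff_right hk] at e3
    have e5 : c = 0 := by
      apply g'.injective
      rw [e3, hg0]
    have e6 : x = 0 := by
      rcases mul_eq_zero.1 e4 with h | h
      · exact absurd h ha
      rcases mul_eq_zero.1 h with h | h
      · exact absurd h hk
      rcases mul_eq_zero.1 h with h | h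
      · exact absurd h ht
      · exact h
    refine ⟨z, ?_⟩
    rw [hcxz, e5, e6]
    simp
  have h2 : ∀ c, y (c, (0, 0)) = (barF y c, (0, 0)) := by
    intro c
    have e1 := hS.hyp y1 hy1 (g' c) 0
    rw [happ, hg, gW_inv_apply, perm_inv_apply, ← hg] at e1
    simp only [mul_zero] at e1
    have e0 := hS.hyp y hy c 0
    obtain ⟨⟨c', x, z⟩, hcxz⟩ : ∃ w, y (c, ((0 : F), (0 : F))) = w := ⟨_, rfl⟩
    rw [hcxz] at e1 e0
    rw [barF, hcxz]
    rw [hg, gW_apply] at e1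
    simp only [Prod.smul_mk, smul_eq_mul] at e1
    have e6 : x = 0 := by
      rcases mul_eq_zero.1 e1 with h | h
      · exact absurd h ha
      rcases mul_eq_zero.1 h with h | h
      · exact absurd h ht
      · exact h
    have e7 : z = 0 := e0
    rw [e6, e7]
  have h3 : ∀ c, y1 (c, (0, 0)) = ((a : F) • g' (barF y (g'⁻¹ c)), (0, 0)) := by
    intro c
    rw [happ, hg, gW_inv_apply]
    simp only [mul_zero]
    rw [h2, gW_apply]
    simp
  refine ⟨h2, fun c => ?_, fun c => ?_, h1, ?_⟩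
  · rw [barF, h3]
  · rw [barF, h3]
    rfl
  · refine ⟨(a : F) * ((t : F) * θ ((t⁻¹ : Fˣ) : F)), ?_⟩
    rw [happ, hg, gW_inv_apply, hg0']
    have e2 : ((0 : C), (((t⁻¹ : Fˣ) : F) * 1, ((s⁻¹ : Fˣ) : F) * 0)) = ((t⁻¹ : Fˣ) : F) • ((0 : C), ((1 : F), (0 : F))) := by
      simp
    rw [e2, hθ.2, hS.fix y hy]
    have e3 : θ ((t⁻¹ : Fˣ) : F) • ((0 : C), ((1 : F), (0 : F))) = (0, (θ ((t⁻¹ : Fˣ) : F), 0)) := by simp
    rw [e3, gW_apply, hg0]
    simp

/-- Equality of semilinear maps of `C × (F × F)`. -/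
theorem ext_of {y z : Equiv.Perm (C × (F × F))} {θ : F ≃+* F} (hy : Semi F y θ) (hz : Semi F z θ)
    (h1 : ∀ c, y (c, (0, 0)) = z (c, (0, 0))) (h2 : y (0, (1, 0)) = z (0, (1, 0)))
    (h3 : y (0, (0, 1)) = z (0, (0, 1))) : y = z := by
  ext1 ⟨c, a, b⟩
  have e : ((c, (a, b)) : C × (F × F)) = (c, (0, 0)) + (a • (0, (1, 0)) + b • (0, (0, 1))) := by simp
  rw [e, hy.1, hy.1, hy.2, hy.2, hz.1, hz.1, hz.2, hz.2, h1, h2, h3]

/-- **The inductive step.** -/
theorem step [Fact p.Prime] [CharP F p] (hS : St Γ) (hP : PS p F Γ) {t s : Fˣ} {g' : Equiv.Perm C}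
    (hg' : Semi F g' (1 : F ≃+* F)) (hPG : PG F (bar hS hP) g') : PG F Γ (gW t s g') := by
  intro y hy a hy1
  obtain ⟨θ, hθ⟩ := hP.semi y hy
  obtain ⟨d1, d2, d3, ⟨l, d4⟩, ⟨l1, d5⟩⟩ := data hS hP hg' hy hy1
  set y1 := scal F (C × (F × F)) a * (gW t s g' * y * (gW t s g')⁻¹) with hy1d
  -- the induced maps
  have hm : scal F C a * (g' * barHom hS hP ⟨y, hy⟩ * g'⁻¹) = barHom hS hP ⟨y1, hy1⟩ := by
    ext1 c
    rw [← d3]
    rfl
  obtain ⟨k1, k2⟩ := hPG (barHom hS hP ⟨y, hy⟩) ⟨_, rfl⟩ a (by rw [hm]; exact ⟨_, rfl⟩)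
  rw [hm] at k1
  have k3 : ∀ c, barF y1 c = barF y c := fun c => congrArg (fun z : Equiv.Perm C => z c) k1
  -- the linear element `y⁻¹ y₁`
  have hθ1 : Semi F y1 θ := by
    have h := semi_mul (semi_scal (V := C × (F × F)) a)
      (semi_mul (semi_mul (gW_semi (t := t) (s := s) hg') hθ) (semi_inv (gW_semi (t := t) (s := s) hg')))
    rw [one_mul, one_mul, inv_one, mul_one] at h
    exact h
  have hz : y⁻¹ * y1 ∈ Γ := Γ.mul_mem (Γ.inv_mem hy) hy1
  have hzl : Semi F (y⁻¹ * y1) (1 : F ≃+* F) := by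
    have h := semi_mul (semi_inv hθ) hθ1
    rwa [inv_mul_cancel] at h
  obtain ⟨k, hk⟩ := hP.pow hz
  obtain ⟨k', hk'⟩ := hP.pow hy
  have hl : l ≠ 0 := by
    rintro rfl
    rw [zero_smul, ← semi_zero hθ] at d4
    have := y.injective d4
    simp at this
  have hz1 : (y⁻¹ * y1) ((0 : C), ((0 : F), (1 : F))) = (θ⁻¹ (l1 * l⁻¹)) • ((0 : C), ((0 : F), (1 : F))) := by
    apply y.injective
    rw [Equiv.Perm.mul_apply, perm_apply_inv, d5, hθ.2, d4, smul_smul]
    congr 1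
    change l1 = θ (θ.symm (l1 * l⁻¹)) * l
    rw [RingEquiv.apply_symm_apply, mul_assoc, inv_mul_cancel₀ hl, mul_one]
  have hz2 := fix_of_eigen hzl hk hz1
  have hyy : y1 = y := by
    apply ext_of hθ1 hθ
    · intro c
      rw [d1, d2, k3]
    · rw [hS.fix y hy, hS.fix y1 hy1]
    · have := congrArg y hz2
      rwa [Equiv.Perm.mul_apply, perm_apply_inv] at this
  refine ⟨hyy, fun hlin => ?_⟩
  have k4 := k2 (bar_semi hS hP ⟨y, hy⟩ hlin)
  apply ext_of hlin (θ := 1) ⟨fun _ _ => rfl, fun _ _ => rfl⟩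
  · intro c
    rw [d1]
    have : barF y c = c := congrArg (fun z : Equiv.Perm C => z c) k4
    rw [this]
    rfl
  · rw [hS.fix y hy]
    rfl
  · exact fix_of_eigen hlin hk' d4

/-- In a cyclic group two nontrivial elements of `p`-power order have a common nontrivial power. -/
theorem exists_common {A : Type*} [Group A] [Finite A] [IsCyclic A] {p : ℕ} [Fact p.Prime] {x y : A} (hx : x ≠ 1)
    (hy : y ≠ 1) (hxk : ∃ k : ℕ, x ^ p ^ k = 1) (hyk : ∃ k : ℕ, y ^ p ^ k = 1) :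
    ∃ i j : ℕ, x ^ i = y ^ j ∧ x ^ i ≠ 1 := by
  classical
  have hp := Fact.out (p := p.Prime)
  have key : ∀ x : A, x ≠ 1 → (∃ k : ℕ, x ^ p ^ k = 1) → ∃ i : ℕ, orderOf (x ^ i) = p := by
    rintro x hx ⟨k, hk⟩
    obtain ⟨m, -, hm⟩ := (Nat.dvd_prime_pow hp).1 (orderOf_dvd_of_pow_eq_one hk)
    have hm0 : m ≠ 0 := by
      rintro rfl
      rw [pow_zero, orderOf_eq_one_iff] at hm
      exact hx hm
    obtain ⟨m, rfl⟩ := Nat.exists_eq_succ_of_ne_zero hm0
    refine ⟨p ^ m, ?_⟩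
    rw [orderOf_pow' x (pow_pos hp.pos m).ne', hm]
    have : Nat.gcd (p ^ m.succ) (p ^ m) = p ^ m := Nat.gcd_eq_right (pow_dvd_pow p (Nat.le_succ m))
    rw [this, pow_succ, Nat.mul_div_cancel_left _ (pow_pos hp.pos m)]
  obtain ⟨i, hi⟩ := key x hx hxk
  obtain ⟨j, hj⟩ := key y hy hyk
  have := Fintype.ofFinite A
  have h1 : (Finset.univ.filter fun a : A => a ^ p = 1).card ≤ p := IsCyclic.card_pow_eq_one_le hp.pos
  have h2 : (Finset.univ.filter fun a : A => a ∈ Subgroup.zpowers (x ^ i)) ⊆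
      Finset.univ.filter fun a : A => a ^ p = 1 := by
    intro a ha
    rw [Finset.mem_filter] at ha ⊢
    obtain ⟨n, rfl⟩ := Subgroup.mem_zpowers_iff.1 ha.2
    refine ⟨Finset.mem_univ _, ?_⟩
    rw [← zpow_natCast, ← zpow_mul, mul_comm, zpow_mul, zpow_natCast, ← hi, pow_orderOf_eq_one, one_zpow]
  have h3 : (Finset.univ.filter fun a : A => a ∈ Subgroup.zpowers (x ^ i)).card = p := by
    rw [← Fintype.card_subtype, ← hi, ← Nat.card_zpowers, Nat.card_eq_fintype_card]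
  have h4 := Finset.eq_of_subset_of_card_le h2 (by rw [h3]; exact h1)
  have h5 : y ^ j ∈ Finset.univ.filter fun a : A => a ∈ Subgroup.zpowers (x ^ i) := by
    rw [h4, Finset.mem_filter]
    refine ⟨Finset.mem_univ _, ?_⟩
    rw [← hj, pow_orderOf_eq_one]
  rw [Finset.mem_filter, mem_zpowers_iff_mem_range_orderOf] at h5
  obtain ⟨n, -, hn⟩ := Finset.mem_image.1 h5.2
  refine ⟨i * n, j, ?_, ?_⟩
  · rw [pow_mul]; exact hn
  · rw [pow_mul, hn]
    intro h
    rw [h, orderOf_one] at hj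
    exact hp.one_lt.ne hj

/-- The monoid of the elements of `Γ` which look diagonal. -/
def DD (hS : St Γ) (hP : PS p F Γ) (g' : Equiv.Perm C) (hg' : Semi F g' (1 : F ≃+* F)) :
    Submonoid (Equiv.Perm (C × (F × F))) where
  carrier := {z | ∃ h : z ∈ Γ, (∀ c, z (c, (0, 0)) = (barF z c, (0, 0))) ∧ (∃ l : F, z (0, (0, 1)) = l • (0, (0, 1))) ∧
    ∃ a : Fˣ, scal F C a * (g' * barHom hS hP ⟨z, h⟩ * g'⁻¹) ∈ bar hS hP}
  one_mem' := by
    refine ⟨Γ.one_mem, fun c => rfl, ⟨1, by simp⟩, 1, ?_⟩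
    have : barHom hS hP ⟨1, Γ.one_mem⟩ = 1 := map_one (barHom hS hP)
    rw [this, map_one, mul_one, mul_inv_cancel, one_mul]
    exact Subgroup.one_mem _
  mul_mem' := by
    rintro y z ⟨hy, hy1, ⟨l, hl⟩, a, ha⟩ ⟨hz, hz1, ⟨m, hm⟩, b, hb⟩
    obtain ⟨θ, hθ⟩ := hP.semi y hy
    have hmul : barHom hS hP ⟨y * z, Γ.mul_mem hy hz⟩ = barHom hS hP ⟨y, hy⟩ * barHom hS hP ⟨z, hz⟩ :=
      map_mul (barHom hS hP) ⟨y, hy⟩ ⟨z, hz⟩
    refine ⟨Γ.mul_mem hy hz, fun c => ?_, ⟨θ m * l, ?_⟩, a * Units.map θ.toMonoidHom b, ?_⟩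
    · rw [Equiv.Perm.mul_apply, hz1, hy1, barF_mul hS hP hy hz]
    · rw [Equiv.Perm.mul_apply, hm, hθ.2, hl, smul_smul]
    · have h1 := Subgroup.mul_mem _ ha hb
      have h2 : Semi F (g' * barHom hS hP ⟨y, hy⟩ * g'⁻¹) θ := by
        have h := semi_mul (semi_mul hg' (bar_semi hS hP ⟨y, hy⟩ hθ)) (semi_inv hg')
        rwa [one_mul, inv_one, mul_one] at h
      have h3 := scal_mul_comm h2 b
      rw [hmul, map_mul]
      convert h1 using 1
      calc scal F C a * scal F C (Units.map θ.toMonoidHom b) *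
            (g' * (barHom hS hP ⟨y, hy⟩ * barHom hS hP ⟨z, hz⟩) * g'⁻¹)
          = scal F C a * (scal F C (Units.map θ.toMonoidHom b) * (g' * barHom hS hP ⟨y, hy⟩ * g'⁻¹)) *
              (g' * barHom hS hP ⟨z, hz⟩ * g'⁻¹) := by group
        _ = scal F C a * (g' * barHom hS hP ⟨y, hy⟩ * g'⁻¹) *
              (scal F C b * (g' * barHom hS hP ⟨z, hz⟩ * g'⁻¹)) := by rw [← h3]; group

theorem DD_lin [Fact p.Prime] [CharP F p] (hS : St Γ) (hP : PS p F Γ) {g' : Equiv.Perm C}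
    (hg' : Semi F g' (1 : F ≃+* F)) (hPG : PG F (bar hS hP) g') {z : Equiv.Perm (C × (F × F))}
    (hz : z ∈ DD hS hP g' hg') (hlin : Semi F z (1 : F ≃+* F)) : z = 1 := by
  obtain ⟨h, h1, ⟨l, h2⟩, a, ha⟩ := hz
  obtain ⟨-, k2⟩ := hPG _ ⟨_, rfl⟩ a ha
  obtain ⟨k, hk⟩ := hP.pow h
  have k4 := k2 (bar_semi hS hP ⟨z, h⟩ hlin)
  apply ext_of hlin (θ := 1) ⟨fun _ _ => rfl, fun _ _ => rfl⟩
  · intro c
    rw [h1]
    have : barF z c = c := congrArg (fun z : Equiv.Perm C => z c) k4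
    rw [this]
    rfl
  · rw [hS.fix z h]
    rfl
  · exact fix_of_eigen hlin hk h2

theorem mem_DD (hS : St Γ) (hP : PS p F Γ) {t s : Fˣ} {g' : Equiv.Perm C} (hg' : Semi F g' (1 : F ≃+* F))
    {y : Equiv.Perm (C × (F × F))} (hy : y ∈ Γ) {a : Fˣ}
    (hy1 : scal F (C × (F × F)) a * (gW t s g' * y * (gW t s g')⁻¹) ∈ Γ) : y ∈ DD hS hP g' hg' := by
  obtain ⟨d1, d2, d3, d4, d5⟩ := data hS hP hg' hy hy1
  refine ⟨hy, d1, d4, a, ?_⟩
  set y1 := scal F (C × (F × F)) a * (gW t s g' * y * (gW t s g')⁻¹) with hy1d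
  have hm : scal F C a * (g' * barHom hS hP ⟨y, hy⟩ * g'⁻¹) = barHom hS hP ⟨y1, hy1⟩ := by
    ext1 c
    rw [← d3]
    rfl
  rw [hm]
  exact ⟨_, rfl⟩

/-- Powers of an element commuting with `g` up to scalars. -/
theorem comm_pow {V : Type v} [AddCommGroup V] [Module F V] {g y : Equiv.Perm V} {θ : F ≃+* F} (hθ : Semi F y θ)
    {a : Fˣ} (h : g * y * g⁻¹ = scal F V a * y) (i : ℕ) : ∃ c : Fˣ, g * y ^ i * g⁻¹ = scal F V c * y ^ i := by
  induction i with
  | zero => exact ⟨1, by simp⟩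
  | succ i ih =>
    obtain ⟨c, hc⟩ := ih
    refine ⟨a * Units.map θ.toMonoidHom c, ?_⟩
    have e : g * y ^ (i + 1) * g⁻¹ = (g * y * g⁻¹) * (g * y ^ i * g⁻¹) := by rw [pow_succ']; group
    rw [e, h, hc, map_mul, pow_succ']
    calc scal F V a * y * (scal F V c * y ^ i) = scal F V a * (y * scal F V c) * y ^ i := by group
      _ = _ := by rw [scal_mul_comm hθ]; group

theorem semi_pow {V : Type v} [AddCommGroup V] [Module F V] {y : Equiv.Perm V} {θ : F ≃+* F} (hθ : Semi F y θ)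
    (i : ℕ) : Semi F (y ^ i) (θ ^ i) := by
  induction i with
  | zero => exact ⟨fun _ _ => rfl, fun _ _ => rfl⟩
  | succ i ih => rw [pow_succ, pow_succ]; exact semi_mul ih hθ

/-- **The separation statement.** -/
theorem sep [Finite F] [Fact p.Prime] [CharP F p] (hS : St Γ) (hP : PS p F Γ) {g' : Equiv.Perm C}
    (hg' : Semi F g' (1 : F ≃+* F)) (hPG : PG F (bar hS hP) g') (t s u v : Fˣ)
    (hu : ∀ θ : F ≃+* F, (∃ k : ℕ, θ ^ p ^ k = 1) → ∀ c : F, (u : F) = c * θ u → (v : F) = c * θ v →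
      ((∃ c0 : C, c0 ≠ 0) → c = 1) → θ = 1) :
    (∀ y ∈ Γ, (∃ a : Fˣ, scal F _ a * (gW t s g' * y * (gW t s g')⁻¹) ∈ Γ) → ∃ b : Fˣ, y = scal F _ b) ∨
    (∀ y ∈ Γ, (∃ a : Fˣ, scal F _ a * (gW (t * u) (s * v) g' * y * (gW (t * u) (s * v) g')⁻¹) ∈ Γ) →
      ∃ b : Fˣ, y = scal F _ b) := by
  by_contra hcon
  push Not at hcon
  obtain ⟨⟨y, hy, ⟨a, hya⟩, hys⟩, y', hy', ⟨a', hya'⟩, hys'⟩ := hcon
  have hyD := mem_DD hS hP hg' hy hya
  have hyD' := mem_DD hS hP hg' hy' hya'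
  obtain ⟨e1, e1'⟩ := step hS hP (t := t) (s := s) hg' hPG y hy a hya
  obtain ⟨e2, e2'⟩ := step hS hP (t := t * u) (s := s * v) hg' hPG y' hy' a' hya'
  have hy0 : y ≠ 1 := fun h => hys 1 (by rw [h, map_one])
  have hy0' : y' ≠ 1 := fun h => hys' 1 (by rw [h, map_one])
  obtain ⟨θ, hθ⟩ := hP.semi y hy
  obtain ⟨θ', hθ'⟩ := hP.semi y' hy'
  have hθ0 : θ ≠ 1 := by rintro rfl; exact hy0 (e1' hθ)
  have hθ0' : θ' ≠ 1 := by rintro rfl; exact hy0' (e2' hθ')
  obtain ⟨k, hk⟩ := hP.pow hy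
  obtain ⟨k', hk'⟩ := hP.pow hy'
  have hv0 : ((0 : C), ((1 : F), (0 : F))) ≠ 0 := by simp
  have hθk : θ ^ p ^ k = 1 := by
    have h := semi_pow hθ (p ^ k)
    rw [hk] at h
    exact semi_unique h ⟨fun _ _ => rfl, fun _ _ => rfl⟩ hv0
  have hθk' : θ' ^ p ^ k' = 1 := by
    have h := semi_pow hθ' (p ^ k')
    rw [hk'] at h
    exact semi_unique h ⟨fun _ _ => rfl, fun _ _ => rfl⟩ hv0
  have : IsCyclic (F ≃+* F) := isCyclic_ringEquiv F
  have : Finite (F ≃+* F) := DFunLike.finite _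
  obtain ⟨i, j, hij, hij0⟩ := exists_common hθ0 hθ0' ⟨k, hθk⟩ ⟨k', hθk'⟩
  set η := θ ^ i with hη
  have hzη : Semi F (y ^ i) η := semi_pow hθ i
  have hzη' : Semi F (y' ^ j) η := by rw [hij]; exact semi_pow hθ' j
  have hz : y ^ i = y' ^ j := by
    have h1 : (y ^ i) ^ (p ^ k) = 1 := by rw [← pow_mul, mul_comm, pow_mul, hk, one_pow]
    have h2 : (y ^ i) ^ (p ^ k - 1) * (y ^ i) = 1 := by
      rw [← pow_succ, Nat.sub_add_cancel (pow_pos (Fact.out (p := p.Prime)).pos k), h1]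
    have h3 : (y ^ i) ^ (p ^ k - 1) = (y ^ i)⁻¹ := eq_inv_of_mul_eq_one_left h2
    have h4 : (y ^ i)⁻¹ * y' ^ j ∈ DD hS hP g' hg' := by
      rw [← h3]
      exact mul_mem (pow_mem (pow_mem hyD i) _) (pow_mem hyD' j)
    have h5 := DD_lin hS hP hg' hPG h4 (by
      have h := semi_mul (semi_inv hzη) hzη'
      rwa [inv_mul_cancel] at h)
    exact (inv_mul_eq_one.1 h5)
  have hzD : y ^ i ∈ DD hS hP g' hg' := pow_mem hyD i
  -- commutation with `g` and `g₂`
  have c1 : gW t s g' * y * (gW t s g')⁻¹ = scal F _ a⁻¹ * y := by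
    nth_rw 2 [← e1]
    rw [← mul_assoc (scal F _ a⁻¹), ← map_mul, inv_mul_cancel, map_one, one_mul]
  have c2 : gW (t * u) (s * v) g' * y' * (gW (t * u) (s * v) g')⁻¹ = scal F _ a'⁻¹ * y' := by
    nth_rw 2 [← e2]
    rw [← mul_assoc (scal F _ a'⁻¹), ← map_mul, inv_mul_cancel, map_one, one_mul]
  obtain ⟨c, hc⟩ := comm_pow hθ c1 i
  obtain ⟨c', hc'⟩ := comm_pow hθ' c2 j
  rw [← hz] at hc'
  set z := y ^ i with hzdef
  obtain ⟨hzΓ, z1, ⟨l, z2⟩, -⟩ := hzD
  have z3 := hS.fix z hzΓ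
  have comm : ∀ {g : Equiv.Perm (C × (F × F))} {c : Fˣ}, g * z * g⁻¹ = scal F _ c * z →
      ∀ w, g (z w) = (c : F) • z (g w) := by
    intro g c h w
    have h1 := congrArg (fun f : Equiv.Perm (C × (F × F)) => f (g w)) h
    simp only [Equiv.Perm.mul_apply, perm_inv_apply, scal_apply] at h1
    exact h1
  have k1 := comm hc
  have k2 := comm hc'
  have hg0 : g' 0 = 0 := semi_zero hg'
  have hl : l ≠ 0 := by
    rintro rfl
    rw [zero_smul, ← semi_zero hzη] at z2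
    have := z.injective z2
    simp at this
  -- values at `e`, `f`
  have vE : ∀ {T S c : Fˣ}, (∀ w, gW T S g' (z w) = (c : F) • z (gW T S g' w)) → (T : F) = c * (η T * l) := by
    intro T S c h
    have h1 := h (0, (1, 0))
    rw [z3, gW_apply, hg0] at h1
    have e3 : ((0 : C), ((S : F) * 0, (T : F) * 1)) = (T : F) • ((0 : C), ((0 : F), (1 : F))) := by simp
    rw [e3, hzη.2, z2] at h1
    have h2 := congrArg (fun w => w.2.2) h1
    simpa using h2
  have vF : ∀ {T S c : Fˣ}, (∀ w, gW T S g' (z w) = (c : F) • z (gW T S g' w)) → (S : F) * l = c * η S := by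
    intro T S c h
    have h1 := h (0, (0, 1))
    have e4 : l • ((0 : C), ((0 : F), (1 : F))) = (0, (0, l)) := by simp
    rw [z2, e4, gW_apply, gW_apply, hg0] at h1
    have e3 : ((0 : C), ((S : F) * 1, (T : F) * 0)) = (S : F) • ((0 : C), ((1 : F), (0 : F))) := by simp
    rw [e3, hzη.2, z3] at h1
    have h2 := congrArg (fun w => w.2.1) h1
    simpa using h2
  have vC : ∀ {T S c : Fˣ}, (∀ w, gW T S g' (z w) = (c : F) • z (gW T S g' w)) →
      ∀ c0 : C, g' (barF z c0) = (c : F) • barF z (g' c0) := by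
    intro T S c h c0
    have h1 := h (c0, (0, 0))
    rw [z1, gW_apply, gW_apply] at h1
    simp only [mul_zero] at h1
    rw [z1] at h1
    exact congrArg Prod.fst h1
  have a1 := vE k1
  have a2 := vE k2
  have b1 := vF k1
  have b2 := vF k2
  have hc0 := c.ne_zero
  have ht0 := t.ne_zero
  have hs0 := s.ne_zero
  have hηt : η (t : F) ≠ 0 := by rw [Ne, map_eq_zero_iff η η.injective]; exact ht0
  have hηs : η (s : F) ≠ 0 := by rw [Ne, map_eq_zero_iff η η.injective]; exact hs0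
  rw [Units.val_mul, map_mul] at a2 b2
  apply hij0
  refine hu η ⟨k, ?_⟩ ((c' : F) * (c : F)⁻¹) ?_ ?_ ?_
  · rw [hη, ← pow_mul, mul_comm, pow_mul, hθk, one_pow]
  · have : (t : F) * (u - (c' : F) * (c : F)⁻¹ * η u) = 0 := by
      rw [mul_sub, a2]
      nth_rw 2 [a1]
      field_simp
      ring
    rcases mul_eq_zero.1 this with h | h
    · exact absurd h ht0
    · exact sub_eq_zero.1 h
  · have : (s : F) * l * (v - (c' : F) * (c : F)⁻¹ * η v) = 0 := by
      have b3 : (s : F) * l * v = (c' : F) * (η s * η v) := by rw [← b2]; ring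
      rw [mul_sub, b3, b1]
      field_simp
      ring
    rcases mul_eq_zero.1 this with h | h
    · exact absurd h (mul_ne_zero hs0 hl)
    · exact sub_eq_zero.1 h
  · rintro ⟨c0, hc00⟩
    have f1 := vC k1 c0
    have f2 := vC k2 c0
    have hne : barF z (g' c0) ≠ 0 := by
      intro h0
      have h1 := z1 (g' c0)
      rw [h0] at h1
      have h2 : z (g' c0, ((0 : F), (0 : F))) = z 0 := by rw [h1, semi_zero hzη]; rfl
      have h3 := congrArg Prod.fst (z.injective h2)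
      apply hc00
      apply g'.injective
      rw [hg0]
      exact h3
    have f3 : (c : F) = c' := smul_left_injective F hne (f1.symm.trans f2)
    rw [← f3, mul_inv_cancel₀ hc0]

end step

end Cfsg.Agent.H126.SepStep
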