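import Cfsg.Agent.H126.SepOrth

/-!
# Separation in defining characteristic for all odd primes (helper126, task 1172 of helper903)

The statements of `SepMain`, `SepSpSU`, `SepOrth` with `3 ≤ p`.
-/

set_option autoImplicit false
set_option linter.unusedSectionVars false
set_option linter.unusedVariables false

namespace Cfsg.Agent.H126.SepThree

open Module Cfsg.Agent.H903.SylSemi Cfsg.Agent.H126.SepStep Cfsg.Agent.H126.SepMain Cfsg.Agent.H126.SepForm
  Cfsg.Agent.H126.SepInd Cfsg.Agent.H126.SepSpSU Cfsg.Agent.H126.SepOrth QuadraticMap Matrix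
  Cfsg.Agent.ClassicalGeometry.Reflection Cfsg.Agent.ClassicalGeometry.SpinorSign
  Cfsg.Agent.ClassicalGeometry.OmegaIndex

universe u v w

/-- `SL`. -/
theorem sepSL_char {p : ℕ} [Fact p.Prime] (hp : 3 ≤ p) {F : Type u} [Field F] [Finite F] [CharP F p]
    {V : Type v} [AddCommGroup V] [Module F V] [Finite V] (h2 : 2 ≤ Module.finrank F V) :
    Cfsg.Agent.H903.SylSemi.SepSL p F V := by
  intro Γ hΓ hsemi _
  have hP : PS p F Γ := ⟨hΓ, hsemi⟩
  have hpo : Odd p := (Fact.out (p := p.Prime)).odd_of_ne_two (by omega)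
  obtain ⟨C, Φ, hS⟩ := exists_dec (p := p) h2 hP
  have hP' := trG_PS (Φ := Φ) hP
  obtain ⟨g', hg', hPG⟩ := exists_PG_SL (p := p) (finrank F C) rfl (bar_PS hS hP')
  obtain ⟨u, hu⟩ := exists_gen_sq (F := F) hpo
  have key := sep hS hP' hg'.semi hPG 1 (-1) u u⁻¹ (by
    intro θ hθ c h1 h2 _
    apply hu θ hθ
    have hu0 := u.ne_zero
    have hθu : θ (u : F) ≠ 0 := by rw [Ne, map_eq_zero_iff θ θ.injective]; exact hu0
    rw [Units.val_inv_eq_inv_val, map_inv₀] at h2
    have h3 : (u : F) * (u : F)⁻¹ = c * θ u * (c * (θ u)⁻¹) := by rw [← h1, ← h2]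
    rw [mul_inv_cancel₀ hu0] at h3
    have h4 : c ^ 2 = 1 := by
      rw [h3]
      field_simp
    rw [map_pow]
    calc θ (u : F) ^ 2 = c ^ 2 * θ u ^ 2 := by rw [h4, one_mul]
      _ = (c * θ u) ^ 2 := by ring
      _ = _ := by rw [← h1])
  rcases key with key | key
  · refine ⟨(tr Φ).symm (gW 1 (-1) g'), ?_, SepBy_of_trG key⟩
    have h := isDet_tr_symm Φ (isDet_gW hg' 1 (-1))
    have e : -(((1 : Fˣ) : F) * ((-1 : Fˣ) : F)) * 1 = 1 := by simp
    rwa [e] at h
  · refine ⟨(tr Φ).symm (gW (1 * u) (-1 * u⁻¹) g'), ?_, SepBy_of_trG key⟩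
    have h := isDet_tr_symm Φ (isDet_gW hg' (1 * u) (-1 * u⁻¹))
    have e : -(((1 * u : Fˣ) : F) * ((-1 * u⁻¹ : Fˣ) : F)) * 1 = 1 := by
      have hu0 := u.ne_zero
      simp
    rwa [e] at h

/-- `Sp`. -/
theorem sepSp_char {p m : ℕ} [Fact p.Prime] (hp : 3 ≤ p) {F : Type} [Field F] [Fintype F] [CharP F p] (hm : 2 ≤ m) :
    Cfsg.Agent.H903.SylSemi.SepSp p F m := by
  intro Γ hΓ hsim _
  have hP : PSF p F (Cfsg.sympForm m F) Γ := ⟨hΓ, hsim⟩
  obtain ⟨g, h1, h3⟩ := sep_Sp (two_ne (by omega)) (sympForm_EH m F) (by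
    rw [finrank_fintype_fun_eq_card, Fintype.card_sum, Fintype.card_fin]
    omega) hP
  exact ⟨g, h1, h3⟩

/-- `SU`. -/
theorem sepSU_char {p n q : ℕ} [Fact p.Prime] (hp : 3 ≤ p) {F : Type} [Field F] [Fintype F] [CharP F p]
    (hF : Fintype.card F = q ^ 2) (hn : 3 ≤ n) : Cfsg.Agent.H903.SylSemi.SepSU p F n q := by
  have hF' : Nat.card F = q ^ 2 := by rw [Nat.card_eq_fintype_card, hF]
  have hpo : Odd p := (Fact.out (p := p.Prime)).odd_of_ne_two (by omega)
  -- `q` is a power of `p`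
  obtain ⟨k, hk⟩ : ∃ k, q = p ^ k := by
    obtain ⟨r, hr, hr2⟩ := FiniteField.card F p
    rw [hF] at hr2
    have hdvd : q ∣ p ^ (r : ℕ) := by
      rw [← hr2]
      exact dvd_pow_self q two_ne_zero
    obtain ⟨k, -, hk⟩ := (Nat.dvd_prime_pow hr).1 hdvd
    exact ⟨k, hk⟩
  have hinj : Function.Injective (iterateFrobenius F p k) := (iterateFrobenius F p k).injective
  let σ : F ≃+* F := RingEquiv.ofBijective (iterateFrobenius F p k) (Finite.injective_iff_bijective.1 hinj)
  have hq : ∀ x : F, σ x = x ^ q := by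
    intro x
    change iterateFrobenius F p k x = _
    rw [iterateFrobenius_def, hk]
  have hσ2 : ∀ a, σ (σ a) = a := by
    intro a
    rw [hq, hq, ← pow_mul, ← pow_two, ← hF, FiniteField.pow_card]
  have hq1 : 1 < q := by
    have := Fintype.one_lt_card (α := F)
    rw [hF] at this
    by_contra hcon
    have : q = 0 ∨ q = 1 := by omega
    rcases this with rfl | rfl <;> simp at this
  have hσ1 : σ ≠ 1 := by
    intro h
    obtain ⟨w, hw⟩ := IsCyclic.exists_generator (α := Fˣ)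
    have h1 : w ^ (q - 1) = 1 := by
      have h3 : σ (w : F) = w := by rw [h]; rfl
      rw [hq] at h3
      have h4 : w ^ q = w := Units.ext (by rw [Units.val_pow_eq_pow_val, h3])
      have h5 : w ^ (q - 1) * w = 1 * w := by rw [← pow_succ, show q - 1 + 1 = q by omega, h4, one_mul]
      exact mul_right_cancel h5
    have h3 : orderOf w = q ^ 2 - 1 := by
      rw [orderOf_eq_card_of_forall_mem_zpowers hw, Nat.card_units, hF']
    have h4 := Nat.le_of_dvd (by omega) (orderOf_dvd_of_pow_eq_one h1)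
    rw [h3] at h4
    have h5 : q < q ^ 2 := by nlinarith
    omega
  intro Γ hΓ hsim _
  have hP : PSF p F (Cfsg.hermForm n F q) Γ := ⟨hΓ, hsim⟩
  obtain ⟨g, ⟨h1, h3⟩, h4⟩ := sep_SU hpo (two_ne (by omega)) hσ2 hσ1 hq hF' (hermForm_EH hσ2 hq) (by
    rw [finrank_fintype_fun_eq_card, Fintype.card_fin]
    omega) hP
  exact ⟨g, ⟨h3, h1.2⟩, h4⟩

section final

variable {p m : ℕ} [Fact p.Prime] {F : Type} [Field F] [Fintype F] [CharP F p]

/-- **Task 462**, odd dimension. -/
theorem sepO_char_odd (hp : 3 ≤ p) (hm : 3 ≤ m) : SepO p F (Cfsg.quadFormOdd m F) := by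
  have hpo : Odd p := (Fact.out (p := p.Prime)).odd_of_ne_two (by omega)
  have h2 : (2 : F) ≠ 0 := two_ne (p := p) (by omega)
  have := sep_O hpo h2 (LieClassical.OmegaReindex.quadOdd m F) (LieClassical.OmegaReindex.quadOdd_nondegenerate h2) (by
    rw [Fintype.card_sum, Fintype.card_sum, Fintype.card_fin, Fintype.card_unit]
    omega)
  rwa [LieClassical.OmegaReindex.coe_quadOdd] at this

/-- **Task 462**, plus type. -/
theorem sepO_char_plus (hp : 3 ≤ p) (hm : 2 ≤ m) : SepO p F (Cfsg.quadFormPlus m F) := by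
  have hpo : Odd p := (Fact.out (p := p.Prime)).odd_of_ne_two (by omega)
  have h2 : (2 : F) ≠ 0 := two_ne (p := p) (by omega)
  have := sep_O hpo h2 (LieClassical.OmegaReindex.quadPlus m F) LieClassical.OmegaReindex.quadPlus_nondegenerate (by
    rw [Fintype.card_sum, Fintype.card_fin]
    omega)
  rwa [LieClassical.OmegaReindex.coe_quadPlus] at this

/-- **Task 462**, minus type. -/
theorem sepO_char_minus (hp : 3 ≤ p) (hm : 1 ≤ m) {a b : F}
    (hab : ∀ z₁ z₂ : F, z₁ ^ 2 + a * z₁ * z₂ + b * z₂ ^ 2 = 0 → z₁ = 0 ∧ z₂ = 0) :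
    SepO p F (Cfsg.quadFormMinus m F a b) := by
  have hpo : Odd p := (Fact.out (p := p.Prime)).odd_of_ne_two (by omega)
  have h2 : (2 : F) ≠ 0 := two_ne (p := p) (by omega)
  have := sep_O hpo h2 (LieClassical.OmegaReindex.quadMinus m F a b)
    (LieClassical.OmegaReindex.quadMinus_nondegenerate hab) (by
    rw [Fintype.card_sum, Fintype.card_sum, Fintype.card_fin, Fintype.card_fin]
    omega)
  rwa [LieClassical.OmegaReindex.coe_quadMinus] at this

end final

end Cfsg.Agent.H126.SepThree
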