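import Cfsg.Agent.H126.StarTwoTrans
import Cfsg.Agent.H679.CycTrans
import Cfsg.Agent.SignalizersComponents.ComponentExists
import Cfsg.Agent.Lib.Cores
import Cfsg.Agent.S0205
import Cfsg.Agent.S0007

/-!
# The Hall case (helper126, market task 99 of helper538)
-/

set_option autoImplicit false

open scoped Pointwise

namespace Cfsg.Agent.H126.StarHall

open Cfsg.Agent.H538.RealGraph Cfsg.Agent.H538.SM

universe u v

/-- an extension of a solvable group by a solvable group -/
theorem solvable_ext {G : Type*} [Group G] (N : Subgroup G) [N.Normal] (h1 : Group.IsSolvable N)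
    (h2 : Group.IsSolvable (G ⧸ N)) : Group.IsSolvable G :=
  Group.isSolvable_of_ker_le_range N.subtype (QuotientGroup.mk' N) (by
    rw [QuotientGroup.ker_mk', Subgroup.range_subtype])

/-- central subgroups are solvable -/
theorem solvable_of_le_center {G : Type*} [Group G] (N : Subgroup G) (h : N ≤ Subgroup.center G) :
    Group.IsSolvable N :=
  Group.isSolvable_of_comm fun a b => Subtype.ext
    ((Subgroup.mem_center_iff.1 (h a.2) (b : G)).symm)

/-- a cyclic normal subgroup of a perfect group is central -/
theorem cyclic_le_center {G : Type*} [Group G] (hG : commutator G = ⊤) (N : Subgroup G)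
    [hN : N.Normal] (hc : IsCyclic N) : N ≤ Subgroup.center G := by
  let f : G →* (ZMod (Nat.card N))ˣ := (IsCyclic.mulAutMulEquiv N).toMonoidHom.comp MulAut.conjNormal
  have h1 := Abelianization.commutator_subset_ker f
  rw [hG] at h1
  intro n hn
  rw [Subgroup.mem_center_iff]
  intro g
  have h2 : f g = 1 := h1 (Subgroup.mem_top g)
  have h3 : MulAut.conjNormal g = (1 : MulAut N) := (IsCyclic.mulAutMulEquiv N).injective (by
    rw [map_one]; exact h2)
  have h4 := congrArg (fun e : MulAut N => ((e ⟨n, hn⟩ : N) : G)) h3
  simp only [MulAut.conjNormal_apply, MulAut.one_apply] at h4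
  calc g * n = g * n * g⁻¹ * g := by group
    _ = n * g := by rw [h4]

theorem solvable_of_hall_aux {W : Type v} [AddCommGroup W] [Finite W] :
    ∀ (n : ℕ) (G : Type u) [Group G] [Finite G] [DistribMulAction G W], Nat.card G ≤ n →
      SMod G W → ∀ Y : Subgroup G, IsCyclic Y →
      (∀ w : W, w ≠ 0 → (MulAction.stabilizer G w).index = Nat.card Y ∧
        (Nat.card Y).Coprime (Nat.card (MulAction.stabilizer G w))) → Group.IsSolvable G := by
  intro n
  induction n with
  | zero =>
    intro G _ _ _ hn
    have : 0 < Nat.card G := Nat.card_pos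
    omega
  | succ n ih =>
    intro G _ _ _ hn h Y hY hYw
    by_contra hns
    -- a non-zero vector
    obtain ⟨w₀, hw₀⟩ : ∃ w : W, w ≠ 0 := by
      by_contra hne
      push Not at hne
      have : Subsingleton G := ⟨fun a b => by
        rw [h.faithful a (fun w => by rw [hne w, smul_zero]),
          h.faithful b (fun w => by rw [hne w, smul_zero])]⟩
      exact hns inferInstance
    -- orders
    have hYcard : ∀ w : W, w ≠ 0 →
        Nat.card Y * Nat.card (MulAction.stabilizer G w) = Nat.card G := by
      intro w hw
      rw [← (hYw w hw).1, mul_comm]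
      exact Subgroup.card_mul_index _
    have hYidx : ∀ w : W, w ≠ 0 → Y.index = Nat.card (MulAction.stabilizer G w) := by
      intro w hw
      have h1 := Y.card_mul_index
      rw [← hYcard w hw] at h1
      exact Nat.eq_of_mul_eq_mul_left Nat.card_pos h1
    -- proper normal subgroups are solvable
    have hprop : ∀ N : Subgroup G, N.Normal → N ≠ ⊤ → Group.IsSolvable N := by
      intro N hN hNt
      have hlt : Nat.card N < Nat.card G := by
        rcases lt_or_ge (Nat.card N) (Nat.card G) with h1 | h1
        · exact h1
        · exact absurd (Subgroup.eq_top_of_le_card N h1) hNt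
      have hcyc : IsCyclic (Y.subgroupOf N) := by
        let f : (Y.subgroupOf N) →* Y :=
          { toFun := fun x => ⟨((x : N) : G), Subgroup.mem_subgroupOf.1 x.2⟩
            map_one' := rfl
            map_mul' := fun _ _ => rfl }
        exact isCyclic_of_injective f
          (fun a b hab => Subtype.ext (Subtype.ext (congrArg (fun y : Y => (y : G)) hab)))
      refine ih N (by omega) (h.sub N) (Y.subgroupOf N) hcyc ?_
      intro w hw
      have hstab : MulAction.stabilizer N w = (MulAction.stabilizer G w).subgroupOf N := by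
        ext g; rfl
      -- the four numbers
      have a1 : (MulAction.stabilizer N w).index ∣ Nat.card Y := by
        rw [← (hYw w hw).1]; exact stab_index_dvd N w
      have a2 : (Y.subgroupOf N).index ∣ Nat.card (MulAction.stabilizer G w) := by
        rw [← hYidx w hw]
        exact Cfsg.Agent.Lib.GoldschmidtFusion.relIndex_dvd_index_of_normal_right _ _
      have a3 : Nat.card (Y.subgroupOf N) ∣ Nat.card Y := by
        rw [← Subgroup.card_map_of_injective (f := N.subtype) N.subtype_injective,
          Subgroup.subgroupOf_map_subtype]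
        exact Subgroup.card_dvd_of_le inf_le_left
      have a4 : Nat.card (MulAction.stabilizer N w) ∣ Nat.card (MulAction.stabilizer G w) := by
        rw [hstab, ← Subgroup.card_map_of_injective (f := N.subtype) N.subtype_injective,
          Subgroup.subgroupOf_map_subtype]
        exact Subgroup.card_dvd_of_le inf_le_left
      have a5 := (MulAction.stabilizer N w).card_mul_index
      have a6 := (Y.subgroupOf N).card_mul_index
      have hcop := (hYw w hw).2
      have hc1 : (MulAction.stabilizer N w).index.Coprime (Y.subgroupOf N).index :=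
        (hcop.coprime_dvd_left a1).coprime_dvd_right a2
      have hc2 : (Nat.card (Y.subgroupOf N)).Coprime (Nat.card (MulAction.stabilizer N w)) :=
        (hcop.coprime_dvd_left a3).coprime_dvd_right a4
      refine ⟨Nat.dvd_antisymm ?_ ?_, hc2⟩
      · apply hc1.dvd_of_dvd_mul_right
        rw [a6, ← a5]
        exact Dvd.intro_left _ rfl
      · apply hc2.dvd_of_dvd_mul_left
        rw [a5, ← a6]
        exact Dvd.intro _ rfl
    -- `G` is perfect
    have hperf : commutator G = ⊤ := by
      by_contra hc
      apply hns
      have h1 := hprop (commutator G) inferInstance hc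
      have h2 : Group.IsSolvable (G ⧸ commutator G) := by
        change Group.IsSolvable (Abelianization G)
        infer_instance
      exact solvable_ext _ h1 h2
    -- normal `p`-subgroups lie in `Y`
    have hcore : ∀ p : ℕ, p.Prime → Cfsg.pCore p G ≤ Y := by
      intro p hp
      have := Fact.mk hp
      by_cases hpd : p ∣ Nat.card (MulAction.stabilizer G w₀)
      · have hcY : ¬ p ∣ Nat.card Y := fun hd =>
          hp.one_lt.ne' (Nat.dvd_one.1 ((hYw w₀ hw₀).2.gcd_eq_one ▸ Nat.dvd_gcd hd hpd))
        have hfix : ∀ g ∈ Cfsg.pCore p G, ∀ w : W, g • w = w := by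
          intro g hg w
          by_cases hw : w = 0
          · rw [hw, smul_zero]
          have h1 : ¬ p ∣ (MulAction.stabilizer G w).index := by
            rw [(hYw w hw).1]; exact hcY
          obtain ⟨P, hP⟩ := exists_sylow_le (p := p) _ h1
          exact hP (Cfsg.Agent.Lib.Cores.pCore_le_sylow P hg)
        intro g hg
        rw [h.faithful g (hfix g hg)]
        exact one_mem _
      · have h1 : ¬ p ∣ Y.index := by rw [hYidx w₀ hw₀]; exact hpd
        obtain ⟨P, hP⟩ := exists_sylow_le (p := p) _ h1
        exact (Cfsg.Agent.Lib.Cores.pCore_le_sylow P).trans hP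
    -- the Fitting subgroup is central
    have hFY : Cfsg.fittingSubgroup G ≤ Y := by
      rw [Cfsg.Agent.Lib.Cores.fittingSubgroup_eq_iSup_pCore]
      exact iSup_le fun p => hcore p p.2
    have hFn : (Cfsg.fittingSubgroup G).Normal := Cfsg.Agent.Lib.Cores.fittingSubgroup_normal
    have hFcyc : IsCyclic (Cfsg.fittingSubgroup G) :=
      isCyclic_of_injective (Subgroup.inclusion hFY) (Subgroup.inclusion_injective hFY)
    have hFc : Cfsg.fittingSubgroup G ≤ Subgroup.center G := cyclic_le_center hperf _ hFcyc
    have hcent : ∀ N : Subgroup G, N.Normal → N ≠ ⊤ → N ≤ Subgroup.center G := by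
      intro N hN hNt
      refine (Cfsg.Agent.SignalizersComponents.ComponentExists.le_fitting_of_normal_of_isSolvable hN
        (hprop N hN hNt) ?_).trans hFc
      intro g _
      rw [Subgroup.mem_centralizer_iff]
      intro f hf
      exact (Subgroup.mem_center_iff.1 (hFc hf) g).symm
    -- a Sylow 2-subgroup
    obtain ⟨P, hP⟩ := h.exists_sylow hw₀
    obtain ⟨z, hz⟩ : ∃ z : G, orderOf z = 2 := by
      by_contra hcon
      apply hns
      apply Cfsg.Agent.S0205.result
      rw [← Nat.not_even_iff_odd, even_iff_two_dvd]
      intro h2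
      exact hcon (exists_prime_orderOf_dvd_card' 2 h2)
    have hnt : Nontrivial (Sylow 2 G) := by
      by_contra hcon
      rw [not_nontrivial_iff_subsingleton] at hcon
      have hPn : (P : Subgroup G).Normal := Sylow.normal_of_subsingleton P
      obtain ⟨Q, hQ⟩ := exists_mem_sylow (x := z) (p := 2) (k := 1) (by rw [hz]; rfl)
      have hQP : Q = P := Subsingleton.elim _ _
      rw [hQP] at hQ
      have := h.normal_two (P : Subgroup G) hPn P.isPGroup' hQ
      rw [this, orderOf_one] at hz
      exact absurd hz (by decide)
    -- factorization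
    have hfac : ∀ g : G, ∃ y ∈ Y, ∃ k ∈ MulAction.stabilizer G w₀, g = y * k := by
      refine (Cfsg.Agent.S0007.result Y (MulAction.stabilizer G w₀) ?_).2
      rw [hYidx w₀ hw₀, (hYw w₀ hw₀).1]
      exact (hYw w₀ hw₀).2.symm
    have hle : MulAction.stabilizer G w₀ ≤ MulAction.stabilizer G P := fun g hg =>
      h.smul_eq_of_fix hw₀ hP hg
    have hYcomm : ∀ a ∈ Y, ∀ b ∈ Y, a * b = b * a := by
      intro a ha b hb
      exact congrArg Subtype.val ((@IsCyclic.commGroup Y _ hY).mul_comm (⟨a, ha⟩ : Y) ⟨b, hb⟩)
    have hZB : Subgroup.center G ≤ MulAction.stabilizer G P := by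
      intro c hc
      rw [MulAction.mem_stabilizer_iff]
      apply Sylow.smul_eq_iff_mem_normalizer.2
      exact Subgroup.center_le_normalizer _ hc
    -- primitivity
    have hprim : MulAction.IsPreprimitive G (Sylow 2 G) := by
      rw [← MulAction.isCoatom_stabilizer_iff_preprimitive G P]
      constructor
      · intro htop
        obtain ⟨Q, hQ⟩ := exists_ne P
        obtain ⟨g, hg⟩ := MulAction.exists_smul_eq G P Q
        have : g ∈ MulAction.stabilizer G P := by rw [htop]; trivial
        rw [MulAction.mem_stabilizer_iff] at this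
        exact hQ (hg ▸ this)
      · intro M hM
        by_contra hMt
        have hBM : MulAction.stabilizer G P ≤ M := hM.le
        set N := Subgroup.normalClosure ((Y ⊓ M : Subgroup G) : Set G) with hNdef
        have hNM : N ≤ M := by
          rw [hNdef, Subgroup.normalClosure, Subgroup.closure_le]
          intro x hx
          rw [Group.mem_conjugatesOfSet_iff] at hx
          obtain ⟨c, hc, hcx⟩ := hx
          obtain ⟨g, rfl⟩ := isConj_iff.1 hcx
          obtain ⟨y, hy, k, hk, hgk⟩ := hfac g⁻¹
          have hg : g = k⁻¹ * y⁻¹ := by rw [← mul_inv_rev, ← hgk, inv_inv]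
          have h1 : g * c * g⁻¹ = k⁻¹ * c * k := by
            rw [hg]
            have h2 : y⁻¹ * c = c * y⁻¹ := hYcomm _ (inv_mem hy) _ hc.1
            calc k⁻¹ * y⁻¹ * c * (k⁻¹ * y⁻¹)⁻¹ = k⁻¹ * (y⁻¹ * c) * y * k := by group
              _ = k⁻¹ * (c * y⁻¹) * y * k := by rw [h2]
              _ = _ := by group
          rw [h1]
          have hkM : k ∈ M := hBM (hle hk)
          exact M.mul_mem (M.mul_mem (M.inv_mem hkM) hc.2) hkM
        have hNc : N ≤ Subgroup.center G := by
          apply hcent N Subgroup.normalClosure_normal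
          intro ht
          apply hMt
          rw [ht] at hNM
          exact top_le_iff.1 hNM
        apply hM.not_ge
        intro x hx
        obtain ⟨y, hy, k, hk, hxk⟩ := hfac x
        have hkM : k ∈ M := hBM (hle hk)
        have hyM : y ∈ M := by
          have : y = x * k⁻¹ := by rw [hxk]; group
          rw [this]; exact M.mul_mem hx (M.inv_mem hkM)
        have hyc : y ∈ Subgroup.center G :=
          hNc (Subgroup.subset_normalClosure ⟨hy, hyM⟩)
        rw [hxk]
        exact mul_mem (hZB hyc) (hle hk)
    -- `Y` is transitive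
    have hYtr : MulAction.IsPretransitive Y (Sylow 2 G) := by
      have h1 : ∀ Q : Sylow 2 G, ∃ y : Y, y • P = Q := by
        intro Q
        obtain ⟨g, hg⟩ := MulAction.exists_smul_eq G P Q
        obtain ⟨y, hy, k, hk, hgk⟩ := hfac g
        refine ⟨⟨y, hy⟩, ?_⟩
        change y • P = Q
        rw [← hg, hgk, mul_smul, (hle hk : k • P = P)]
      refine ⟨fun Q R => ?_⟩
      obtain ⟨a, ha⟩ := h1 Q
      obtain ⟨b, hb⟩ := h1 R
      exact ⟨b * a⁻¹, by rw [← ha, mul_smul, inv_smul_smul, hb]⟩
    rcases Cfsg.Agent.H679.two_transitive_or_solvable_of_cyclic hprim inferInstance Y hY hYtr with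
      h2 | h2
    · exact hns (h.solvable_of_card_sq P
        (Cfsg.Agent.H126.StarTwoTrans.card_sq_of_two_transitive h ⟨w₀, hw₀⟩ hz h2 P))
    · apply hns
      refine solvable_ext _ (solvable_of_le_center _ (hcent _ inferInstance ?_)) h2
      intro htop
      obtain ⟨Q, hQ⟩ := exists_ne P
      obtain ⟨g, hg⟩ := MulAction.exists_smul_eq G P Q
      have h3 : g ∈ (MulAction.toPermHom G (Sylow 2 G)).ker := by rw [htop]; trivial
      rw [MonoidHom.mem_ker] at h3
      have h4 := congrArg (fun e : Equiv.Perm (Sylow 2 G) => e P) h3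
      exact hQ (hg ▸ h4)

theorem solvable_of_hall {G W : Type*} [Group G] [AddCommGroup W] [DistribMulAction G W] [Finite G] [Finite W]
    (h : SMod G W) (Y : Subgroup G) (hY : IsCyclic Y)
    (hYw : ∀ w : W, w ≠ 0 → (MulAction.stabilizer G w).index = Nat.card Y ∧
      (Nat.card Y).Coprime (Nat.card (MulAction.stabilizer G w))) : Group.IsSolvable G :=
  solvable_of_hall_aux (Nat.card G) G le_rfl h Y hY hYw

end Cfsg.Agent.H126.StarHall
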